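import Mathlib.Algebra.Category.ModuleCat.Presheaf.Sheafification
import Mathlib.Algebra.Category.ModuleCat.Presheaf.Colimits
import Mathlib.Algebra.Category.ModuleCat.Sheaf.Colimits

/-! The forgetful functor from sheaves of modules to abelian sheaves is exact. -/

set_option autoImplicit false

noncomputable section

universe v' u' u

open CategoryTheory Limits

namespace Groth.Agent.QC70

variable {C : Type u'} [Category.{v'} C] {J : GrothendieckTopology C}
  (R : Sheaf J RingCat.{u}) [HasSheafify J AddCommGrpCat.{u}]
  [J.WEqualsLocallyBijective AddCommGrpCat.{u}]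

/-- Forgetting from sheaves of modules to abelian sheaves commutes with small colimits. -/
instance preservesColimit_toSheaf {K : Type} [SmallCategory K] [HasColimitsOfShape K AddCommGrpCat.{u}] :
    PreservesColimitsOfShape K (SheafOfModules.toSheaf.{u} R) where
  preservesColimit {D} := by
    let adj := PresheafOfModules.sheafificationAdjunction.{u} (𝟙 R.obj)
    let sh := PresheafOfModules.sheafification.{u} (𝟙 R.obj)
    let G := SheafOfModules.forget R ⋙ PresheafOfModules.restrictScalars (𝟙 R.obj)
    have : PreservesColimitsOfShape K sh := adj.leftAdjoint_preservesColimits.preservesColimitsOfShape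
    have : PreservesColimitsOfShape K (sh ⋙ SheafOfModules.toSheaf R) :=
      preservesColimitsOfShape_of_natIso (PresheafOfModules.sheafificationCompToSheaf (𝟙 R.obj)).symm
    let t := colimit.cocone (D ⋙ G)
    let ht : IsColimit t := colimit.isColimit _
    have h1 : PreservesColimit ((D ⋙ G) ⋙ sh) (SheafOfModules.toSheaf R) :=
      preservesColimit_of_preserves_colimit_cocone (isColimitOfPreserves sh ht)
        (isColimitOfPreserves (sh ⋙ SheafOfModules.toSheaf R) ht)
    have hc : IsIso adj.counit := inferInstance
    exact preservesColimit_of_iso_diagram (K₁ := (D ⋙ G) ⋙ sh) _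
      (Functor.associator _ _ _ ≪≫ Functor.isoWhiskerLeft D (asIso adj.counit) ≪≫ D.rightUnitor)

instance : (SheafOfModules.toSheaf.{u} R).PreservesEpimorphisms :=
  inferInstance

instance : PreservesFiniteColimits (SheafOfModules.toSheaf.{u} R) :=
  ⟨fun K _ _ => inferInstance⟩

end Groth.Agent.QC70
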