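import Groth.Agent.QC70.Res
import Groth.Agent.QC70.ToSheaf
import Mathlib.Algebra.Homology.ShortComplex.ExactFunctor
import Mathlib.Algebra.Homology.ShortComplex.Ab
import Mathlib.Topology.Sheaves.LocallySurjective
import Mathlib.CategoryTheory.Sites.Abelian
import Mathlib.CategoryTheory.Abelian.GrothendieckAxioms.Sheaf
import Mathlib.Algebra.Category.Grp.AB

set_option autoImplicit false
set_option backward.isDefEq.respectTransparency.types false

/-! Sections of kernels and epimorphisms of modules on a scheme. -/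

noncomputable section

universe u

open CategoryTheory Limits AlgebraicGeometry TopologicalSpace Opposite

namespace Groth.Agent.QC70

variable {X : Scheme.{u}} {M N : X.Modules}

variable (X) in
/-- The underlying abelian sheaf, as a functor on modules over a scheme. -/
def abSheafFunctor : X.Modules ⥤ Sheaf (Opens.grothendieckTopology X) AddCommGrpCat.{u} :=
  SheafOfModules.toSheaf X.ringCatSheaf

instance : (abSheafFunctor X).PreservesEpimorphisms :=
  inferInstanceAs (SheafOfModules.toSheaf.{u} X.ringCatSheaf).PreservesEpimorphisms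

variable (X) in
/-- Sections over `U`, as abelian groups. -/
def sectionsFunctor (U : X.Opens) : X.Modules ⥤ AddCommGrpCat.{u} :=
  Scheme.Modules.toPresheaf X ⋙ (evaluation _ _).obj (op U)

lemma sectionsFunctor_map (U : X.Opens) (φ : M ⟶ N) : (sectionsFunctor X U).map φ = φ.app U := rfl

instance (U : X.Opens) : PreservesFiniteLimits (sectionsFunctor X U) := by
  have : PreservesFiniteLimits (Scheme.Modules.toPresheaf X) :=
    PreservesLimitsOfSize.preservesFiniteLimits (Scheme.Modules.toPresheaf X)
  have : PreservesFiniteLimits ((evaluation (Opens X)ᵒᵖ AddCommGrpCat.{u}).obj (op U)) :=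
    ⟨fun K _ _ => evaluation_preservesLimitsOfShape _⟩
  exact comp_preservesFiniteLimits (Scheme.Modules.toPresheaf X) _

instance (U : X.Opens) : (sectionsFunctor X U).Additive where
  map_add := rfl

lemma app_injective_of_mono (φ : M ⟶ N) [Mono φ] (U : X.Opens) : Function.Injective (φ.app U) := by
  have : Mono ((sectionsFunctor X U).map φ) := inferInstance
  exact (AddCommGrpCat.mono_iff_injective _).mp this

lemma mono_of_app_injective (φ : M ⟶ N) (h : ∀ U, Function.Injective (φ.app U)) : Mono φ :=
  ⟨fun a b e => by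
    ext U x
    exact h U congr(($e).app U x)⟩

lemma exists_app_eq_of_exact (S : ShortComplex X.Modules) (hS : S.Exact) [Mono S.f]
    (U : X.Opens) (x : Γ(S.X₂, U)) (hx : S.g.app U x = 0) : ∃ y, S.f.app U y = x :=
  (ShortComplex.ab_exact_iff _).mp (hS.map_of_mono_of_preservesKernel (sectionsFunctor X U)
    inferInstance inferInstance) x hx

lemma app_f_g (S : ShortComplex X.Modules) (U : X.Opens) (x : Γ(S.X₁, U)) :
    S.g.app U (S.f.app U x) = 0 := by
  exact congr((Scheme.Modules.Hom.app $S.zero U) x)

lemma exists_kernel_app_eq (φ : M ⟶ N) (U : X.Opens) (x : Γ(M, U)) (hx : φ.app U x = 0) :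
    ∃ y, (kernel.ι φ).app U y = x :=
  exists_app_eq_of_exact (ShortComplex.mk (kernel.ι φ) φ (kernel.condition φ))
    (ShortComplex.exact_of_f_is_kernel _ (kernelIsKernel φ)) U x hx

/-- An epimorphism of modules is locally surjective on sections. -/
lemma exists_local_lift (φ : M ⟶ N) [Epi φ] {U : X.Opens} (s : Γ(N, U)) {p : X} (hp : p ∈ U) :
    ∃ (V : X.Opens) (h : V ≤ U) (t : Γ(M, V)), p ∈ V ∧ φ.app V t = res N h s := by
  have h1 : Epi ((abSheafFunctor X).map φ) := inferInstance
  have h2 := (TopCat.Sheaf.isLocallySurjective_iff_epi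
    ((abSheafFunctor X).map φ)).mpr h1
  obtain ⟨V, i, ⟨t, ht⟩, hpV⟩ := (TopCat.Presheaf.isLocallySurjective_iff _).mp h2 U s p hp
  exact ⟨V, i, t, hpV, ht⟩

lemma epi_of_locally_surjective (φ : M ⟶ N)
    (h : ∀ (U : X.Opens) (s : Γ(N, U)) (p : X), p ∈ U →
      ∃ (V : X.Opens) (hV : V ≤ U) (t : Γ(M, V)), p ∈ V ∧ φ.app V t = res N hV s) : Epi φ := by
  refine ⟨fun {K} a b e => ?_⟩
  ext U s
  refine section_ext K _ _ fun p hp => ?_
  obtain ⟨V, hV, t, hpV, ht⟩ := h U s p hp
  refine ⟨V, hV, hpV, ?_⟩
  rw [← app_res, ← app_res, ← ht]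
  exact congr(($e).app V t)

end Groth.Agent.QC70
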