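import Groth.Agent.QC70.FiniteType
import Mathlib.AlgebraicGeometry.Noetherian
import Mathlib.RingTheory.Noetherian.Basic

set_option autoImplicit false
set_option backward.isDefEq.respectTransparency.types false

/-! Coherent modules on locally Noetherian schemes. -/

noncomputable section

universe u

open CategoryTheory Limits AlgebraicGeometry TopologicalSpace Opposite

namespace Groth.Agent.QC70

variable {X : Scheme.{u}}

/-- Sections of a morphism as a linear map. -/
def appLinear {M N : X.Modules} (φ : M ⟶ N) (U : X.Opens) :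
    Γ(M, U) →ₗ[Γ(X, U)] Γ(N, U) where
  toFun := φ.app U
  map_add' := map_add _
  map_smul' r x := Scheme.Modules.Hom.app_smul φ r x

lemma isFiniteType_of_iso {M N : X.Modules} (e : M ≅ N) [M.IsFiniteType] : N.IsFiniteType :=
  isFiniteType_of_epi e.hom

lemma isFiniteType_of_mono [IsLocallyNoetherian X] {M N : X.Modules} (φ : M ⟶ N) [Mono φ]
    [M.IsQuasicoherent] [N.IsQuasicoherent] [N.IsFiniteType] : M.IsFiniteType := by
  refine isFiniteType_of_finite_sections M (fun i : X.affineOpens => i.1)
    (iSup_affineOpens_eq_top X) (fun i => i.2) fun i => ?_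
  have := finite_sections_of_isFiniteType N i.2
  have := IsLocallyNoetherian.component_noetherian i
  exact Module.Finite.of_injective (appLinear φ i.1) (app_injective_of_mono φ i.1)

lemma isFiniteType_X₂ (S : ShortComplex X.Modules) (hS : S.ShortExact) [S.X₁.IsQuasicoherent]
    [S.X₃.IsQuasicoherent] [S.X₁.IsFiniteType] [S.X₃.IsFiniteType] : S.X₂.IsFiniteType := by
  have := isQuasicoherent_X₂ S hS
  have := hS.mono_f
  refine isFiniteType_of_finite_sections S.X₂ (fun i : X.affineOpens => i.1)
    (iSup_affineOpens_eq_top X) (fun i => i.2) fun i => ?_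
  have := finite_sections_of_isFiniteType S.X₁ i.2
  have := finite_sections_of_isFiniteType S.X₃ i.2
  refine Module.Finite.of_exact (f := appLinear S.f i.1) (g := appLinear S.g i.1) ?_
    (app_surjective_of_isAffineOpen S hS i.2)
  exact fun y => ⟨fun hy => exists_app_eq_of_exact S hS.exact _ y hy,
    fun ⟨x, hx⟩ => hx ▸ app_f_g S _ x⟩

lemma isFiniteType_cokernel {M N : X.Modules} (φ : M ⟶ N) [N.IsFiniteType] :
    (cokernel φ).IsFiniteType :=
  isFiniteType_of_epi (cokernel.π φ)

lemma isFiniteType_kernel [IsLocallyNoetherian X] {M N : X.Modules} (φ : M ⟶ N)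
    [M.IsQuasicoherent] [M.IsFiniteType] [N.IsQuasicoherent] : (kernel φ).IsFiniteType :=
  have := isQuasicoherent_kernel φ
  isFiniteType_of_mono (kernel.ι φ)

end Groth.Agent.QC70
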