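import Groth.Agent.QC70.Closure

set_option autoImplicit false
set_option backward.isDefEq.respectTransparency.types false

/-! Quasi-coherent modules are closed under small colimits; `M|U ≅ tilde Γ(M, U)` on affines. -/

noncomputable section

universe u

open CategoryTheory Limits AlgebraicGeometry TopologicalSpace Opposite

namespace Groth.Agent.QC70

variable {X : Scheme.{u}}

/-- A quasi-coherent module on an affine open is the tilde of its sections. -/
def tildeIsoSpecRes (M : X.Modules) [M.IsQuasicoherent] {U : X.Opens} (hU : IsAffineOpen U) :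
    tilde (moduleSpecΓFunctor.obj (specRes M hU)) ≅ specRes M hU :=
  @asIso _ _ _ _ (specRes M hU).fromTildeΓ
    ((isLocAt_iff_isIso_fromTildeΓ M hU).mp (isLocAt_of_isQuasicoherent M hU))

/-- A colimit of quasi-coherent modules on an affine scheme is the tilde of a module. -/
lemma isIso_fromTildeΓ_colimit {R : CommRingCat.{u}} {J : Type u} [SmallCategory J]
    (D : J ⥤ (Spec R).Modules) (h : ∀ j, IsIso (D.obj j).fromTildeΓ) {c : Cocone D}
    (hc : IsColimit c) : IsIso c.pt.fromTildeΓ := by
  let α : (D ⋙ moduleSpecΓFunctor) ⋙ tilde.functor R ⟶ D :=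
    Functor.whiskerLeft D Scheme.Modules.fromTildeΓNatTrans
  have : ∀ j, IsIso (α.app j) := h
  have : IsIso α := NatIso.isIso_of_isIso_app _
  rw [isIso_fromTildeΓ_iff]
  have : PreservesColimitsOfShape J (tilde.functor R) :=
    (tilde.adjunction (R := R)).leftAdjoint_preservesColimits.preservesColimitsOfShape
  exact ⟨colimit (D ⋙ moduleSpecΓFunctor),
    ⟨(isColimitOfPreserves (tilde.functor R) (colimit.isColimit _)).coconePointsIsoOfNatIso hc
      (asIso α)⟩⟩

/-- Quasi-coherent modules are closed under small colimits. -/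
theorem isQuasicoherent_colimit {J : Type u} [SmallCategory J] (D : J ⥤ X.Modules)
    (h : ∀ j, (D.obj j).IsQuasicoherent) {c : Cocone D} (hc : IsColimit c) :
    c.pt.IsQuasicoherent := by
  refine isQuasicoherent_of_forall_isLocAt _ fun U hU => ?_
  rw [isLocAt_iff_isIso_fromTildeΓ _ hU]
  let F := Scheme.Modules.restrictFunctor hU.fromSpec
  have : PreservesColimitsOfShape J F :=
    (Scheme.Modules.restrictAdjunction hU.fromSpec).leftAdjoint_preservesColimits.preservesColimitsOfShape
  refine isIso_fromTildeΓ_colimit (R := Γ(X, U)) (D ⋙ F) (fun j => ?_)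
    (c := F.mapCocone c) (isColimitOfPreserves F hc)
  have := h j
  exact (isLocAt_iff_isIso_fromTildeΓ _ hU).mp (isLocAt_of_isQuasicoherent _ hU)

theorem isQuasicoherent_coproduct {ι : Type u} (M : ι → X.Modules)
    (h : ∀ i, (M i).IsQuasicoherent) : (∐ M).IsQuasicoherent :=
  isQuasicoherent_colimit (Discrete.functor M) (fun i => h i.as) (colimit.isColimit _)

theorem isQuasicoherent_of_isZero {M : X.Modules} (h : IsZero M) : M.IsQuasicoherent := by
  have h0 : IsZero (∐ (PEmpty.elim : PEmpty.{u + 1} → X.Modules)) := by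
    rw [IsZero.iff_id_eq_zero]
    exact Sigma.hom_ext _ _ fun i => i.elim
  exact isQuasicoherent_of_iso (h0.iso h) (isQuasicoherent_coproduct _ fun i => i.elim)

end Groth.Agent.QC70
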