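import Groth.Agent.QC70.Coherent
import Groth.Agent.QC70.Colim

set_option autoImplicit false
set_option backward.isDefEq.respectTransparency.types false

/-!
Local morphisms of modules (`HomOn`), their gluing, and morphisms out of a quasi-coherent module on
an affine open from linear maps on sections.
-/

noncomputable section

universe u

open CategoryTheory Limits AlgebraicGeometry TopologicalSpace Opposite

namespace Groth.Agent.QC70

variable {X : Scheme.{u}} {M N P : X.Modules}

/-- A morphism `M|U ⟶ N|U`, given on the sections over opens contained in `U`. -/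
@[ext]
structure HomOn (M N : X.Modules) (U : X.Opens) where
  /-- the maps on sections -/
  app : ∀ W : X.Opens, W ≤ U → (Γ(M, W) →ₗ[Γ(X, W)] Γ(N, W))
  app_res : ∀ {W W' : X.Opens} (hW : W ≤ U) (h : W' ≤ W) (s : Γ(M, W)),
    app W' (h.trans hW) (res M h s) = res N h (app W hW s)

namespace HomOn

variable {U V : X.Opens}

/-- Restriction to a smaller open. -/
def mono (φ : HomOn M N U) (h : V ≤ U) : HomOn M N V where
  app W hW := φ.app W (hW.trans h)
  app_res hW h' s := φ.app_res (hW.trans h) h' s

/-- The local morphism attached to a morphism. -/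
def ofHom (φ : M ⟶ N) (U : X.Opens) : HomOn M N U where
  app W _ := appLinear φ W
  app_res _ h s := QC70.app_res φ h s

@[simp]
lemma ofHom_app (φ : M ⟶ N) {W : X.Opens} (hW : W ≤ U) (s : Γ(M, W)) :
    (ofHom φ U).app W hW s = φ.app W s := rfl

/-- Composition. -/
def comp (φ : HomOn M N U) (ψ : HomOn N P U) : HomOn M P U where
  app W hW := (ψ.app W hW).comp (φ.app W hW)
  app_res hW h s := by
    simp only [LinearMap.comp_apply]
    rw [φ.app_res, ψ.app_res]

/-- A morphism from linear maps on all sections. -/
def toHom (φ : HomOn M N ⊤) : M ⟶ N :=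
  ⟨PresheafOfModules.homMk
    { app := fun W => AddCommGrpCat.ofHom (φ.app W.unop le_top).toAddMonoidHom
      naturality := fun {V W} i => by
        ext s
        exact φ.app_res le_top i.unop.le s }
    (fun W r m => (φ.app W.unop le_top).map_smul (show Γ(X, W.unop) from r)
      (show Γ(M, W.unop) from m))⟩

@[simp]
lemma toHom_app (φ : HomOn M N ⊤) (W : X.Opens) (s : Γ(M, W)) :
    φ.toHom.app W s = φ.app W le_top s := rfl

lemma range_le (W : (U : Scheme.{u}).Opens) : U.ι ''ᵁ W ≤ U :=
  (U.ι.image_mono le_top).trans (by simp)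

lemma image_preimage {W : X.Opens} (hW : W ≤ U) : U.ι ''ᵁ (U.ι ⁻¹ᵁ W) = W := by
  rw [Scheme.Hom.image_preimage_eq_opensRange_inf, Scheme.Opens.opensRange_ι, inf_eq_right]
  exact hW

/-- The morphism of restricted modules. -/
def toRestrictHom (φ : HomOn M N U) : M.restrict U.ι ⟶ N.restrict U.ι :=
  HomOn.toHom
    { app := fun W _ =>
        { toFun := fun s => (N.restrictAppIso U.ι W).inv
            (φ.app _ (range_le W) ((M.restrictAppIso U.ι W).hom s))
          map_add' := fun s t => by rw [map_add, map_add, map_add]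
          map_smul' := fun r s => by
            refine (congrArg (N.restrictAppIso U.ι W).inv
              ((congrArg (φ.app _ (range_le W))
                (Scheme.Modules.smul_restrictAppIso_hom_apply U.ι M W r s)).trans
                  (map_smul _ _ _))).trans ?_
            apply (N.restrictAppIso U.ι W).addCommGroupIsoToAddEquiv.injective
            exact (Scheme.Modules.smul_restrictAppIso_hom_apply U.ι N W r _).symm }
      app_res := fun _ h s => φ.app_res (range_le _) (U.ι.image_mono h) _ }

@[simp]
lemma toRestrictHom_app (φ : HomOn M N U) (W : (U : Scheme.{u}).Opens) (s : Γ(M.restrict U.ι, W)) :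
    (N.restrictAppIso U.ι W).hom (φ.toRestrictHom.app W s) =
      φ.app _ (range_le W) ((M.restrictAppIso U.ι W).hom s) := rfl

/-- The local morphism attached to a morphism of restricted modules. -/
def ofRestrictHom (ψ : M.restrict U.ι ⟶ N.restrict U.ι) : HomOn M N U where
  app W hW :=
    { toFun := fun s => res N (image_preimage hW).ge ((N.restrictAppIso U.ι _).hom
        (ψ.app _ ((M.restrictAppIso U.ι _).inv (res M (image_preimage hW).le s))))
      map_add' := fun s t => by rw [res_add, map_add, map_add, map_add, res_add]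
      map_smul' := fun r s => by
        rw [res_smul, Scheme.Modules.smul_restrictAppIso_inv_apply, Scheme.Modules.Hom.app_smul,
          Scheme.Modules.smul_restrictAppIso_hom_apply, res_smul, Iso.hom_inv_id_apply, resO_resO,
          resO_self]
        rfl }
  app_res {W W'} hW h s := by
    simp only [LinearMap.coe_mk, AddHom.coe_mk]
    have h' : U.ι ⁻¹ᵁ W' ≤ U.ι ⁻¹ᵁ W := fun x hx => h hx
    rw [res_res, ← res_res (image_preimage hW).le (U.ι.image_mono h') s]
    change res N _ ((N.restrictAppIso U.ι _).hom (ψ.app _ (res (M.restrict U.ι) h'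
      ((M.restrictAppIso U.ι _).inv (res M (image_preimage hW).le s))))) = _
    rw [QC70.app_res]
    change res N _ (res N (U.ι.image_mono h') ((N.restrictAppIso U.ι _).hom _)) = _
    rw [res_res, res_res]
    rfl

section Glue

variable {ι : Type u} {W : ι → X.Opens} (φ : ∀ i, HomOn M N (W i))

/-- The compatibility condition for gluing. -/
def Compatible : Prop :=
  ∀ i j (V : X.Opens) (hi : V ≤ W i) (hj : V ≤ W j) (s : Γ(M, V)),
    (φ i).app V hi s = (φ j).app V hj s

variable {φ} (hφ : Compatible φ) (hU : U ≤ ⨆ i, W i)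
include hφ hU

lemma glue_exists {V : X.Opens} (hV : V ≤ U) (s : Γ(M, V)) :
    ∃ t : Γ(N, V), ∀ i, res N (inf_le_left : V ⊓ W i ≤ V) t =
      (φ i).app _ inf_le_right (res M inf_le_left s) :=
  exists_glue N (fun i => V ⊓ W i) (fun _ => inf_le_left)
    (by rw [← inf_iSup_eq]; exact le_inf le_rfl (hV.trans hU)) _ fun i j => by
      rw [← (φ i).app_res, ← (φ j).app_res, res_res, res_res,
        hφ i j _ (inf_le_left.trans inf_le_right) (inf_le_right.trans inf_le_right)]

lemma glue_unique {V : X.Opens} (hV : V ≤ U) (t t' : Γ(N, V))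
    (h : ∀ i, res N (inf_le_left : V ⊓ W i ≤ V) t = res N inf_le_left t') : t = t' :=
  section_ext' N (fun i => V ⊓ W i) (fun _ => inf_le_left)
    (by rw [← inf_iSup_eq]; exact le_inf le_rfl (hV.trans hU)) t t' h

/-- Gluing of local morphisms. -/
def glue : HomOn M N U where
  app V hV :=
    { toFun := fun s => (glue_exists hφ hU hV s).choose
      map_add' := fun s t => glue_unique hφ hU hV _ _ fun i => by
        rw [res_add, (glue_exists hφ hU hV (s + t)).choose_spec i,
          (glue_exists hφ hU hV s).choose_spec i, (glue_exists hφ hU hV t).choose_spec i,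
          res_add, map_add]
      map_smul' := fun r s => glue_unique hφ hU hV _ _ fun i => by
        rw [RingHom.id_apply, res_smul, (glue_exists hφ hU hV (r • s)).choose_spec i,
          (glue_exists hφ hU hV s).choose_spec i, res_smul, map_smul] }
  app_res {V V'} hV h s := glue_unique hφ hU (h.trans hV) _ _ fun i => by
    simp only [LinearMap.coe_mk, AddHom.coe_mk]
    have h' : V' ⊓ W i ≤ V ⊓ W i := inf_le_inf_right _ h
    rw [(glue_exists hφ hU (h.trans hV) (res M h s)).choose_spec i, res_res, res_res,
      ← res_res (inf_le_left : V ⊓ W i ≤ V) h' ((glue_exists hφ hU hV s).choose),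
      (glue_exists hφ hU hV s).choose_spec i, ← (φ i).app_res, res_res]

lemma glue_app {V : X.Opens} (hV : V ≤ U) (i : ι) (hi : V ≤ W i) (s : Γ(M, V)) :
    (glue hφ hU).app V hV s = (φ i).app V hi s := by
  refine glue_unique hφ hU hV _ _ fun j => ?_
  refine ((glue_exists hφ hU hV s).choose_spec j).trans ?_
  rw [← (φ i).app_res, hφ i j _ (inf_le_left.trans hi) inf_le_right]

end Glue

/-- Local morphisms out of a quasi-coherent module on an affine open are determined by the map on
sections over that open. -/
lemma ext_of_affine (hU : IsAffineOpen U) (hM : IsLocAt M U) (φ ψ : HomOn M N U)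
    (h : φ.app U le_rfl = ψ.app U le_rfl) {W : X.Opens} (hW : W ≤ U) (s : Γ(M, W)) :
    φ.app W hW s = ψ.app W hW s := by
  refine section_ext N _ _ fun p hp => ?_
  obtain ⟨f, hfW, hpf⟩ := hU.exists_basicOpen_le ⟨p, hp⟩ (hW hp)
  refine ⟨X.basicOpen f, hfW, hpf, ?_⟩
  obtain ⟨n, t, ht⟩ := hM.exists_of f (res M hfW s)
  have hu : IsUnit (resO X (X.basicOpen_le f) f) := RingedSpace.isUnit_res_basicOpen _ f
  rw [← φ.app_res hW hfW, ← ψ.app_res hW hfW]
  refine (hu.pow n).smul_left_cancel.mp ?_
  rw [← LinearMap.map_smul, ← LinearMap.map_smul, ← ht, φ.app_res le_rfl, ψ.app_res le_rfl, h]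

end HomOn

section OfLinear

variable {U : X.Opens} (hU : IsAffineOpen U)

lemma fromSpec_image_top : hU.fromSpec ''ᵁ ⊤ = U := by
  rw [Scheme.Hom.image_top_eq_opensRange, hU.opensRange_fromSpec]

lemma fromSpec_image_preimage {W : X.Opens} (hW : W ≤ U) :
    hU.fromSpec ''ᵁ (hU.fromSpec ⁻¹ᵁ W) = W := by
  rw [Scheme.Hom.image_preimage_eq_opensRange_inf, hU.opensRange_fromSpec, inf_eq_right]
  exact hW

/-- A linear map on sections over `U`, on the global sections of the modules on the spectrum. -/
def specLinearMap (l : Γ(M, U) →ₗ[Γ(X, U)] Γ(N, U)) :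
    Γ(specRes M hU, ⊤) →ₗ[Γ(X, U)] Γ(specRes N hU, ⊤) where
      toFun := fun (x : Γ(specRes M hU, ⊤)) => (show Γ(specRes N hU, ⊤) from
        (N.restrictAppIso hU.fromSpec ⊤).inv (res N (fromSpec_image_top hU).le
          (l (res M (fromSpec_image_top hU).ge ((M.restrictAppIso hU.fromSpec ⊤).hom x)))))
      map_add' := fun x y => by
        refine Eq.trans ?_ (map_add ((N.restrictAppIso hU.fromSpec ⊤).inv).hom _ _)
        congr 1
        rw [← res_add, ← map_add l, ← res_add, ← map_add]
      map_smul' := fun r x => by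
        apply (N.restrictAppIso hU.fromSpec ⊤).addCommGroupIsoToAddEquiv.injective
        change (N.restrictAppIso hU.fromSpec ⊤).hom _ = (N.restrictAppIso hU.fromSpec ⊤).hom _
        refine (Iso.inv_hom_id_apply (N.restrictAppIso hU.fromSpec ⊤) _).trans ?_
        refine Eq.trans ?_ (specRes_smul N hU ⊤ (fromSpec_image_top hU).le r _).symm
        rw [Iso.inv_hom_id_apply]
        erw [specRes_smul M hU ⊤ (fromSpec_image_top hU).le r x]
        rw [res_smul, resO_resO, resO_self, l.map_smul, res_smul]
        exact congrArg _ (Iso.inv_hom_id_apply (N.restrictAppIso hU.fromSpec ⊤) _).symm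

/-- The same, as a morphism of modules. -/
def specLinear (l : Γ(M, U) →ₗ[Γ(X, U)] Γ(N, U)) :
    moduleSpecΓFunctor.obj (specRes M hU) ⟶ moduleSpecΓFunctor.obj (specRes N hU) :=
  ModuleCat.ofHom (X := Γ(specRes M hU, ⊤)) (Y := Γ(specRes N hU, ⊤)) (specLinearMap hU l)

/-- The morphism on the spectrum attached to a linear map on sections. -/
def ofLinearSpec [M.IsQuasicoherent] (l : Γ(M, U) →ₗ[Γ(X, U)] Γ(N, U)) :
    specRes M hU ⟶ specRes N hU :=
  (tildeIsoSpecRes M hU).inv ≫ tilde.map (specLinear hU l) ≫ (specRes N hU).fromTildeΓ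

lemma moduleSpecΓ_map_ofLinearSpec [M.IsQuasicoherent] (l : Γ(M, U) →ₗ[Γ(X, U)] Γ(N, U)) :
    moduleSpecΓFunctor.map (ofLinearSpec hU l) = specLinear hU l := by
  let adj := tilde.adjunction (R := Γ(X, U))
  have h1 : adj.homEquiv _ _ (specRes M hU).fromTildeΓ = 𝟙 _ := by
    rw [Adjunction.homEquiv_unit]
    exact adj.right_triangle_components (specRes M hU)
  have h2 : (specRes M hU).fromTildeΓ ≫ ofLinearSpec hU l =
      tilde.map (specLinear hU l) ≫ (specRes N hU).fromTildeΓ :=
    (Iso.hom_inv_id_assoc (tildeIsoSpecRes M hU) _)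
  have h3 := congrArg (adj.homEquiv _ _) h2
  refine ((Category.id_comp _).symm.trans ((congrArg (· ≫ _) h1.symm).trans
    ((adj.homEquiv_naturality_right _ _).symm.trans h3))).trans ?_
  refine (adj.homEquiv_naturality_left (specLinear hU l) _).trans ?_
  refine (congrArg (specLinear hU l ≫ ·) ?_).trans (Category.comp_id _)
  rw [Adjunction.homEquiv_unit]
  exact adj.right_triangle_components _

/-- A local morphism out of a quasi-coherent module from a linear map of sections over an affine
open. -/
def HomOn.ofLinear [M.IsQuasicoherent] (l : Γ(M, U) →ₗ[Γ(X, U)] Γ(N, U)) : HomOn M N U where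
  app W hW :=
    { toFun := fun s => res N (fromSpec_image_preimage hU hW).ge
        ((N.restrictAppIso hU.fromSpec _).hom ((ofLinearSpec hU l).app _
          ((M.restrictAppIso hU.fromSpec _).inv (res M (fromSpec_image_preimage hU hW).le s))))
      map_add' := fun s t => by rw [res_add, map_add, map_add, map_add, res_add]
      map_smul' := fun r s => by
        rw [res_smul, Scheme.Modules.smul_restrictAppIso_inv_apply, Scheme.Modules.Hom.app_smul,
          Scheme.Modules.smul_restrictAppIso_hom_apply, res_smul, Iso.hom_inv_id_apply, resO_resO,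
          resO_self]
        rfl }
  app_res {W W'} hW h s := by
    simp only [LinearMap.coe_mk, AddHom.coe_mk]
    have h' : hU.fromSpec ⁻¹ᵁ W' ≤ hU.fromSpec ⁻¹ᵁ W := fun x hx => h hx
    rw [res_res, ← res_res (fromSpec_image_preimage hU hW).le (hU.fromSpec.image_mono h') s]
    change res N _ ((N.restrictAppIso hU.fromSpec _).hom ((ofLinearSpec hU l).app _
      (res (M.restrict hU.fromSpec) h'
        ((M.restrictAppIso hU.fromSpec _).inv (res M (fromSpec_image_preimage hU hW).le s))))) = _
    rw [QC70.app_res]
    change res N _ (res N (hU.fromSpec.image_mono h') ((N.restrictAppIso hU.fromSpec _).hom _)) = _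
    rw [res_res, res_res]
    rfl

lemma HomOn.ofLinear_app_self [M.IsQuasicoherent] (l : Γ(M, U) →ₗ[Γ(X, U)] Γ(N, U)) :
    (HomOn.ofLinear hU l).app U le_rfl = l := by
  ext s
  change res N (fromSpec_image_preimage hU le_rfl).ge _ = _
  have hT : hU.fromSpec ⁻¹ᵁ U = ⊤ := hU.fromSpec_preimage_self
  have key : ∀ x : Γ(specRes M hU, ⊤),
      (N.restrictAppIso hU.fromSpec ⊤).hom ((ofLinearSpec hU l).app ⊤ x) =
        res N (fromSpec_image_top hU).le
          (l (res M (fromSpec_image_top hU).ge ((M.restrictAppIso hU.fromSpec ⊤).hom x))) := by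
    intro x
    have := congrArg (fun f => f.hom x) (moduleSpecΓ_map_ofLinearSpec hU l)
    refine (congrArg (N.restrictAppIso hU.fromSpec ⊤).hom this).trans ?_
    exact Iso.inv_hom_id_apply (N.restrictAppIso hU.fromSpec ⊤) _
  let y := (M.restrictAppIso hU.fromSpec _).inv
    (res M (fromSpec_image_preimage hU le_rfl).le s)
  have h2 := key (res (specRes M hU) hT.ge y)
  rw [QC70.app_res, specRes_res, specRes_res, Iso.inv_hom_id_apply, res_res, res_res,
    res_self] at h2
  have h3 := congrArg (res N (fromSpec_image_top hU).ge) h2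
  rw [res_res, res_res, res_self] at h3
  exact h3

end OfLinear

end Groth.Agent.QC70
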