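import Groth.Agent.QC70.Coherent
import Groth.Prelude.Def_FlatMod2

set_option autoImplicit false
set_option backward.isDefEq.respectTransparency.types false

/-! Stalks of modules on schemes: germ calculus, localization, mono / epi / iso criteria. -/

noncomputable section

universe u

open CategoryTheory Limits AlgebraicGeometry TopologicalSpace Opposite

namespace Groth.Agent.QC70

variable {X : Scheme.{u}} {M N : X.Modules} {U V : X.Opens} {x : X}

/-- The germ of a section of a module. -/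
abbrev germM (M : X.Modules) (U : X.Opens) (x : X) (hx : x ∈ U) (s : Γ(M, U)) :
    M.presheaf.stalk x :=
  M.presheaf.germ U x hx s

lemma germM_res (h : V ≤ U) (hx : x ∈ V) (s : Γ(M, U)) :
    germM M V x hx (res M h s) = germM M U x (h hx) s :=
  M.presheaf.germ_res_apply (homOfLE h) x hx s

lemma germ_resO (h : V ≤ U) (hx : x ∈ V) (a : Γ(X, U)) :
    X.presheaf.germ V x hx (resO X h a) = X.presheaf.germ U x (h hx) a :=
  X.presheaf.germ_res_apply (homOfLE h) x hx a

lemma germM_smul (hx : x ∈ U) (a : Γ(X, U)) (s : Γ(M, U)) :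
    germM M U x hx (a • s) = X.presheaf.germ U x hx a • germM M U x hx s :=
  PresheafOfModules.germ_smul (R := X.presheaf)
    (show PresheafOfModules (X.presheaf ⋙ forget₂ CommRingCat RingCat) from M.val) x U hx a s

lemma germM_add (hx : x ∈ U) (s t : Γ(M, U)) :
    germM M U x hx (s + t) = germM M U x hx s + germM M U x hx t :=
  map_add _ _ _

lemma germM_zero (hx : x ∈ U) : germM M U x hx 0 = 0 :=
  map_zero _

lemma germM_exist (e : M.presheaf.stalk x) :
    ∃ (W : X.Opens) (hx : x ∈ W) (s : Γ(M, W)), germM M W x hx s = e :=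
  TopCat.Presheaf.exists_germ_eq M.presheaf e

lemma germM_eq_zero {s : Γ(M, U)} {hx : x ∈ U} (h : germM M U x hx s = 0) :
    ∃ (W : X.Opens) (hW : W ≤ U), x ∈ W ∧ res M hW s = 0 := by
  obtain ⟨W, hxW, i₁, i₂, e⟩ :=
    TopCat.Presheaf.germ_eq M.presheaf x hx hx s 0 (h.trans (germM_zero hx).symm)
  exact ⟨W, i₁.le, hxW, e.trans (map_zero _)⟩

lemma isUnit_germ {f : Γ(X, U)} (hf : x ∈ X.basicOpen f) :
    IsUnit (X.presheaf.germ U x (X.basicOpen_le f hf) f) :=
  (Scheme.mem_basicOpen X f x _).mp hf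

/-- The map on stalks of a morphism of modules. -/
abbrev stalkMapM (φ : M ⟶ N) (x : X) : M.presheaf.stalk x → N.presheaf.stalk x :=
  ((TopCat.Presheaf.stalkFunctor _ x).map φ.mapPresheaf).hom

lemma stalkMapM_germ (φ : M ⟶ N) (hx : x ∈ U) (s : Γ(M, U)) :
    stalkMapM φ x (germM M U x hx s) = germM N U x hx (φ.app U s) :=
  TopCat.Presheaf.stalkFunctor_map_germ_apply U x hx φ.mapPresheaf s

/-- The map on stalks, as a linear map over the local ring. -/
def stalkLinear (φ : M ⟶ N) (x : X) :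
    M.presheaf.stalk x →ₗ[X.presheaf.stalk x] N.presheaf.stalk x where
  toFun := stalkMapM φ x
  map_add' := map_add _
  map_smul' r e := by
    obtain ⟨W, hxW, s, rfl⟩ := germM_exist e
    obtain ⟨W', hxW', a, rfl⟩ := TopCat.Presheaf.exists_germ_eq X.presheaf r
    have h : x ∈ W ⊓ W' := ⟨hxW, hxW'⟩
    simp only [RingHom.id_apply]
    rw [← germM_res (inf_le_left : W ⊓ W' ≤ W) h s, ← germ_resO (inf_le_right : W ⊓ W' ≤ W') h a,
      ← germM_smul, stalkMapM_germ, stalkMapM_germ, Scheme.Modules.Hom.app_smul, germM_smul]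

lemma injective_stalkMapM_of_mono (φ : M ⟶ N) [Mono φ] (x : X) :
    Function.Injective (stalkMapM φ x) := by
  refine (injective_iff_map_eq_zero ((TopCat.Presheaf.stalkFunctor _ x).map φ.mapPresheaf).hom).mpr
    fun e he => ?_
  obtain ⟨W, hxW, s, rfl⟩ := germM_exist e
  have he' : germM N W x hxW (φ.app W s) = 0 := (stalkMapM_germ φ hxW s).symm.trans he
  obtain ⟨W', hW, hxW', h0⟩ := germM_eq_zero he'
  rw [← app_res, ← map_zero (φ.app W').hom] at h0
  rw [← germM_res hW hxW', app_injective_of_mono φ W' h0]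
  exact germM_zero hxW'

lemma mono_of_injective_stalkMapM (φ : M ⟶ N) (h : ∀ x, Function.Injective (stalkMapM φ x)) :
    Mono φ := by
  refine mono_of_app_injective φ fun W s t e => ?_
  refine section_ext M s t fun p hp => ?_
  have : germM M W p hp s = germM M W p hp t := h p (by rw [stalkMapM_germ, stalkMapM_germ, e])
  obtain ⟨W', hpW', i₁, i₂, e'⟩ := TopCat.Presheaf.germ_eq M.presheaf p hp hp s t this
  exact ⟨W', i₁.le, hpW', e'⟩

lemma surjective_stalkMapM_of_epi (φ : M ⟶ N) [Epi φ] (x : X) :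
    Function.Surjective (stalkMapM φ x) := fun e => by
  obtain ⟨W, hxW, s, rfl⟩ := germM_exist e
  obtain ⟨W', h, t, hxW', ht⟩ := exists_local_lift φ s hxW
  exact ⟨germM M W' x hxW' t, by rw [stalkMapM_germ, ht, germM_res]⟩

lemma epi_of_surjective_stalkMapM (φ : M ⟶ N) (h : ∀ x, Function.Surjective (stalkMapM φ x)) :
    Epi φ := by
  refine epi_of_locally_surjective φ fun W s p hp => ?_
  obtain ⟨e, he⟩ := h p (germM N W p hp s)
  obtain ⟨W', hpW', t, rfl⟩ := germM_exist e
  rw [stalkMapM_germ] at he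
  obtain ⟨V, hpV, i₁, i₂, e'⟩ := TopCat.Presheaf.germ_eq N.presheaf p hpW' hp _ s he
  exact ⟨V, i₂.le, res M i₁.le t, hpV, by rw [app_res]; exact e'⟩

lemma isIso_of_bijective_stalkMapM (φ : M ⟶ N) (h : ∀ x, Function.Bijective (stalkMapM φ x)) :
    IsIso φ :=
  have := mono_of_injective_stalkMapM φ fun x => (h x).1
  have := epi_of_surjective_stalkMapM φ fun x => (h x).2
  isIso_of_mono_of_epi φ

lemma stalkMapM_exact (S : ShortComplex X.Modules) (hS : S.Exact) [Mono S.f] (x : X)
    (e : S.X₂.presheaf.stalk x) (he : stalkMapM S.g x e = 0) : ∃ d, stalkMapM S.f x d = e := by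
  obtain ⟨W, hxW, s, rfl⟩ := germM_exist e
  rw [stalkMapM_germ] at he
  obtain ⟨W', hW, hxW', h0⟩ := germM_eq_zero he
  rw [← app_res] at h0
  obtain ⟨c, hc⟩ := exists_app_eq_of_exact S hS W' _ h0
  exact ⟨germM S.X₁ W' x hxW' c, by rw [stalkMapM_germ, hc, germM_res]⟩

/-- Every element of the stalk at a point of an affine open is a fraction of a section. -/
lemma stalk_exists_smul (hM : IsLocAt M U) (hU : IsAffineOpen U) (hx : x ∈ U)
    (e : M.presheaf.stalk x) :
    ∃ (f : Γ(X, U)) (t : Γ(M, U)), x ∈ X.basicOpen f ∧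
      X.presheaf.germ U x hx f • e = germM M U x hx t := by
  obtain ⟨W, hxW, s, rfl⟩ := germM_exist e
  obtain ⟨f, hfW, hxf⟩ := hU.exists_basicOpen_le ⟨x, hxW⟩ hx
  obtain ⟨n, t, ht⟩ := hM.exists_of f (res M hfW s)
  refine ⟨f ^ (n + 1), f • t, ?_, ?_⟩
  · rwa [X.basicOpen_pow f (n := n + 1) n.succ_pos]
  · have := congrArg (germM M _ x hxf) ht
    rw [germM_res, germM_smul, germM_res, map_pow, germ_resO] at this
    rw [germM_smul, this, pow_succ', map_mul, map_pow, mul_smul]

/-- A section with vanishing germ is killed by a function not vanishing at the point. -/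
lemma stalk_exists_smul_eq_zero (hM : IsLocAt M U) (hU : IsAffineOpen U) (hx : x ∈ U)
    (t : Γ(M, U)) (h : germM M U x hx t = 0) :
    ∃ f : Γ(X, U), x ∈ X.basicOpen f ∧ f • t = 0 := by
  obtain ⟨W, hW, hxW, h0⟩ := germM_eq_zero h
  obtain ⟨f, hfW, hxf⟩ := hU.exists_basicOpen_le ⟨x, hxW⟩ hx
  obtain ⟨n, hn⟩ := hM.eq_zero_of f t (by rw [← res_res hW hfW, h0, res_zero])
  refine ⟨f ^ (n + 1), ?_, ?_⟩
  · rwa [X.basicOpen_pow f (n := n + 1) n.succ_pos]
  · rw [pow_succ', mul_smul, hn, smul_zero]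

/-- If the sections of `M` near `x` are locally generated by finitely many sections and the stalk at
`x` is zero, then `M` vanishes near `x`. -/
lemma exists_nhd_sections_subsingleton [M.IsFiniteType] (x : X)
    (h : Subsingleton (M.presheaf.stalk x)) :
    ∃ U : X.Opens, x ∈ U ∧ ∀ W ≤ U, Subsingleton Γ(M, W) := by
  classical
  obtain ⟨V, ι, _, s, hxV, hs⟩ := exists_locGenBy M x
  choose W hW hxW hres using fun i => germM_eq_zero (x := x) (hx := hxV) (s := s i)
    (Subsingleton.elim _ _)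
  let U : X.Opens := V ⊓ Finset.univ.inf W
  have hxU : x ∈ U := by
    refine ⟨hxV, ?_⟩
    suffices ∀ t : Finset ι, x ∈ t.inf W from this _
    intro t
    induction t using Finset.induction_on with
    | empty => trivial
    | insert a t ha ih => rw [Finset.inf_insert]; exact ⟨hxW a, ih⟩
  refine ⟨U, hxU, fun Z hZ => subsingleton_of_forall_eq 0 fun z => ?_⟩
  refine section_ext M z 0 fun p hp => ?_
  obtain ⟨W', h₁, h₂, a, hpW', e⟩ := hs Z (hZ.trans inf_le_left) z p hp
  refine ⟨W', h₁, hpW', e.trans ?_⟩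
  rw [res_zero]
  refine Finset.sum_eq_zero fun i _ => ?_
  have hWi : W' ≤ W i := h₁.trans (hZ.trans (inf_le_right.trans (Finset.inf_le (Finset.mem_univ i))))
  rw [← res_res (hW i) hWi, hres i, res_zero, smul_zero]

lemma subsingleton_stalk_of_mono (φ : M ⟶ N) [Mono φ] (x : X)
    (h : Subsingleton (N.presheaf.stalk x)) : Subsingleton (M.presheaf.stalk x) :=
  ⟨fun a b => injective_stalkMapM_of_mono φ x (Subsingleton.elim _ _)⟩

lemma subsingleton_stalk_kernel (φ : M ⟶ N) (x : X) (h : Function.Injective (stalkMapM φ x)) :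
    Subsingleton ((kernel φ).presheaf.stalk x) := by
  refine ⟨fun a b => injective_stalkMapM_of_mono (kernel.ι φ) x (h ?_)⟩
  have key : ∀ c, stalkMapM φ x (stalkMapM (kernel.ι φ) x c) = 0 := fun c => by
    obtain ⟨W, hxW, s, rfl⟩ := germM_exist c
    rw [stalkMapM_germ, stalkMapM_germ, ← ConcreteCategory.comp_apply, ← Scheme.Modules.Hom.comp_app,
      kernel.condition, Scheme.Modules.Hom.zero_app]
    exact germM_zero hxW
  rw [key, key]

lemma subsingleton_stalk_cokernel (φ : M ⟶ N) (x : X) (h : Function.Surjective (stalkMapM φ x)) :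
    Subsingleton ((cokernel φ).presheaf.stalk x) := by
  refine subsingleton_of_forall_eq 0 fun c => ?_
  obtain ⟨b, rfl⟩ := surjective_stalkMapM_of_epi (cokernel.π φ) x c
  obtain ⟨a, rfl⟩ := h b
  obtain ⟨W, hxW, s, rfl⟩ := germM_exist a
  rw [stalkMapM_germ, stalkMapM_germ, ← ConcreteCategory.comp_apply, ← Scheme.Modules.Hom.comp_app,
    cokernel.condition, Scheme.Modules.Hom.zero_app]
  exact germM_zero hxW

lemma isZero_of_sections_subsingleton (h : ∀ W : X.Opens, Subsingleton Γ(M, W)) : IsZero M := by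
  rw [IsZero.iff_id_eq_zero]
  ext W z
  exact (h W).elim _ _

lemma isZero_restrict_of_sections_subsingleton (h : ∀ W ≤ U, Subsingleton Γ(M, W)) :
    IsZero (M.restrict U.ι) :=
  isZero_of_sections_subsingleton fun W =>
    h (U.ι ''ᵁ W) ((U.ι.image_mono le_top).trans (by simp))

lemma mono_restrict_of_kernel_subsingleton (φ : M ⟶ N)
    (h : ∀ W ≤ U, Subsingleton Γ(kernel φ, W)) :
    Mono ((Scheme.Modules.restrictFunctor U.ι).map φ) := by
  refine mono_of_app_injective _ fun W => ?_
  change Function.Injective (φ.app (U.ι ''ᵁ W))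
  refine (injective_iff_map_eq_zero (φ.app (U.ι ''ᵁ W)).hom).mpr fun s hs => ?_
  obtain ⟨c, rfl⟩ := exists_kernel_app_eq φ _ s hs
  rw [(h _ ((U.ι.image_mono le_top).trans (by simp))).elim c 0, map_zero]

lemma epi_restrict_of_cokernel_subsingleton (φ : M ⟶ N)
    (h : ∀ W ≤ U, Subsingleton Γ(cokernel φ, W)) :
    Epi ((Scheme.Modules.restrictFunctor U.ι).map φ) := by
  have : IsZero ((cokernel φ).restrict U.ι) := isZero_restrict_of_sections_subsingleton h
  exact Preadditive.epi_of_isZero_cokernel _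
    (this.of_iso (PreservesCokernel.iso (Scheme.Modules.restrictFunctor U.ι) φ).symm)

end Groth.Agent.QC70
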