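import Groth.Agent.QC70.Hom
import Groth.Agent.QCqs72.Basic
import Groth.Prelude.Def_Dual3

set_option autoImplicit false
set_option backward.isDefEq.respectTransparency.types false

/-! Sections of `I·F` on affine opens, and lifting along monomorphisms. -/

noncomputable section

universe u

open CategoryTheory Limits AlgebraicGeometry TopologicalSpace Opposite

namespace Groth.Agent.QC70

variable {X : Scheme.{u}}

/-- A morphism factors through a monomorphism if it does so on sections over an affine cover. -/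
theorem exists_lift_of_mono {A B C : X.Modules} (φ : A ⟶ B) (ι : C ⟶ B) [Mono ι]
    {κ : Type*} (U : κ → X.Opens) (hcov : ⨆ k, U k = ⊤) (hU : ∀ k, IsAffineOpen (U k))
    (hA : ∀ k, IsLocAt A (U k))
    (h : ∀ k (x : Γ(A, U k)), ∃ c, ι.app (U k) c = φ.app (U k) x) :
    ∃ ψ : A ⟶ C, ψ ≫ ι = φ := by
  refine ⟨Abelian.monoLift ι φ ?_, Abelian.monoLift_comp ι φ _⟩
  refine Scheme.Modules.hom_ext _ _ fun W => ?_
  ext s
  refine (section_ext (cokernel ι) _ 0 fun p hp => ?_)
  obtain ⟨k, hk⟩ := Opens.mem_iSup.mp (hcov.ge (Set.mem_univ p : p ∈ (⊤ : X.Opens)))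
  obtain ⟨f, hfW, hpf⟩ := (hU k).exists_basicOpen_le ⟨p, hp⟩ hk
  refine ⟨X.basicOpen f, hfW, hpf, ?_⟩
  rw [res_zero, ← app_res]
  obtain ⟨n, t, ht⟩ := (hA k).exists_of f (res A hfW s)
  have hu : IsUnit (resO X (X.basicOpen_le f) f) := RingedSpace.isUnit_res_basicOpen _ f
  refine (hu.pow n).smul_eq_zero.mp ?_
  rw [← Scheme.Modules.Hom.app_smul, ← ht, app_res, Scheme.Modules.Hom.comp_app]
  obtain ⟨c, hc⟩ := h k t
  have h0 : (cokernel.π ι).app (U k) (ι.app (U k) c) = 0 :=
    congr((Scheme.Modules.Hom.app $(cokernel.condition ι) (U k)) c)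
  rw [ConcreteCategory.comp_apply, ← hc, h0, res_zero]

/-- Subobjects with the same sections on an affine cover are equal. -/
theorem subobject_mk_eq {A B C : X.Modules} (f : A ⟶ B) (g : C ⟶ B) [Mono f] [Mono g]
    {κ : Type*} (U : κ → X.Opens) (hcov : ⨆ k, U k = ⊤) (hU : ∀ k, IsAffineOpen (U k))
    (hA : ∀ k, IsLocAt A (U k)) (hC : ∀ k, IsLocAt C (U k))
    (h : ∀ k, Set.range (f.app (U k)) = Set.range (g.app (U k))) :
    Subobject.mk f = Subobject.mk g := by
  obtain ⟨a, ha⟩ := exists_lift_of_mono f g U hcov hU hA fun k x => (h k).le ⟨x, rfl⟩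
  obtain ⟨c, hc⟩ := exists_lift_of_mono g f U hcov hU hC fun k x => (h k).ge ⟨x, rfl⟩
  refine Subobject.mk_eq_mk_of_comm f g ⟨a, c, ?_, ?_⟩ ha
  · rw [← cancel_mono f, Category.assoc, hc, ha, Category.id_comp]
  · rw [← cancel_mono g, Category.assoc, ha, hc, Category.id_comp]

section QuotientHom

variable (I : X.IdealSheafData) (U : X.affineOpens)

/-- The composite `Spec (Γ(X,U)/I(U)) ⟶ X`. -/
abbrev quotMor : Spec (CommRingCat.of (Γ(X, U.1) ⧸ I.ideal U)) ⟶ X :=
  Spec.map (CommRingCat.ofHom (Ideal.Quotient.mk (I.ideal U))) ≫ U.2.fromSpec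

lemma quotMor_preimage : quotMor I U ⁻¹ᵁ U.1 = ⊤ := by
  rw [quotMor, Scheme.Hom.comp_preimage, U.2.fromSpec_preimage_self]
  rfl

lemma quotMor_preimage_inf (W : X.Opens) :
    quotMor I U ⁻¹ᵁ (W ⊓ U.1) = quotMor I U ⁻¹ᵁ W := by
  rw [Scheme.Hom.preimage_inf, quotMor_preimage, inf_top_eq]

lemma quotMor_app (r : Γ(X, U.1)) :
    (quotMor I U).app U.1 r =
      (Spec (CommRingCat.of (Γ(X, U.1) ⧸ I.ideal U))).presheaf.map (homOfLE le_top).op
        ((Scheme.ΓSpecIso _).inv (Ideal.Quotient.mk (I.ideal U) r)) := by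
  have h2 := congr($(Scheme.ΓSpecIso_inv_naturality
    (CommRingCat.ofHom (Ideal.Quotient.mk (I.ideal U)))) r)
  refine Eq.trans ?_ (congrArg _ h2.symm)
  rw [quotMor, Scheme.Hom.comp_app, U.2.fromSpec_app_self]
  simp only [CommRingCat.comp_apply]
  exact congr($((Spec.map (CommRingCat.ofHom (Ideal.Quotient.mk (I.ideal U)))).naturality
    (eqToHom U.2.fromSpec_preimage_self).op) ((Scheme.ΓSpecIso _).inv r))

variable (F : X.Modules)

/-- `Γ(F,U)/I(U)Γ(F,U)` over `Γ(X,U)/I(U)`. -/
abbrev quotMod : ModuleCat.{u} (CommRingCat.of (Γ(X, U.1) ⧸ I.ideal U)) :=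
  ModuleCat.of (Γ(X, U.1) ⧸ I.ideal U)
    (Γ(F, U.1) ⧸ I.ideal U • (⊤ : Submodule Γ(X, U.1) Γ(F, U.1)))

/-- The module `Γ(F,U)/I(U)Γ(F,U)` spread out on `X`. -/
abbrev quotPush : X.Modules :=
  (Scheme.Modules.pushforward (quotMor I U)).obj (tilde (quotMod I U F))

/-- The global sections map of a tilde. -/
def toTop {R : CommRingCat.{u}} (T : ModuleCat.{u} R) : T →ₗ[R] Γ(tilde T, ⊤) :=
  (tilde.toOpen T ⊤).hom

lemma toTop_smul {R : CommRingCat.{u}} (T : ModuleCat.{u} R) (r : R) (x : T) :
    toTop T (r • x) = resO (Spec R) (le_top : (⊤ : (Spec R).Opens) ≤ ⊤)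
      ((Scheme.ΓSpecIso R).inv r) • toTop T x := by
  rw [LinearMap.map_smul, Scheme.Modules.smul_Spec_def]
  rfl

lemma toTop_injective {R : CommRingCat.{u}} (T : ModuleCat.{u} R) :
    Function.Injective (toTop T) :=
  (ConcreteCategory.bijective_of_isIso (tilde.toOpen T ⊤)).1

/-- The map on sections. -/
def quotSec : Γ(F, U.1) →ₗ[Γ(X, U.1)] Γ(quotPush I U F, U.1) where
  toFun x := res (tilde (quotMod I U F)) (le_top : quotMor I U ⁻¹ᵁ U.1 ≤ ⊤)
    (toTop (quotMod I U F) (Submodule.Quotient.mk x))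
  map_add' x y := by
    rw [Submodule.Quotient.mk_add, map_add, res_add]
    rfl
  map_smul' r x := by
    rw [Submodule.Quotient.mk_smul]
    change res (tilde (quotMod I U F)) _ (toTop (quotMod I U F)
      ((Ideal.Quotient.mk (I.ideal U) r) • (Submodule.Quotient.mk x : quotMod I U F))) = _
    rw [toTop_smul, res_smul, resO_resO]
    refine Eq.trans ?_ (QCqs72.pushforward_smul (M := tilde (quotMod I U F)) (quotMor I U) r _).symm
    rw [quotMor_app]

lemma quotSec_eq_zero {x : Γ(F, U.1)} (hx : quotSec I U F x = 0) :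
    x ∈ I.ideal U • (⊤ : Submodule Γ(X, U.1) Γ(F, U.1)) := by
  rw [← Submodule.Quotient.mk_eq_zero]
  have h2 := congrArg (res (tilde (quotMod I U F)) (quotMor_preimage I U).ge) hx
  rw [show quotSec I U F x = res (tilde (quotMod I U F)) (le_top : quotMor I U ⁻¹ᵁ U.1 ≤ ⊤)
    (toTop (quotMod I U F) (Submodule.Quotient.mk x)) from rfl, res_res, res_self] at h2
  exact toTop_injective _ (h2.trans ((res_zero _).trans (map_zero _).symm))

variable [F.IsQuasicoherent]

/-- The morphism `F ⟶ quotPush`. -/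
def toQuotPush : F ⟶ quotPush I U F :=
  HomOn.toHom
    { app := fun W _ =>
        { toFun := fun s => res (tilde (quotMod I U F)) (quotMor_preimage_inf I U W).ge
            ((HomOn.ofLinear U.2 (quotSec I U F)).app (W ⊓ U.1) inf_le_right (res F inf_le_left s))
          map_add' := fun s t => by
            rw [res_add, map_add]
            exact res_add _ _ _
          map_smul' := fun r s => by
            rw [RingHom.id_apply, res_smul, LinearMap.map_smul]
            refine Eq.trans ?_ (QCqs72.pushforward_smul (M := tilde (quotMod I U F)) (quotMor I U) r _).symm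
            refine (congrArg _ (QCqs72.pushforward_smul (M := tilde (quotMod I U F)) (quotMor I U) _ _)).trans ?_
            rw [res_smul, QCqs72.app_resO, resO_resO, resO_self] }
      app_res := fun {W W'} _ h s => by
        simp only [LinearMap.coe_mk, AddHom.coe_mk]
        rw [res_res, ← res_res (inf_le_left : W ⊓ U.1 ≤ W) (inf_le_inf_right _ h) s,
          (HomOn.ofLinear U.2 (quotSec I U F)).app_res inf_le_right (inf_le_inf_right _ h)]
        rw [QCqs72.pushforward_res, QCqs72.pushforward_res, res_res, res_res] }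

lemma toQuotPush_app_eq_zero {x : Γ(F, U.1)} (hx : (toQuotPush I U F).app U.1 x = 0) :
    x ∈ I.ideal U • (⊤ : Submodule Γ(X, U.1) Γ(F, U.1)) := by
  refine quotSec_eq_zero I U F ?_
  have h : U.1 ⊓ U.1 = U.1 := inf_idem _
  have h1 := (HomOn.ofLinear U.2 (quotSec I U F)).app_res (le_refl U.1) (W' := U.1 ⊓ U.1) h.le x
  rw [HomOn.ofLinear_app_self] at h1
  have h2 : res (tilde (quotMod I U F)) (quotMor_preimage_inf I U U.1).ge
      ((HomOn.ofLinear U.2 (quotSec I U F)).app (U.1 ⊓ U.1) inf_le_right (res F inf_le_left x)) = 0 :=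
    hx
  rw [h1, QCqs72.pushforward_res, res_res, res_self] at h2
  exact h2

/-- `quotPush` is a direct image from the closed subscheme. -/
def quotPushIso :
    quotPush I U F ≅ (Scheme.Modules.pushforward I.subschemeι).obj
      ((Scheme.Modules.pushforward (I.subschemeCover.f U)).obj (tilde (quotMod I U F))) :=
  (Scheme.Modules.pushforwardCongr (show quotMor I U = I.subschemeCover.f U ≫ I.subschemeι by
      rw [Scheme.IdealSheafData.subschemeCover_map_subschemeι,
        Scheme.IdealSheafData.glueDataObjι_ι])).app _ ≪≫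
    ((Scheme.Modules.pushforwardComp (I.subschemeCover.f U) I.subschemeι).app _).symm

end QuotientHom

variable (I : X.IdealSheafData) (F : X.Modules)

/-- The map `F ⟶ i_* i^* F`. -/
abbrev toClosed : F ⟶ (Scheme.Modules.pushforward I.subschemeι).obj
    ((Scheme.Modules.pullback I.subschemeι).obj F) :=
  (Scheme.Modules.pullbackPushforwardAdjunction I.subschemeι).unit.app F

lemma toClosed_app_smul_eq_zero (U : X.affineOpens) {a : Γ(X, U.1)} (ha : a ∈ I.ideal U)
    (x : Γ(F, U.1)) : (toClosed I F).app U.1 (a • x) = 0 := by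
  rw [Scheme.Modules.Hom.app_smul]
  refine (QCqs72.pushforward_smul _ I.subschemeι a _).trans ?_
  have h0 : I.subschemeι.app U.1 a = 0 := by
    rw [← Scheme.IdealSheafData.ker_subschemeι_app I U] at ha
    exact ha
  rw [h0, zero_smul]
  rfl

/-- On an affine open, the sections of `I·F` are `I(U)·Γ(F,U)`. -/
theorem range_idealMulι_app [F.IsQuasicoherent] (U : X.affineOpens) :
    Set.range ((Dual3.idealMulι I F).app U.1) =
      (I.ideal U • (⊤ : Submodule Γ(X, U.1) Γ(F, U.1)) : Submodule Γ(X, U.1) Γ(F, U.1)) := by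
  ext x
  refine ⟨?_, fun hx => ?_⟩
  · rintro ⟨c, rfl⟩
    refine toQuotPush_app_eq_zero I U F ?_
    have h0 : (toClosed I F).app U.1 ((Dual3.idealMulι I F).app U.1 c) = 0 :=
      congr((Scheme.Modules.Hom.app $(kernel.condition (toClosed I F)) U.1) c)
    let ψ := toQuotPush I U F ≫ (quotPushIso I U F).hom
    have hfac : toClosed I F ≫ (Scheme.Modules.pushforward I.subschemeι).map
        (((Scheme.Modules.pullbackPushforwardAdjunction I.subschemeι).homEquiv _ _).symm ψ) = ψ := by
      rw [← Adjunction.homEquiv_unit, Equiv.apply_symm_apply]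
    have hψ : toQuotPush I U F = toClosed I F ≫ (Scheme.Modules.pushforward I.subschemeι).map
        (((Scheme.Modules.pullbackPushforwardAdjunction I.subschemeι).homEquiv _ _).symm ψ) ≫
          (quotPushIso I U F).inv := by
      rw [reassoc_of% hfac, Category.assoc, Iso.hom_inv_id, Category.comp_id]
    rw [hψ, Scheme.Modules.Hom.comp_app, ConcreteCategory.comp_apply, h0, map_zero]
  · refine exists_kernel_app_eq (toClosed I F) U.1 x ?_
    refine Submodule.smul_induction_on hx (fun a ha y _ => toClosed_app_smul_eq_zero I F U ha y)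
      (fun y z hy hz => ?_)
    rw [map_add, hy, hz, add_zero]

theorem mem_idealMul_iff [F.IsQuasicoherent] (U : X.affineOpens) (x : Γ(F, U.1)) :
    (∃ c, (Dual3.idealMulι I F).app U.1 c = x) ↔
      x ∈ I.ideal U • (⊤ : Submodule Γ(X, U.1) Γ(F, U.1)) :=
  Set.ext_iff.mp (range_idealMulι_app I F U) x

lemma isLocAt_idealMul [F.IsQuasicoherent] {U : X.Opens} (hU : IsAffineOpen U) :
    IsLocAt ((Dual3.idealMul I).obj F) U where
  eq_zero_of f t ht := by
    obtain ⟨n, hn⟩ := (isLocAt_of_isQuasicoherent F hU).eq_zero_of f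
      ((Dual3.idealMulι I F).app U t) (by rw [← app_res, ht, map_zero])
    exact ⟨n, app_injective_of_mono (Dual3.idealMulι I F) _ (by
      rw [Scheme.Modules.Hom.app_smul, hn, map_zero])⟩
  exists_of f s := by
    have hF := isLocAt_of_isQuasicoherent F hU
    let W : X.affineOpens := ⟨X.basicOpen f, hU.basicOpen f⟩
    have hW : (I.ideal ⟨U, hU⟩).map (X.presheaf.map (homOfLE (X.basicOpen_le f)).op).hom =
        I.ideal W :=
      I.map_ideal_basicOpen ⟨U, hU⟩ f
    have key : ∀ y ∈ I.ideal W •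
        (⊤ : Submodule Γ(X, X.basicOpen f) Γ(F, X.basicOpen f)),
        ∃ n : ℕ, ∃ t ∈ I.ideal ⟨U, hU⟩ • (⊤ : Submodule Γ(X, U) Γ(F, U)),
          res F (X.basicOpen_le f) t = resO X (X.basicOpen_le f) f ^ n • y := by
      intro y hy
      refine Submodule.smul_induction_on hy (fun a ha z _ => ?_) (fun y z hy hz => ?_)
      · rw [← hW] at ha
        induction ha using Submodule.span_induction generalizing z with
        | mem a ha =>
          obtain ⟨b, hb, rfl⟩ := ha
          obtain ⟨n, t, ht⟩ := hF.exists_of f z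
          refine ⟨n, b • t, Submodule.smul_mem_smul hb trivial, ?_⟩
          rw [res_smul, ht, smul_comm]
        | zero => exact ⟨0, 0, zero_mem _, by rw [res_zero, zero_smul, smul_zero]⟩
        | add a b _ _ iha ihb =>
          obtain ⟨n, t, htm, ht⟩ := iha z trivial
          obtain ⟨m, t', htm', ht'⟩ := ihb z trivial
          refine ⟨m + n, f ^ m • t + f ^ n • t',
            add_mem (Submodule.smul_mem _ _ htm) (Submodule.smul_mem _ _ htm'), ?_⟩
          rw [res_add, res_pow_smul, res_pow_smul, ht, ht', ← pow_smul_add, ← pow_smul_add,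
            add_comm n m, add_smul, smul_add]
        | smul c a _ iha =>
          obtain ⟨n, t, htm, ht⟩ := iha (c • z) trivial
          refine ⟨n, t, htm, ?_⟩
          rw [ht, smul_comm a c, smul_eq_mul, mul_smul]
      · obtain ⟨n, t, htm, ht⟩ := hy
        obtain ⟨m, t', htm', ht'⟩ := hz
        refine ⟨m + n, f ^ m • t + f ^ n • t',
          add_mem (Submodule.smul_mem _ _ htm) (Submodule.smul_mem _ _ htm'), ?_⟩
        rw [res_add, res_pow_smul, res_pow_smul, ht, ht', ← pow_smul_add, ← pow_smul_add,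
          add_comm n m, smul_add]
    obtain ⟨n, t, htm, ht⟩ := key _
      ((mem_idealMul_iff I F W _).mp ⟨s, rfl⟩)
    obtain ⟨c, rfl⟩ := (mem_idealMul_iff I F ⟨U, hU⟩ t).mpr htm
    refine ⟨n, c, app_injective_of_mono (Dual3.idealMulι I F) _ ?_⟩
    rw [app_res, ht, Scheme.Modules.Hom.app_smul]

theorem isQuasicoherent_idealMul [F.IsQuasicoherent] :
    ((Dual3.idealMul I).obj F).IsQuasicoherent :=
  isQuasicoherent_of_forall_isLocAt _ fun _ hU => isLocAt_idealMul I F hU

theorem isFiniteType_idealMul [IsLocallyNoetherian X] [F.IsQuasicoherent] [F.IsFiniteType] :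
    ((Dual3.idealMul I).obj F).IsFiniteType :=
  have := isQuasicoherent_idealMul I F
  isFiniteType_of_mono (Dual3.idealMulι I F)

end Groth.Agent.QC70
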