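import Groth.Agent.QC70.Stalk
import Groth.Agent.QC70.Colim
import Groth.Agent.QC70.Ideal
import Groth.Prelude.Def_CohB1
import Groth.Prelude.Def_Coh
import Mathlib.CategoryTheory.Limits.Shapes.Biproducts
import Mathlib.Algebra.Homology.ShortComplex.ShortExact

set_option autoImplicit false
set_option backward.isDefEq.respectTransparency.types false

/-! Operations on coherent modules: finite sums, supports, stalks of finite sums. -/

noncomputable section

universe u

open CategoryTheory Limits AlgebraicGeometry TopologicalSpace Opposite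

namespace Groth.Agent.QC70

variable {X : Scheme.{u}}

instance hasFiniteBiproductsModules : HasFiniteBiproducts X.Modules :=
  Abelian.hasFiniteBiproducts

/-- The short exact sequence `M 0 → ⨁ M → ⨁ (M ∘ succ)`. -/
def consSC {n : ℕ} (M : Fin (n + 1) → X.Modules) : ShortComplex X.Modules :=
  ShortComplex.mk (biproduct.ι M 0)
    (biproduct.lift fun j : Fin n => biproduct.π M j.succ) (by
      refine biproduct.hom_ext _ _ fun j => ?_
      rw [Category.assoc, biproduct.lift_π, zero_comp,
        biproduct.ι_π_ne _ (Fin.succ_ne_zero j).symm])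

lemma consSC_shortExact {n : ℕ} (M : Fin (n + 1) → X.Modules) : (consSC M).ShortExact :=
  have hsg : (biproduct.desc fun j : Fin n => biproduct.ι M j.succ) ≫
      (biproduct.lift fun j : Fin n => biproduct.π M j.succ) = 𝟙 (⨁ fun j : Fin n => M j.succ) := by
    refine biproduct.hom_ext' _ _ fun i => biproduct.hom_ext _ _ fun j => ?_
    rw [biproduct.ι_desc_assoc, Category.assoc, biproduct.lift_π, Category.comp_id]
    by_cases h : i = j
    · subst h; rw [biproduct.ι_π_self, biproduct.ι_π_self]
    · rw [biproduct.ι_π_ne _ h, biproduct.ι_π_ne _ fun e => h (Fin.succ_injective _ e)]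
  have hid : biproduct.π M 0 ≫ biproduct.ι M 0 +
      (biproduct.lift fun j : Fin n => biproduct.π M j.succ) ≫
        (biproduct.desc fun j : Fin n => biproduct.ι M j.succ) = 𝟙 (⨁ M) := by
    rw [biproduct.lift_desc, ← biproduct.total, Fin.sum_univ_succ]
  ShortComplex.Splitting.shortExact
    { r := biproduct.π M 0
      s := biproduct.desc fun j : Fin n => biproduct.ι M j.succ
      f_r := biproduct.ι_π_self M 0
      s_g := hsg
      id := hid }

/-- A property closed under extensions and containing zero holds for finite sums. -/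
theorem biproduct_induction (P : X.Modules → Prop) (h0 : ∀ M, IsZero M → P M)
    (hext : ∀ S : ShortComplex X.Modules, S.ShortExact → P S.X₁ → P S.X₃ → P S.X₂) :
    ∀ {n : ℕ} (M : Fin n → X.Modules), (∀ i, P (M i)) → P (⨁ M)
  | 0, M, _ => h0 _ (by
      rw [IsZero.iff_id_eq_zero]
      exact biproduct.hom_ext _ _ fun i => i.elim0)
  | n + 1, M, h => hext (consSC M) (consSC_shortExact M) (h 0)
      (biproduct_induction P h0 hext _ fun j => h j.succ)

lemma isCoh_of_isZero {M : X.Modules} (h : IsZero M) : Coh.IsCoh M := by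
  haveI := isQuasicoherent_of_isZero h
  refine ⟨inferInstance, isFiniteType_of_finite_sections M (fun i : X.affineOpens => i.1)
    (iSup_affineOpens_eq_top X) (fun i => i.2) fun i => ?_⟩
  haveI : Subsingleton Γ(M, i.1) := subsingleton_of_forall_eq 0 fun s => by
    have e := congr((Scheme.Modules.Hom.app $((IsZero.iff_id_eq_zero M).mp h) i.1) s)
    exact e
  infer_instance

lemma isCoh_X₂ (S : ShortComplex X.Modules) (hS : S.ShortExact) (h₁ : Coh.IsCoh S.X₁)
    (h₃ : Coh.IsCoh S.X₃) : Coh.IsCoh S.X₂ :=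
  haveI := h₁.1
  haveI := h₁.2
  haveI := h₃.1
  haveI := h₃.2
  ⟨isQuasicoherent_X₂ S hS, isFiniteType_X₂ S hS⟩

lemma isCoh_biproduct {n : ℕ} (M : Fin n → X.Modules) (h : ∀ i, Coh.IsCoh (M i)) :
    Coh.IsCoh (⨁ M) :=
  biproduct_induction Coh.IsCoh (fun _ => isCoh_of_isZero) (fun S hS => isCoh_X₂ S hS) M h

lemma isCoh_of_iso {M N : X.Modules} (e : M ≅ N) (h : Coh.IsCoh M) : Coh.IsCoh N :=
  haveI := h.2
  ⟨isQuasicoherent_of_iso e h.1, isFiniteType_of_iso e⟩

lemma isCoh_kernel [IsLocallyNoetherian X] {M N : X.Modules} (φ : M ⟶ N) (hM : Coh.IsCoh M)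
    (hN : Coh.IsQCoh N) : Coh.IsCoh (kernel φ) :=
  haveI := hM.1
  haveI := hM.2
  haveI : N.IsQuasicoherent := hN
  ⟨isQuasicoherent_kernel φ, isFiniteType_kernel φ⟩

lemma isCoh_cokernel {M N : X.Modules} (φ : M ⟶ N) (hM : Coh.IsQCoh M) (hN : Coh.IsCoh N) :
    Coh.IsCoh (cokernel φ) :=
  haveI : M.IsQuasicoherent := hM
  haveI := hN.1
  haveI := hN.2
  ⟨isQuasicoherent_cokernel φ, isFiniteType_cokernel φ⟩

lemma isCoh_idealMul [IsLocallyNoetherian X] (J : X.IdealSheafData) {M : X.Modules}
    (hM : Coh.IsCoh M) : Coh.IsCoh ((Dual3.idealMul J).obj M) :=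
  haveI := hM.1
  haveI := hM.2
  ⟨isQuasicoherent_idealMul J M, isFiniteType_idealMul J M⟩

lemma isCoh_of_mono [IsLocallyNoetherian X] {M N : X.Modules} (φ : M ⟶ N) [Mono φ]
    (hM : Coh.IsQCoh M) (hN : Coh.IsCoh N) : Coh.IsCoh M :=
  haveI : M.IsQuasicoherent := hM
  haveI := hN.1
  haveI := hN.2
  ⟨hM, isFiniteType_of_mono φ⟩

lemma stalkMapM_comp {M N P : X.Modules} (f : M ⟶ N) (g : N ⟶ P) (x : X)
    (e : M.presheaf.stalk x) : stalkMapM (f ≫ g) x e = stalkMapM g x (stalkMapM f x e) := by
  obtain ⟨W, hxW, s, rfl⟩ := germM_exist e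
  rw [stalkMapM_germ, stalkMapM_germ, stalkMapM_germ]
  rfl

lemma stalkMapM_id {M : X.Modules} (x : X) (e : M.presheaf.stalk x) :
    stalkMapM (𝟙 M) x e = e := by
  obtain ⟨W, hxW, s, rfl⟩ := germM_exist e
  rw [stalkMapM_germ]
  rfl

lemma stalkMapM_zero {M N : X.Modules} (x : X) (e : M.presheaf.stalk x) :
    stalkMapM (0 : M ⟶ N) x e = 0 := by
  obtain ⟨W, hxW, s, rfl⟩ := germM_exist e
  rw [stalkMapM_germ, Scheme.Modules.Hom.zero_app]
  exact germM_zero hxW

lemma stalkMapM_add {M N : X.Modules} (f g : M ⟶ N) (x : X) (e : M.presheaf.stalk x) :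
    stalkMapM (f + g) x e = stalkMapM f x e + stalkMapM g x e := by
  obtain ⟨W, hxW, s, rfl⟩ := germM_exist e
  rw [stalkMapM_germ, stalkMapM_germ, stalkMapM_germ, ← germM_add]
  rfl

lemma stalkMapM_sum {M N : X.Modules} {ι : Type*} (s : Finset ι) (f : ι → (M ⟶ N)) (x : X)
    (e : M.presheaf.stalk x) :
    stalkMapM (∑ i ∈ s, f i) x e = ∑ i ∈ s, stalkMapM (f i) x e := by
  classical
  induction s using Finset.induction_on with
  | empty => exact stalkMapM_zero x e
  | insert a s ha ih => rw [Finset.sum_insert ha, Finset.sum_insert ha, stalkMapM_add, ih]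

section BiproductStalk

variable {n : ℕ} (M : Fin n → X.Modules) (x : X)

/-- The stalk of a finite sum is the product of the stalks. -/
def biproductStalkEquiv :
    (⨁ M).presheaf.stalk x ≃ₗ[X.presheaf.stalk x] ((i : Fin n) → (M i).presheaf.stalk x) :=
  LinearEquiv.ofLinearMap (LinearMap.pi fun i => stalkLinear (biproduct.π M i) x)
    (∑ i, (stalkLinear (biproduct.ι M i) x).comp (LinearMap.proj i))
    (by
      refine LinearMap.ext fun v => funext fun j => ?_
      simp only [LinearMap.comp_apply, LinearMap.pi_apply, LinearMap.sum_apply, map_sum,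
        LinearMap.proj_apply, LinearMap.id_apply]
      rw [Finset.sum_eq_single j]
      · exact (stalkMapM_comp _ _ x _).symm.trans (by
          rw [biproduct.ι_π_self]; exact stalkMapM_id x _)
      · intro i _ hi
        exact (stalkMapM_comp _ _ x _).symm.trans (by
          rw [biproduct.ι_π_ne _ hi]; exact stalkMapM_zero x _)
      · exact fun h => absurd (Finset.mem_univ j) h)
    (by
      refine LinearMap.ext fun e => ?_
      simp only [LinearMap.comp_apply, LinearMap.sum_apply, LinearMap.proj_apply,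
        LinearMap.pi_apply, LinearMap.id_apply]
      refine Eq.trans (Finset.sum_congr rfl fun i _ => (stalkMapM_comp _ _ x e).symm) ?_
      rw [← stalkMapM_sum, biproduct.total]
      exact stalkMapM_id x e)

lemma biproductStalkEquiv_apply (e : (⨁ M).presheaf.stalk x) (i : Fin n) :
    biproductStalkEquiv M x e i = stalkMapM (biproduct.π M i) x e := rfl

lemma bijective_stalkMapM_biproductMap {M' : Fin n → X.Modules} (p : ∀ i, M i ⟶ M' i)
    (h : ∀ i, Function.Bijective (stalkMapM (p i) x)) :
    Function.Bijective (stalkMapM (biproduct.map p) x) := by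
  let e : ((i : Fin n) → (M i).presheaf.stalk x) → ((i : Fin n) → (M' i).presheaf.stalk x) :=
    fun v i => stalkMapM (p i) x (v i)
  have he : Function.Bijective e := Function.Bijective.piMap h
  have hfac : biproductStalkEquiv M' x ∘ stalkMapM (biproduct.map p) x =
      e ∘ biproductStalkEquiv M x := by
    funext s i
    change stalkMapM (biproduct.π M' i) x (stalkMapM _ x s) =
      stalkMapM (p i) x (stalkMapM (biproduct.π M i) x s)
    rw [← stalkMapM_comp, ← stalkMapM_comp, biproduct.map_π]
  have := he.comp (biproductStalkEquiv M x).bijective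
  rw [← hfac] at this
  exact (Function.Bijective.of_comp_iff' (biproductStalkEquiv M' x).bijective _).mp this

end BiproductStalk

section Support

lemma mem_support_of_mono {M N : X.Modules} (φ : M ⟶ N) [Mono φ] :
    CohB1.support M ⊆ CohB1.support N :=
  fun x hx h => hx (subsingleton_stalk_of_mono φ x h)

lemma mem_support_of_epi {M N : X.Modules} (φ : M ⟶ N) [Epi φ] :
    CohB1.support N ⊆ CohB1.support M :=
  fun x hx h => hx ⟨fun a b => by
    obtain ⟨a', rfl⟩ := surjective_stalkMapM_of_epi φ x a
    obtain ⟨b', rfl⟩ := surjective_stalkMapM_of_epi φ x b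
    rw [h.elim a' b']⟩

lemma notMem_support_iff {M : X.Modules} {x : X} :
    x ∉ CohB1.support M ↔ Subsingleton (M.presheaf.stalk x) :=
  not_not

lemma support_biproduct_subset {n : ℕ} (M : Fin n → X.Modules) :
    CohB1.support (⨁ M) ⊆ ⋃ i, CohB1.support (M i) := fun x hx => by
  by_contra h
  simp only [Set.mem_iUnion, not_exists] at h
  have := fun i => notMem_support_iff.mp (h i)
  exact hx (biproductStalkEquiv M x).injective.subsingleton

lemma isClosed_support (M : X.Modules) [M.IsFiniteType] : IsClosed (CohB1.support M) := by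
  refine isOpen_compl_iff.mp (isOpen_iff_forall_mem_open.mpr fun x hx => ?_)
  obtain ⟨U, hxU, hU⟩ := exists_nhd_sections_subsingleton (M := M) x (notMem_support_iff.mp hx)
  refine ⟨U, fun y hy => notMem_support_iff.mpr (subsingleton_of_forall_eq 0 fun e => ?_), U.2, hxU⟩
  obtain ⟨W, hyW, s, rfl⟩ := germM_exist e
  rw [← germM_res (inf_le_left : W ⊓ U ≤ W) (show y ∈ W ⊓ U from ⟨hyW, hy⟩) s,
    (hU (W ⊓ U) inf_le_right).elim (res M inf_le_left s) 0, germM_zero]

lemma isZero_of_support_eq_empty {M : X.Modules} (h : CohB1.support M = ∅) : IsZero M := by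
  refine isZero_of_sections_subsingleton fun W => subsingleton_of_forall_eq 0 fun s => ?_
  refine section_ext M s 0 fun p hp => ?_
  obtain ⟨W', hW, hpW, h0⟩ := germM_eq_zero (hx := hp) (s := s)
    ((notMem_support_iff.mp (h ▸ Set.notMem_empty p)).elim _ _)
  exact ⟨W', hW, hpW, h0.trans (res_zero _).symm⟩

end Support

end Groth.Agent.QC70
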