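import Groth.Agent.QC70.PushClosed
import Groth.Agent.SchBasics.Reduced

set_option autoImplicit false
set_option backward.isDefEq.respectTransparency.types false

/-! Auxiliary inputs for devissage. -/

noncomputable section

universe u

open CategoryTheory Limits AlgebraicGeometry TopologicalSpace Opposite

namespace Groth.Agent.QC70

variable {X : Scheme.{u}}

lemma exists_integral_closed (y : X) :
    ∃ (Z : Scheme.{u}) (i : Z ⟶ X) (_ : IsClosedImmersion i) (_ : IsIntegral Z),
      Set.range i = closure {y} ∧ i (genericPoint Z) = y := by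
  let C : Closeds X := ⟨closure {y}, isClosed_closure⟩
  let I := Scheme.IdealSheafData.vanishingIdeal C
  have hr : Set.range I.subschemeι = closure {y} :=
    SchBasics.range_vanishingIdeal_subschemeι C
  haveI : IsReduced I.subscheme := SchBasics.isReduced_vanishingIdeal_subscheme C
  have hirr : IsIrreducible (Set.range I.subschemeι) := hr ▸ isIrreducible_singleton.closure
  haveI : IrreducibleSpace I.subscheme := by
    have h := isIrreducible_iff_irreducibleSpace.mp hirr
    let e := I.subschemeι.isClosedEmbedding.isEmbedding.toHomeomorph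
    exact (irreducibleSpace_def _).mpr (by
      have := (IrreducibleSpace.isIrreducible_univ (Set.range I.subschemeι)).image e.symm
        e.symm.continuous.continuousOn
      rwa [Set.image_univ, e.symm.surjective.range_eq] at this)
  haveI : IsIntegral I.subscheme := isIntegral_of_irreducibleSpace_of_isReduced _
  refine ⟨I.subscheme, I.subschemeι, inferInstance, inferInstance, hr, ?_⟩
  have h1 : IsGenericPoint (I.subschemeι (genericPoint I.subscheme)) (closure {y}) := by
    have h := (genericPoint_spec I.subscheme).image I.subschemeι.continuous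
    rwa [Set.image_univ, hr, closure_closure] at h
  exact h1.eq isGenericPoint_closure

lemma isCoh_unit [IsLocallyNoetherian X] : Coh.IsCoh (Coh.structureModule X) := by
  haveI : (unitMod X).IsQuasicoherent := isQuasicoherent_unit
  refine ⟨inferInstanceAs (unitMod X).IsQuasicoherent,
    isFiniteType_of_finite_sections (unitMod X) (fun i : X.affineOpens => i.1)
      (iSup_affineOpens_eq_top X) (fun i => i.2) fun i => ?_⟩
  refine ⟨⟨{toUnit 1}, eq_top_iff.mpr fun s _ => ?_⟩⟩
  have : s = (show Γ(X, i.1) from s) • toUnit (1 : Γ(X, i.1)) := by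
    rw [smul_unit, mul_one]
  rw [this]
  exact Submodule.smul_mem _ _ (Submodule.subset_span (Finset.mem_coe.mpr (Finset.mem_singleton_self _)))

lemma nontrivial_stalk_unit (z : X) :
    Nontrivial ((Coh.structureModule X).presheaf.stalk z) := by
  refine nontrivial_of_ne (germM (unitMod X) ⊤ z trivial (toUnit 1)) 0 fun h => ?_
  obtain ⟨W, hW, hzW, h0⟩ := germM_eq_zero h
  have h1 : X.presheaf.germ W z hzW (resO X hW (1 : Γ(X, ⊤))) = 0 :=
    (congrArg (X.presheaf.germ W z hzW) (show resO X hW (1 : Γ(X, ⊤)) = 0 from h0)).trans (map_zero _)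
  rw [germ_resO, map_one] at h1
  exact one_ne_zero h1

section PushCoh

variable {Y : Scheme.{u}} [IsNoetherian X] [IsNoetherian Y] (f : X ⟶ Y)

lemma isQuasicoherent_push (M : X.Modules) [M.IsQuasicoherent] :
    ((Scheme.Modules.pushforward f).obj M).IsQuasicoherent :=
  QCqs72.isQuasicoherent_pushforward (M := M) f

lemma isCoh_push_X₂ (S : ShortComplex X.Modules) (hS : S.ShortExact) (h₁ : Coh.IsCoh S.X₁)
    (h₂ : Coh.IsCoh S.X₂) (h₃ : Coh.IsCoh S.X₃)
    (p₁ : Coh.IsCoh ((Scheme.Modules.pushforward f).obj S.X₁))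
    (p₃ : Coh.IsCoh ((Scheme.Modules.pushforward f).obj S.X₃)) :
    Coh.IsCoh ((Scheme.Modules.pushforward f).obj S.X₂) := by
  haveI := h₂.1
  haveI := (Scheme.Modules.pullbackPushforwardAdjunction f).rightAdjoint_preservesLimits
  have q₂ := isQuasicoherent_push f S.X₂
  let φ := (Scheme.Modules.pushforward f).map S.g
  have hk : Coh.IsCoh (kernel φ) := by
    refine isCoh_of_iso ?_ p₁
    exact (Scheme.Modules.pushforward f).mapIso
      (hS.fIsKernel.conePointUniqueUpToIso (kernelIsKernel S.g)) ≪≫ PreservesKernel.iso _ S.g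
  let T := ShortComplex.mk (kernel.ι φ) (Abelian.factorThruImage φ)
    (by rw [← cancel_mono (Abelian.image.ι φ), Category.assoc, Abelian.image.fac,
      kernel.condition, zero_comp])
  haveI := p₃.1
  have him : Coh.IsCoh (Abelian.image φ) :=
    isCoh_of_mono (Abelian.image.ι φ) (isQuasicoherent_abelianImage φ) p₃
  refine isCoh_X₂ T ?_ hk him
  exact
    { exact := ShortComplex.exact_of_f_is_kernel _ (KernelFork.IsLimit.ofι _ _
        (fun g hg => kernel.lift φ g (by rw [← Abelian.image.fac φ, reassoc_of% hg, zero_comp]))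
        (fun g hg => kernel.lift_ι _ _ _)
        (fun g hg m hm => by rw [← cancel_mono (kernel.ι φ), kernel.lift_ι]; exact hm))
      mono_f := (inferInstance : Mono (kernel.ι φ))
      epi_g := (inferInstance : Epi (Abelian.factorThruImage φ)) }

lemma isCoh_push_root (F : X.Modules) (r : ℕ) (hF : Coh.IsCoh F) (hr : 1 ≤ r)
    (h : Coh.IsCoh ((Scheme.Modules.pushforward f).obj (∐ fun _ : Fin r => F))) :
    Coh.IsCoh ((Scheme.Modules.pushforward f).obj F) := by
  haveI := hF.1
  haveI := h.2
  refine ⟨isQuasicoherent_push f F, ?_⟩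
  let i : F ⟶ ∐ fun _ : Fin r => F := Sigma.ι (fun _ : Fin r => F) ⟨0, hr⟩
  let p : (∐ fun _ : Fin r => F) ⟶ F := Sigma.desc fun _ => 𝟙 F
  have hip : i ≫ p = 𝟙 F := Sigma.ι_desc _ _
  haveI : IsSplitEpi p := IsSplitEpi.mk' ⟨i, hip⟩
  haveI : Epi ((Scheme.Modules.pushforward f).map p) := inferInstance
  exact isFiniteType_of_epi ((Scheme.Modules.pushforward f).map p)

end PushCoh

end Groth.Agent.QC70
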