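import Groth.Agent.QC70.Vanish
import Groth.Agent.QC70.Coherent
import Mathlib.RingTheory.Filtration
import Mathlib.LinearAlgebra.Isomorphisms
import Mathlib.Algebra.Module.Projective

set_option autoImplicit false
set_option backward.isDefEq.respectTransparency.types false

/-! Morphisms on the complement of the support of an ideal extend to a power times the module. -/

noncomputable section

universe u

open CategoryTheory Limits AlgebraicGeometry TopologicalSpace Opposite

namespace Groth.Agent.QC70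

section Module

variable {A : Type*} [CommRing A] {M N N' : Type*} [AddCommGroup M] [Module A M]
  [AddCommGroup N] [Module A N] [AddCommGroup N'] [Module A N'] (a : Ideal A)

lemma exists_pow_smul_mem_of_fg {S : Submodule A M} (hS : S.FG) (T : Submodule A M)
    (h : ∀ y ∈ S, ∃ m : ℕ, ∀ b ∈ a ^ m, b • y ∈ T) :
    ∃ m : ℕ, ∀ b ∈ a ^ m, ∀ y ∈ S, b • y ∈ T := by
  obtain ⟨t, rfl⟩ := hS
  choose m hm using fun y : t => h y.1 (Submodule.subset_span y.2)
  refine ⟨Finset.univ.sup m, fun b hb y hy => ?_⟩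
  refine (Submodule.span_le (p := T.comap (b • LinearMap.id))).mpr ?_ hy
  intro z hz
  exact hm ⟨z, hz⟩ b (Ideal.pow_le_pow_right (Finset.le_sup (Finset.mem_univ _)) hb)

/-- A map into `N'` lifts to `N` on a power of `a` times the source, if `N → N'` is an isomorphism
up to `a`-power torsion. -/
theorem exists_lift_pow [IsNoetherianRing A] [Module.Finite A M] (r : N →ₗ[A] N')
    (θ : M →ₗ[A] N') (h1 : ∀ y, ∃ m : ℕ, ∀ b ∈ a ^ m, b • y ∈ LinearMap.range r)
    (h2 : ∀ y, r y = 0 → ∃ m : ℕ, ∀ b ∈ a ^ m, b • y = 0) :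
    ∃ (m : ℕ) (l : (a ^ m • ⊤ : Submodule A M) →ₗ[A] N), ∀ x, r (l x) = θ x := by
  obtain ⟨m₁, hm₁⟩ := exists_pow_smul_mem_of_fg a
    (LinearMap.range_eq_map θ ▸ (Module.Finite.fg_top (R := A) (M := M)).map θ) (LinearMap.range r)
    (fun y _ => h1 y)
  set M₁ : Submodule A M := a ^ m₁ • ⊤
  have hM₁ : ∀ x ∈ M₁, θ x ∈ LinearMap.range r := fun x hx =>
    Submodule.smul_induction_on hx (fun b hb y _ => by
      rw [map_smul]; exact hm₁ b hb _ ⟨y, rfl⟩) fun x y hx hy => by
      rw [map_add]; exact add_mem hx hy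
  obtain ⟨k, π, hπ⟩ := Module.Finite.exists_fin' A M₁
  obtain ⟨lam, hlam⟩ := Module.projective_lifting_property r.rangeRestrict
    ((θ.comp (M₁.subtype.comp π)).codRestrict (LinearMap.range r) fun v => hM₁ _ (π v).2)
    r.surjective_rangeRestrict
  have hlam' : ∀ v, r (lam v) = θ (π v) := fun v =>
    congr(($hlam v : N'))
  obtain ⟨p, hp⟩ := exists_pow_smul_mem_of_fg a
    ((IsNoetherian.noetherian (LinearMap.ker π)).map lam) ⊥ (by
      rintro _ ⟨v, hv, rfl⟩
      simp only [Submodule.mem_bot]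
      refine h2 _ ?_
      rw [hlam', LinearMap.mem_ker.mp hv, Submodule.coe_zero, map_zero])
  obtain ⟨c, hc⟩ := a.exists_pow_inf_eq_pow_smul (LinearMap.ker π)
  let π₀ := M₁.subtype.comp π
  let Q : Submodule A (Fin k → A) := a ^ (p + c) • ⊤
  have hmap : Q.map π₀ = a ^ (p + c + m₁) • ⊤ := by
    rw [Submodule.map_smul'', Submodule.map_top, LinearMap.range_comp,
      LinearMap.range_eq_top.mpr hπ, Submodule.map_top, Submodule.range_subtype, show M₁ = a ^ m₁ • ⊤ from rfl,
      ← Submodule.mul_smul, ← pow_add]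
  let g : Q →ₗ[A] (a ^ (p + c + m₁) • ⊤ : Submodule A M) :=
    (LinearEquiv.ofEq _ _ hmap).toLinearMap.comp (π₀.submoduleMap Q)
  have hg : Function.Surjective g :=
    (LinearEquiv.ofEq _ _ hmap).surjective.comp (π₀.submoduleMap_surjective Q)
  have hker : LinearMap.ker g ≤ LinearMap.ker (lam.comp Q.subtype) := by
    intro v hv
    rw [LinearMap.mem_ker] at hv ⊢
    have hv' : π v.1 = 0 := Subtype.ext congr(($hv : M))
    have hmem : v.1 ∈ a ^ p • LinearMap.ker π := by
      have h' : v.1 ∈ a ^ (p + c) • ⊤ ⊓ LinearMap.ker π := ⟨v.2, hv'⟩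
      rw [hc (p + c) (Nat.le_add_left c p), Nat.add_sub_cancel] at h'
      exact Submodule.smul_mono le_rfl inf_le_right h'
    have h3 : lam v.1 ∈ a ^ p • (LinearMap.ker π).map lam := by
      rw [← Submodule.map_smul'']
      exact Submodule.mem_map_of_mem hmem
    exact (Submodule.mem_bot A).mp (Submodule.smul_le.mpr (fun b hb y hy => hp b hb y hy) h3)
  refine ⟨p + c + m₁, ((LinearMap.ker g).liftQ (lam.comp Q.subtype) hker).comp
    (g.quotKerEquivOfSurjective hg).symm.toLinearMap, fun x => ?_⟩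
  obtain ⟨v, rfl⟩ := hg x
  rw [LinearMap.comp_apply, LinearEquiv.coe_coe, LinearMap.quotKerEquivOfSurjective_symm_apply,
    Submodule.liftQ_apply, LinearMap.comp_apply, hlam']
  rfl

end Module

variable {X : Scheme.{u}}

namespace HomOn

variable {M N : X.Modules}

/-- Local morphisms on an open of an affine are determined by the sections over the affine. -/
lemma ext_of_affine_le {U V : X.Opens} (hU : IsAffineOpen U) (hM : IsLocAt M U) (hV : V ≤ U)
    (φ ψ : HomOn M N V) (h : ∀ t : Γ(M, U),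
      φ.app V le_rfl (res M hV t) = ψ.app V le_rfl (res M hV t))
    {W : X.Opens} (hW : W ≤ V) (s : Γ(M, W)) : φ.app W hW s = ψ.app W hW s := by
  refine section_ext N _ _ fun p hp => ?_
  obtain ⟨f, hfW, hpf⟩ := hU.exists_basicOpen_le ⟨p, hp⟩ (hV (hW hp))
  refine ⟨X.basicOpen f, hfW, hpf, ?_⟩
  obtain ⟨n, t, ht⟩ := hM.exists_of f (res M hfW s)
  have hu : IsUnit (resO X (X.basicOpen_le f) f) := RingedSpace.isUnit_res_basicOpen _ f
  rw [← φ.app_res hW hfW, ← ψ.app_res hW hfW]
  refine (hu.pow n).smul_left_cancel.mp ?_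
  rw [← LinearMap.map_smul, ← LinearMap.map_smul, ← ht, ← res_res hV (hfW.trans hW),
    φ.app_res le_rfl, ψ.app_res le_rfl, h]

end HomOn

/-- Sections over `W ⊓ U` extend to `W` after multiplying by a power of `I`. -/
lemma exists_pow_smul_mem_res [IsNoetherian X] (I : X.IdealSheafData) {U : X.Opens}
    (hU : (U : Set X) = (I.support : Set X)ᶜ) (F : X.Modules) [F.IsQuasicoherent]
    (W : X.affineOpens) (y : Γ(F, W.1 ⊓ U)) :
    ∃ m : ℕ, ∀ b ∈ I.ideal W ^ m, ∃ t, res F (inf_le_left : W.1 ⊓ U ≤ W.1) t =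
      resO X (inf_le_left : W.1 ⊓ U ≤ W.1) b • y := by
  have := IsLocallyNoetherian.component_noetherian W
  let J : Ideal Γ(X, W.1) :=
    { carrier := {b | ∃ t, res F (inf_le_left : W.1 ⊓ U ≤ W.1) t =
          resO X (inf_le_left : W.1 ⊓ U ≤ W.1) b • y}
      add_mem' := by
        rintro b b' ⟨t, ht⟩ ⟨t', ht'⟩
        exact ⟨t + t', by
          rw [res_add, ht, ht', ← add_smul]
          exact congrArg (· • y) (map_add (X.presheaf.map _).hom b b').symm⟩
      zero_mem' := ⟨0, by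
        rw [res_zero]
        exact ((congrArg (· • y) (map_zero (X.presheaf.map _).hom)).trans (zero_smul _ y)).symm⟩
      smul_mem' := by
        rintro c b ⟨t, ht⟩
        exact ⟨c • t, by
          rw [res_smul, ht, smul_smul]
          exact congrArg (· • y) (map_mul (X.presheaf.map _).hom c b).symm⟩ }
  have key : I.ideal W ≤ J.radical := by
    intro b hb
    have hle : X.basicOpen b ≤ W.1 ⊓ U :=
      le_inf (X.basicOpen_le b) (basicOpen_le_of_mem_ideal I hU W hb)
    obtain ⟨n, t, ht⟩ := (isLocAt_of_isQuasicoherent F W.2).exists_of b (res F hle y)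
    have hd : res F (X.basicOpen_le (resO X (inf_le_left : W.1 ⊓ U ≤ W.1) b))
        (res F inf_le_left t - resO X (inf_le_left : W.1 ⊓ U ≤ W.1) (b ^ n) • y) = 0 := by
      have hb' : X.basicOpen (resO X (inf_le_left : W.1 ⊓ U ≤ W.1) b) ≤ X.basicOpen b := by
        rw [Scheme.basicOpen_res]; exact inf_le_right
      have h2 := congrArg (res F hb') ht
      rw [res_res, res_pow_smul, resO_resO, res_res] at h2
      rw [res_sub, res_res, res_smul, resO_resO, resO_pow, h2, sub_self]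
    obtain ⟨k, hk⟩ := QCqs72.eq_zero_of_isCompact F
      (NoetherianSpace.isCompact ((W.1 ⊓ U : X.Opens) : Set X)) _ _ hd
    refine ⟨k + n, b ^ k • t, ?_⟩
    rw [smul_sub, sub_eq_zero] at hk
    rw [res_pow_smul, hk, smul_smul, pow_add, ← resO_pow]
    exact congrArg (· • y) (map_mul (X.presheaf.map _).hom _ _).symm
  obtain ⟨m, hm⟩ := Ideal.exists_pow_le_of_le_radical_of_fg key (IsNoetherian.noetherian _)
  exact ⟨m, fun b hb => hm hb⟩

/-- Local lift of `ψ` on an affine open. -/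
lemma exists_local_idealMul_lift [IsNoetherian X] (I : X.IdealSheafData) {U : X.Opens}
    (hU : (U : Set X) = (I.support : Set X)ᶜ) (F G : X.Modules) [F.IsQuasicoherent]
    [G.IsQuasicoherent] [G.IsFiniteType] (Φ : HomOn G F U) (W : X.affineOpens) :
    ∃ m : ℕ, ∀ n, m ≤ n → ∃ ψ : HomOn ((Dual3.idealMul (I ^ n)).obj G) F W.1,
      ∀ (V : X.Opens) (hV : V ≤ W.1) (hV' : V ≤ U) (s : Γ((Dual3.idealMul (I ^ n)).obj G, V)),
        ψ.app V hV s = Φ.app V hV' ((Dual3.idealMulι (I ^ n) G).app V s) := by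
  have := IsLocallyNoetherian.component_noetherian W
  have := finite_sections_of_isFiniteType G W.2
  letI : Module Γ(X, W.1) Γ(F, W.1 ⊓ U) :=
    Module.compHom Γ(F, W.1 ⊓ U) (X.presheaf.map (homOfLE (inf_le_left : W.1 ⊓ U ≤ W.1)).op).hom
  let r : Γ(F, W.1) →ₗ[Γ(X, W.1)] Γ(F, W.1 ⊓ U) :=
    { toFun := fun t => res F inf_le_left t
      map_add' := res_add _
      map_smul' := fun b t => res_smul _ b t }
  let θ : Γ(G, W.1) →ₗ[Γ(X, W.1)] Γ(F, W.1 ⊓ U) :=
    { toFun := fun x => Φ.app (W.1 ⊓ U) inf_le_right (res G inf_le_left x)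
      map_add' := fun x y => by rw [res_add, map_add]
      map_smul' := fun b x => by
        rw [res_smul, map_smul]
        rfl }
  have h2 : ∀ y, r y = 0 → ∃ p : ℕ, ∀ b ∈ I.ideal W ^ p, b • y = 0 := fun y hy => by
    obtain ⟨p, hp⟩ := exists_pow_smul_eq_zero I hU F W (Submodule.span _ {y})
      (Submodule.fg_span_singleton y) (fun z hz => by
        obtain ⟨c, rfl⟩ := Submodule.mem_span_singleton.mp hz
        rw [res_smul, show res F (inf_le_left : W.1 ⊓ U ≤ W.1) y = 0 from hy, smul_zero])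
    exact ⟨p, fun b hb => hp b hb y (Submodule.subset_span rfl)⟩
  obtain ⟨m, l, hl⟩ := exists_lift_pow (I.ideal W) r θ
    (fun y => exists_pow_smul_mem_res I hU F W y) h2
  refine ⟨m, fun n hn => ?_⟩
  have hmem : ∀ x : Γ((Dual3.idealMul (I ^ n)).obj G, W.1),
      appLinear (Dual3.idealMulι (I ^ n) G) W.1 x ∈
        (I.ideal W ^ m • ⊤ : Submodule Γ(X, W.1) Γ(G, W.1)) := fun x => by
    have h := (mem_idealMul_iff (I ^ n) G W _).mp ⟨x, rfl⟩
    rw [Scheme.IdealSheafData.ideal_pow, Pi.pow_apply] at h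
    exact Submodule.smul_mono_left (Ideal.pow_le_pow_right hn) h
  have := isQuasicoherent_idealMul (I ^ n) G
  refine ⟨HomOn.ofLinear W.2 (l.comp ((appLinear _ W.1).codRestrict _ hmem)),
    fun V hV hV' s => ?_⟩
  refine HomOn.ext_of_affine_le W.2 (isLocAt_idealMul _ _ W.2) (inf_le_left : W.1 ⊓ U ≤ W.1)
    ((HomOn.ofLinear W.2 _).mono inf_le_left)
    (((HomOn.ofHom (Dual3.idealMulι (I ^ n) G) U).comp Φ).mono inf_le_right) (fun t => ?_)
    (le_inf hV hV') s
  refine ((HomOn.ofLinear W.2 _).app_res le_rfl inf_le_left t).trans ?_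
  rw [HomOn.ofLinear_app_self]
  refine (hl _).trans ?_
  exact congrArg (Φ.app _ inf_le_right) (app_res _ _ t).symm

lemma exists_idealMul_pow_le (I : X.IdealSheafData) (G : X.Modules) [G.IsQuasicoherent]
    (n p : ℕ) :
    ∃ κ : (Dual3.idealMul (I ^ (n + p))).obj G ⟶ (Dual3.idealMul (I ^ n)).obj G,
      κ ≫ Dual3.idealMulι (I ^ n) G = Dual3.idealMulι (I ^ (n + p)) G := by
  refine exists_lift_of_mono _ _ (fun W : X.affineOpens => W.1) (iSup_affineOpens_eq_top X)
    (fun W => W.2) (fun W => isLocAt_idealMul _ _ W.2) fun W x => ?_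
  refine (mem_idealMul_iff (I ^ n) G W _).mpr ?_
  have h := (mem_idealMul_iff (I ^ (n + p)) G W _).mp ⟨x, rfl⟩
  simp only [Scheme.IdealSheafData.ideal_pow, Pi.pow_apply] at h ⊢
  exact Submodule.smul_mono_left (Ideal.pow_le_pow_right (Nat.le_add_right n p)) h

lemma app_mem_pow_smul_top (I : X.IdealSheafData) {G : X.Modules} [G.IsQuasicoherent] {n p : ℕ}
    {κ : (Dual3.idealMul (I ^ (n + p))).obj G ⟶ (Dual3.idealMul (I ^ n)).obj G}
    (hκ : κ ≫ Dual3.idealMulι (I ^ n) G = Dual3.idealMulι (I ^ (n + p)) G)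
    (W : X.affineOpens) (x : Γ((Dual3.idealMul (I ^ (n + p))).obj G, W.1)) :
    κ.app W.1 x ∈ (I.ideal W ^ p • ⊤ :
      Submodule Γ(X, W.1) Γ((Dual3.idealMul (I ^ n)).obj G, W.1)) := by
  have h := (mem_idealMul_iff (I ^ (n + p)) G W _).mp ⟨x, rfl⟩
  have hr : LinearMap.range (appLinear (Dual3.idealMulι (I ^ n) G) W.1) = I.ideal W ^ n • ⊤ := by
    apply SetLike.coe_injective
    refine Eq.trans ?_ ((range_idealMulι_app (I ^ n) G W).trans ?_)
    · rfl
    · rw [Scheme.IdealSheafData.ideal_pow, Pi.pow_apply]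
  have he : (I.ideal W ^ (n + p) • ⊤ : Submodule Γ(X, W.1) Γ(G, W.1)) =
      Submodule.map (appLinear (Dual3.idealMulι (I ^ n) G) W.1)
        (I.ideal W ^ p • ⊤ :
          Submodule Γ(X, W.1) Γ((Dual3.idealMul (I ^ n)).obj G, W.1)) := by
    rw [Submodule.map_smul'', Submodule.map_top, hr, ← Submodule.mul_smul, ← pow_add, add_comm p n]
  rw [Scheme.IdealSheafData.ideal_pow, Pi.pow_apply, he] at h
  obtain ⟨z, hz, hzx⟩ := h
  have : z = κ.app W.1 x := app_injective_of_mono (Dual3.idealMulι (I ^ n) G) _ (hzx.trans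
    (congr((Scheme.Modules.Hom.app $hκ W.1) x)).symm)
  exact this ▸ hz

/-- Deligne's formula, surjectivity. -/
theorem exists_idealMul_lift [IsNoetherian X] (I : X.IdealSheafData) {U : X.Opens}
    (hU : (U : Set X) = (I.support : Set X)ᶜ) (F G : X.Modules) [F.IsQuasicoherent]
    [G.IsQuasicoherent] [G.IsFiniteType] (Φ : HomOn G F U) :
    ∃ (n : ℕ) (ψ : (Dual3.idealMul (I ^ n)).obj G ⟶ F),
      ∀ (V : X.Opens) (hV : V ≤ U) (s : Γ((Dual3.idealMul (I ^ n)).obj G, V)),
        ψ.app V s = Φ.app V hV ((Dual3.idealMulι (I ^ n) G).app V s) := by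
  obtain ⟨T, hTfin, hTcov⟩ := isCompact_and_isOpen_iff_finite_and_eq_biUnion_affineOpens.mp
    ⟨(isCompact_univ : IsCompact (Set.univ : Set X)), isOpen_univ⟩
  have hcov : ⨆ W : T, (W.1 : X.Opens) = ⊤ := by
    ext1
    simpa using hTcov.symm
  have := hTfin.to_subtype
  cases nonempty_fintype T
  choose m hm using fun W : T => exists_local_idealMul_lift I hU F G Φ W.1
  let n := Finset.univ.sup m
  choose ψ hψ using fun W : T => hm W n (Finset.le_sup (Finset.mem_univ W))
  have hn := isQuasicoherent_idealMul (I ^ n) G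
  have hn' := isFiniteType_idealMul (I ^ n) G
  have hov : ∀ i j : T, ∃ p : ℕ, ∀ (κ : (Dual3.idealMul (I ^ (n + p))).obj G ⟶
      (Dual3.idealMul (I ^ n)).obj G) (_ : κ ≫ Dual3.idealMulι (I ^ n) G =
        Dual3.idealMulι (I ^ (n + p)) G) (V : X.Opens) (hi : V ≤ i.1.1) (hj : V ≤ j.1.1)
      (s : Γ((Dual3.idealMul (I ^ (n + p))).obj G, V)),
      (ψ i).app V hi (κ.app V s) = (ψ j).app V hj (κ.app V s) := by
    intro i j
    obtain ⟨S, hSfin, hScov⟩ := isCompact_and_isOpen_iff_finite_and_eq_biUnion_affineOpens.mp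
      ⟨NoetherianSpace.isCompact ((i.1.1 ⊓ j.1.1 : X.Opens) : Set X),
        (i.1.1 ⊓ j.1.1 : X.Opens).isOpen⟩
    have hSle : ∀ V : S, (V.1 : X.Opens) ≤ i.1.1 ⊓ j.1.1 := fun V => by
      rw [← SetLike.coe_subset_coe, hScov]
      exact fun x hx => Set.mem_iUnion₂.mpr ⟨V.1, V.2, hx⟩
    have hScov' : i.1.1 ⊓ j.1.1 ≤ ⨆ V : S, (V.1 : X.Opens) := by
      intro x hx
      have hx' := hScov.le hx
      simp only [Set.mem_iUnion] at hx'
      obtain ⟨V, hV, hxV⟩ := hx'
      exact Opens.mem_iSup.mpr ⟨⟨V, hV⟩, hxV⟩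
    have := hSfin.to_subtype
    cases nonempty_fintype S
    have hp : ∀ V : S, ∃ p : ℕ, ∀ b ∈ I.ideal V.1 ^ p,
        ∀ x : Γ((Dual3.idealMul (I ^ n)).obj G, V.1.1),
          b • (ψ i).app _ ((hSle V).trans inf_le_left) x =
            b • (ψ j).app _ ((hSle V).trans inf_le_right) x := by
      intro V
      let D := (ψ i).app _ ((hSle V).trans inf_le_left) - (ψ j).app _ ((hSle V).trans inf_le_right)
      have hfin := finite_sections_of_isFiniteType ((Dual3.idealMul (I ^ n)).obj G) V.1.2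
      obtain ⟨p, hp⟩ := exists_pow_smul_eq_zero I hU F V.1 (LinearMap.range D)
        (LinearMap.range_eq_map D ▸ hfin.fg_top.map D) (by
          rintro _ ⟨x, rfl⟩
          rw [LinearMap.sub_apply, res_sub, ← (ψ i).app_res, ← (ψ j).app_res,
            hψ i _ _ inf_le_right, hψ j _ _ inf_le_right, sub_self])
      refine ⟨p, fun b hb x => ?_⟩
      have := hp b hb (D x) ⟨x, rfl⟩
      rwa [LinearMap.sub_apply, smul_sub, sub_eq_zero] at this
    choose p hp using hp
    refine ⟨Finset.univ.sup p, fun κ hκ V hi hj s => ?_⟩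
    refine section_ext' F (fun W : S => V ⊓ W.1.1) (fun _ => inf_le_left) ?_ _ _ fun W => ?_
    · rw [← inf_iSup_eq]
      exact le_inf le_rfl ((le_inf hi hj).trans hScov')
    · rw [← (ψ i).app_res, ← (ψ j).app_res, ← app_res]
      refine HomOn.ext_of_affine_le W.1.2 (isLocAt_idealMul _ _ W.1.2) le_rfl
        ((HomOn.ofHom κ _).comp ((ψ i).mono ((hSle W).trans inf_le_left)))
        ((HomOn.ofHom κ _).comp ((ψ j).mono ((hSle W).trans inf_le_right))) (fun t => ?_)
        inf_le_right _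
      rw [res_self]
      change (ψ i).app _ _ (κ.app _ t) = (ψ j).app _ _ (κ.app _ t)
      have key := app_mem_pow_smul_top I hκ W.1 t
      refine Submodule.smul_induction_on key (fun b hb x _ => ?_) (fun x y hx hy => ?_)
      · rw [map_smul, map_smul]
        exact hp W b (Ideal.pow_le_pow_right (Finset.le_sup (Finset.mem_univ W)) hb) x
      · rw [map_add, map_add, hx, hy]
  choose p hp using hov
  let P := Finset.univ.sup fun ij : T × T => p ij.1 ij.2
  obtain ⟨κ, hκ⟩ := exists_idealMul_pow_le I G n P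
  let φ : ∀ W : T, HomOn ((Dual3.idealMul (I ^ (n + P))).obj G) F W.1.1 := fun W =>
    (HomOn.ofHom κ W.1.1).comp (ψ W)
  have hcomp : HomOn.Compatible φ := by
    intro i j V hi hj s
    have hle : p i j ≤ P :=
      Finset.le_sup (f := fun ij : T × T => p ij.1 ij.2) (Finset.mem_univ (i, j))
    obtain ⟨d, hd⟩ := Nat.exists_eq_add_of_le hle
    obtain ⟨κ₁, hκ₁⟩ := exists_idealMul_pow_le I G n (p i j)
    obtain ⟨κ₂, hκ₂⟩ : ∃ κ₂ : (Dual3.idealMul (I ^ (n + P))).obj G ⟶
        (Dual3.idealMul (I ^ (n + p i j))).obj G, κ₂ ≫ Dual3.idealMulι (I ^ (n + p i j)) G =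
          Dual3.idealMulι (I ^ (n + P)) G := by
      rw [hd, ← add_assoc]
      exact exists_idealMul_pow_le I G (n + p i j) d
    have hκe : κ = κ₂ ≫ κ₁ := by
      rw [← cancel_mono (Dual3.idealMulι (I ^ n) G), hκ, Category.assoc, hκ₁, hκ₂]
    change (ψ i).app V hi (κ.app V s) = (ψ j).app V hj (κ.app V s)
    rw [hκe]
    exact hp i j κ₁ hκ₁ V hi hj _
  refine ⟨n + P, (HomOn.glue hcomp hcov.ge).toHom, fun V hV s => ?_⟩
  refine section_ext' F (fun W : T => V ⊓ W.1.1) (fun _ => inf_le_left) ?_ _ _ fun W => ?_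
  · rw [← inf_iSup_eq, hcov, inf_top_eq]
  · rw [← app_res, HomOn.toHom_app, HomOn.glue_app hcomp hcov.ge le_top W inf_le_right]
    change (ψ W).app _ _ (κ.app _ _) = _
    rw [hψ W _ inf_le_right (inf_le_left.trans hV), ← Φ.app_res]
    refine congrArg _ ?_
    refine Eq.trans ?_ (app_res _ _ s)
    exact congr((Scheme.Modules.Hom.app $hκ (V ⊓ W.1.1)) (res _ inf_le_left s))

end Groth.Agent.QC70
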