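import Groth.Agent.QC70.HomMod
import Groth.Agent.QC70.Deligne
import Groth.Agent.QC70.CohOps

set_option autoImplicit false
set_option backward.isDefEq.respectTransparency.types false

/-! Sections of `𝓗om` on affine opens; coherence of `𝓗om` of coherent modules. -/

noncomputable section

universe u

open CategoryTheory Limits AlgebraicGeometry TopologicalSpace Opposite

namespace Groth.Agent.QC70

variable {X : Scheme.{u}} {M N : X.Modules} {U V : X.Opens}

/-- Sections of `𝓗om` out of a quasi-coherent module over an affine open are linear maps. -/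
def homSecEquiv (hU : IsAffineOpen U) [M.IsQuasicoherent] :
    Γ(homMod M N, U) ≃ₗ[Γ(X, U)] (Γ(M, U) →ₗ[Γ(X, U)] Γ(N, U)) where
  toFun φ := (ofSec φ).app U le_rfl
  map_add' _ _ := rfl
  map_smul' a φ := LinearMap.ext fun s => by
    change resO X le_rfl a • (ofSec φ).app U le_rfl s = a • (ofSec φ).app U le_rfl s
    rw [resO_self]
  invFun l := (HomOn.ofLinear hU l).toSec
  left_inv φ := HomOn.ext' fun W hW s =>
    HomOn.ext_of_affine hU (isLocAt_of_isQuasicoherent M hU) _ (ofSec φ)
      (HomOn.ofLinear_app_self hU _) hW s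
  right_inv l := HomOn.ofLinear_app_self hU l

theorem isLocAt_homMod [M.IsQuasicoherent] (hN : IsLocAt N U) (hU : IsAffineOpen U)
    [Module.FinitePresentation Γ(X, U) Γ(M, U)] : IsLocAt (homMod M N) U where
  exists_of f s := by
    let V := X.basicOpen f
    have hV : V ≤ U := X.basicOpen_le f
    letI := Module.compHom Γ(N, V) (X.presheaf.map (homOfLE hV).op).hom
    have hu : IsUnit (resO X hV f) := RingedSpace.isUnit_res_basicOpen _ f
    let r : Γ(N, U) →ₗ[Γ(X, U)] Γ(N, V) :=
      { toFun := res N hV, map_add' := res_add hV, map_smul' := res_smul hV }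
    haveI : IsLocalizedModule (Submonoid.powers f) r := by
      refine IsLocalizedModule.Away.mk_of_addCommGroup ?_ ?_ ?_
      · rw [Module.End.isUnit_iff]
        exact hu.smul_bijective
      · intro y
        obtain ⟨n, t, ht⟩ := hN.exists_of f y
        refine ⟨n, t, ?_⟩
        change resO X hV (f ^ n) • y = res N hV t
        rw [resO_pow]
        exact ht.symm
      · intro x hx
        exact hN.eq_zero_of f x hx
    let g : Γ(M, U) →ₗ[Γ(X, U)] Γ(N, V) :=
      { toFun := fun m => (ofSec s).app V le_rfl (res M hV m)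
        map_add' := fun a b => by rw [res_add, map_add]
        map_smul' := fun a m => by rw [res_smul, map_smul]; rfl }
    obtain ⟨h, ⟨_, n, rfl⟩, e⟩ :=
      Module.FinitePresentation.exists_lift_of_isLocalizedModule (Submonoid.powers f) r g
    refine ⟨n, (HomOn.ofLinear hU h).toSec, HomOn.ext' fun W hW t => ?_⟩
    refine HomOn.ext_of_affine_le hU (isLocAt_of_isQuasicoherent M hU) hV _
      (resO X hV f ^ n • ofSec s) (fun m => ?_) hW t
    refine ((HomOn.ofLinear hU h).app_res le_rfl hV m).trans ?_
    rw [HomOn.ofLinear_app_self, HomOn.smul_app, resO_self]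
    refine (LinearMap.congr_fun e m).trans ?_
    rw [← resO_pow]
    rfl
  eq_zero_of f t ht := by
    have hV : X.basicOpen f ≤ U := X.basicOpen_le f
    obtain ⟨S, hS⟩ := Module.Finite.fg_top (R := Γ(X, U)) (M := Γ(M, U))
    have h1 : ∀ m : Γ(M, U), ∃ n : ℕ, f ^ n • (ofSec t).app U le_rfl m = 0 := fun m => by
      refine hN.eq_zero_of f _ ?_
      rw [← (ofSec t).app_res le_rfl hV m]
      exact congrArg (fun φ : Γ(homMod M N, X.basicOpen f) =>
        (ofSec φ).app (X.basicOpen f) le_rfl (res M hV m)) ht
    choose k hk using h1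
    refine ⟨S.sup k, (homSecEquiv hU).injective ?_⟩
    rw [map_smul, map_zero]
    refine LinearMap.ext_on hS fun m hm => ?_
    obtain ⟨d, hd⟩ := Nat.exists_eq_add_of_le (Finset.le_sup (f := k) hm)
    change f ^ S.sup k • (ofSec t).app U le_rfl m = 0
    rw [hd, pow_add, mul_comm, mul_smul, hk, smul_zero]

theorem isCoh_homMod [IsLocallyNoetherian X] (hM : Coh.IsCoh M) (hN : Coh.IsCoh N) :
    Coh.IsCoh (homMod M N) := by
  have : M.IsQuasicoherent := hM.1
  have : M.IsFiniteType := hM.2
  have : N.IsQuasicoherent := hN.1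
  have : N.IsFiniteType := hN.2
  have hfp : ∀ i : X.affineOpens, Module.FinitePresentation Γ(X, i.1) Γ(M, i.1) := fun i => by
    have := finite_sections_of_isFiniteType M i.2
    have := IsLocallyNoetherian.component_noetherian i
    exact Module.finitePresentation_of_finite _ _
  haveI : (homMod M N).IsQuasicoherent := isQuasicoherent_of_forall_isLocAt _ fun U hU =>
    have := hfp ⟨U, hU⟩
    isLocAt_homMod (isLocAt_of_isQuasicoherent N hU) hU
  refine ⟨inferInstance, isFiniteType_of_finite_sections _ (fun i : X.affineOpens => i.1)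
    (iSup_affineOpens_eq_top X) (fun i => i.2) fun i => ?_⟩
  have := finite_sections_of_isFiniteType M i.2
  have := finite_sections_of_isFiniteType N i.2
  have := hfp i
  have := IsLocallyNoetherian.component_noetherian i
  haveI : Module.Finite Γ(X, i.1) (Γ(M, i.1) →ₗ[Γ(X, i.1)] Γ(N, i.1)) := inferInstance
  exact Module.Finite.equiv (homSecEquiv i.2).symm

end Groth.Agent.QC70
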