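import Groth.Agent.QC70.Closure
import Mathlib.Algebra.Category.ModuleCat.Sheaf.LocallyFree
import Mathlib.Algebra.Category.Grp.Preadditive

set_option autoImplicit false
set_option backward.isDefEq.respectTransparency.types false

/-! The structure sheaf as a quasi-coherent module; local generation by finitely many sections. -/

noncomputable section

universe u

open CategoryTheory Limits AlgebraicGeometry TopologicalSpace Opposite

namespace Groth.Agent.QC70

variable {X : Scheme.{u}}

/-- The structure sheaf as a module. -/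
abbrev unitMod (X : Scheme.{u}) : X.Modules := SheafOfModules.unit.{u} X.ringCatSheaf

/-- A function as a section of the structure module. -/
abbrev toUnit {U : X.Opens} (a : Γ(X, U)) : Γ(unitMod X, U) := a

/-- The free module. -/
abbrev freeMod (X : Scheme.{u}) (I : Type u) : X.Modules :=
  ∐ fun _ : I => unitMod X

/-- The inclusion of a summand of the free module. -/
abbrev ιMod {I : Type u} (i : I) : unitMod X ⟶ freeMod X I :=
  Sigma.ι (fun _ : I => unitMod X) i

lemma res_unit {U V : X.Opens} (h : V ≤ U) (a : Γ(X, U)) :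
    res (unitMod X) h (toUnit a) = toUnit (resO X h a) := rfl

lemma smul_unit {U : X.Opens} (a b : Γ(X, U)) : a • toUnit b = toUnit (a * b) := rfl

lemma isLocAt_unit {U : X.Opens} (hU : IsAffineOpen U) : IsLocAt (unitMod X) U where
  exists_of f s := by
    letI := (X.presheaf.map (homOfLE (X.basicOpen_le f)).op).hom.toAlgebra
    haveI := hU.isLocalization_of_eq_basicOpen f (homOfLE (X.basicOpen_le f)) rfl
    obtain ⟨n, a, ha⟩ := IsLocalization.Away.surj f (S := Γ(X, X.basicOpen f)) s
    refine ⟨n, a, ?_⟩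
    refine ha.symm.trans ?_
    exact mul_comm (G := Γ(X, X.basicOpen f)) s _
  eq_zero_of f t ht := by
    letI := (X.presheaf.map (homOfLE (X.basicOpen_le f)).op).hom.toAlgebra
    haveI := hU.isLocalization_of_eq_basicOpen f (homOfLE (X.basicOpen_le f)) rfl
    obtain ⟨n, hn⟩ := IsLocalization.Away.exists_of_eq (S := Γ(X, X.basicOpen f)) f
      (a := (t : Γ(X, U))) (b := 0) (by rw [map_zero]; exact ht)
    exact ⟨n, hn.trans (mul_zero _)⟩

instance isQuasicoherent_unit : (unitMod X).IsQuasicoherent :=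
  isQuasicoherent_of_forall_isLocAt _ fun _ hU => isLocAt_unit hU

/-- `s` generates `M` locally on `V`. -/
def LocGenBy (M : X.Modules) (V : X.Opens) {ι : Type u} [Fintype ι] (s : ι → Γ(M, V)) : Prop :=
  ∀ (W : X.Opens) (_ : W ≤ V) (x : Γ(M, W)) (q : X), q ∈ W →
    ∃ (W' : X.Opens) (hW' : W' ≤ W) (hW'V : W' ≤ V) (a : ι → Γ(X, W')),
      q ∈ W' ∧ res M hW' x = ∑ i, a i • res M hW'V (s i)

lemma res_sum {M : X.Modules} {U V : X.Opens} (h : V ≤ U) {ι : Type*} (t : Finset ι)
    (x : ι → Γ(M, U)) : res M h (∑ i ∈ t, x i) = ∑ i ∈ t, res M h (x i) :=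
  map_sum _ _ _

lemma LocGenBy.mono {M : X.Modules} {U V : X.Opens} {ι : Type u} [Fintype ι] {s : ι → Γ(M, U)}
    (hs : LocGenBy M U s) (h : V ≤ U) : LocGenBy M V (fun i => res M h (s i)) := by
  intro W hW x q hq
  obtain ⟨W', h₁, h₂, a, hq', e⟩ := hs W (hW.trans h) x q hq
  exact ⟨W', h₁, h₁.trans hW, a, hq', e.trans (Finset.sum_congr rfl fun i _ => by rw [res_res])⟩

/-- Morphisms out of the structure module are determined by the image of `1`. -/
lemma app_toUnit {M : X.Modules} (φ : unitMod X ⟶ M) {U : X.Opens} (a : Γ(X, U)) :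
    φ.app U (toUnit a) = a • res M le_top (φ.app ⊤ (toUnit 1)) := by
  rw [← app_res, res_unit, ← Scheme.Modules.Hom.app_smul, smul_unit, resO, map_one, mul_one]

lemma exists_sum_eq_free {M : X.Modules} {I : Type u} [Fintype I]
    (φ : (freeMod X I) ⟶ M) {U : X.Opens}
    (x : Γ((freeMod X I), U)) :
    ∃ a : I → Γ(X, U), φ.app U x =
      ∑ i, a i • res M le_top ((ιMod i ≫ φ).app ⊤ (toUnit 1)) := by
  classical
  let proj : ∀ i, freeMod X I ⟶ unitMod X := fun i =>
    Sigma.desc (fun j => if i = j then 𝟙 (unitMod X) else 0)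
  have htot : (∑ i, proj i ≫ ιMod i) = 𝟙 _ := by
    refine Sigma.hom_ext _ _ fun j => ?_
    rw [Preadditive.comp_sum, Category.comp_id]
    refine (Finset.sum_eq_single j (fun i _ hij => ?_) (by simp)).trans ?_
    · simp [proj, hij]
    · simp [proj]
  refine ⟨fun i => ((proj i).app U x : Γ(unitMod X, U)), ?_⟩
  let ev : (freeMod X I ⟶ M) →+ Γ(M, U) := AddMonoidHom.mk' (fun ψ => ψ.app U x) (fun _ _ => rfl)
  change ev φ = _
  conv_lhs => rw [← Category.id_comp φ, ← htot, Preadditive.sum_comp]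
  rw [map_sum]
  exact Finset.sum_congr rfl fun i _ => app_toUnit (ιMod i ≫ φ) _

/-- A finite-type module is locally generated by finitely many sections. -/
lemma exists_locGenBy (M : X.Modules) [M.IsFiniteType] (p : X) :
    ∃ (V : X.Opens) (ι : Type u) (_ : Fintype ι) (s : ι → Γ(M, V)), p ∈ V ∧ LocGenBy M V s := by
  obtain ⟨σ, hσ⟩ := SheafOfModules.IsFiniteType.exists_localGeneratorsData M
  have hcov : IsOpenCover σ.X := (Opens.coversTop_iff _ _).mp σ.coversTop
  obtain ⟨k, hpk⟩ := hcov.exists_mem p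
  let V : X.Opens := σ.X k
  have : (σ.generators k).IsFiniteType := hσ.isFiniteType k
  let E := Scheme.Modules.overEquiv V
  let G₀ := (σ.generators k).map E.functor (V.sheafOfModulesEquivOverUnit X.ringCatSheaf).symm
  let G : (M.restrict V.ι).GeneratingSections :=
    G₀.ofEpi ((Scheme.Modules.overFunctorEquiv V).app M).hom
  have : Finite G.I := inferInstanceAs (Finite (σ.generators k).I)
  have := Fintype.ofFinite G.I
  let φ : freeMod (V : Scheme.{u}) G.I ⟶ M.restrict V.ι := G.π
  have : Epi φ := G.epi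
  let s' : G.I → Γ(M.restrict V.ι, ⊤) := fun i =>
    (ιMod i ≫ φ).app ⊤ (toUnit 1)
  refine ⟨V, G.I, inferInstance, fun i => res M (le_of_eq (by simp [V])) ((M.restrictAppIso V.ι ⊤).hom (s' i)), hpk, ?_⟩
  intro W hW x q hq
  have hWimg : V.ι ''ᵁ (V.ι ⁻¹ᵁ W) = W := by
    rw [Scheme.Hom.image_preimage_eq_opensRange_inf, Scheme.Opens.opensRange_ι, inf_eq_right]
    exact hW
  obtain ⟨W₁, hW₁, z, hq₁, hz⟩ := exists_local_lift φ
    (U := V.ι ⁻¹ᵁ W) ((M.restrictAppIso V.ι _).inv (res M hWimg.le x)) (p := ⟨q, hW hq⟩) hq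
  obtain ⟨a, ha⟩ := exists_sum_eq_free φ z
  rw [ha] at hz
  refine ⟨V.ι ''ᵁ W₁, (V.ι.image_mono hW₁).trans hWimg.le,
    ((V.ι.image_mono hW₁).trans hWimg.le).trans hW, fun i => (V.ι.appIso W₁).inv (a i),
    ⟨⟨q, hW hq⟩, hq₁, rfl⟩, ?_⟩
  have h2 := congrArg (M.restrictAppIso V.ι W₁).hom hz
  rw [map_sum] at h2
  rw [← res_res hWimg.le (V.ι.image_mono hW₁)]
  refine Eq.trans ?_ (h2.symm.trans (Finset.sum_congr rfl fun i _ => ?_))
  · rfl
  · rw [Scheme.Modules.smul_restrictAppIso_hom_apply, res_res]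
    rfl

/-- Sections of a locally finitely generated quasi-coherent module on an affine open form a
finitely generated module. -/
lemma finite_sections (M : X.Modules) {U : X.Opens} (hU : IsAffineOpen U)
    (hM : IsLocAt M U) (h : ∀ p ∈ U, ∃ (V : X.Opens) (ι : Type u) (_ : Fintype ι)
      (s : ι → Γ(M, V)), p ∈ V ∧ LocGenBy M V s) :
    Module.Finite Γ(X, U) Γ(M, U) := by
  have hloc : ∀ p : U, ∃ (g : Γ(X, U)) (ι : Type u) (_ : Fintype ι) (t : ι → Γ(M, U))
      (s : ι → Γ(M, X.basicOpen g)) (n : ℕ), (p : X) ∈ X.basicOpen g ∧ LocGenBy M (X.basicOpen g) s ∧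
      ∀ i, res M (X.basicOpen_le g) (t i) = resO X (X.basicOpen_le g) g ^ n • s i := by
    intro p
    obtain ⟨V, ι, _, s, hpV, hs⟩ := h p p.2
    obtain ⟨g, hgV, hpg⟩ := hU.exists_basicOpen_le ⟨(p : X), hpV⟩ p.2
    choose n t ht using fun i => hM.exists_of g (res M hgV (s i))
    let N := Finset.univ.sup n
    refine ⟨g, ι, inferInstance, fun i => g ^ (N - n i) • t i, _, N, hpg, hs.mono hgV, fun i => ?_⟩
    rw [res_pow_smul, ht, ← pow_smul_add, Nat.sub_add_cancel (Finset.le_sup (Finset.mem_univ i))]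
  choose g ι fι t s n hpg hs ht using hloc
  obtain ⟨J, hJ⟩ := hU.isCompact.elim_finite_subcover (fun p : U => (X.basicOpen (g p) : Set X))
    (fun p => (X.basicOpen (g p)).2) (fun x hx => Set.mem_iUnion.mpr ⟨⟨x, hx⟩, hpg ⟨x, hx⟩⟩)
  let N : Submodule Γ(X, U) Γ(M, U) := ⨆ j ∈ J, Submodule.span Γ(X, U) (Set.range (t j))
  have hN : N.FG := Submodule.fg_biSup J _ fun j _ =>
    letI := fι j; Submodule.fg_span (Set.finite_range _)
  refine ⟨?_⟩
  suffices N = ⊤ by rwa [← this]
  rw [eq_top_iff]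
  rintro x -
  let I : Ideal Γ(X, U) := N.comap (LinearMap.toSpanSingleton Γ(X, U) Γ(M, U) x)
  have key : ∀ q : U, ∃ f : Γ(X, U), (q : X) ∈ X.basicOpen f ∧ f ∈ I.radical := by
    intro q
    obtain ⟨j, hjJ, hqj⟩ := Set.mem_iUnion₂.mp (hJ q.2)
    letI := fι j
    obtain ⟨W', h₁, h₂, a, hqW', e⟩ :=
      hs j _ le_rfl (res M (X.basicOpen_le (g j)) x) q hqj
    obtain ⟨h, hhW, hqh⟩ := hU.exists_basicOpen_le ⟨(q : X), hqW'⟩ q.2
    let f := g j * h
    have hfh : X.basicOpen f ≤ W' := by
      rw [Scheme.basicOpen_mul]; exact inf_le_right.trans hhW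
    have hfg : X.basicOpen f ≤ X.basicOpen (g j) := by
      rw [Scheme.basicOpen_mul]; exact inf_le_left
    refine ⟨f, ?_, ?_⟩
    · rw [Scheme.basicOpen_mul]; exact ⟨hqj, hqh⟩
    choose k b hb using fun i =>
      (isLocAt_unit hU).exists_of f (toUnit (resO X hfh (a i)))
    let b' : ι j → Γ(X, U) := b
    let K := Finset.univ.sup k
    have hb' : ∀ i, resO X (X.basicOpen_le f) (f ^ (K - k i) * b' i) =
        resO X (X.basicOpen_le f) f ^ K * resO X hfh (a i) := by
      intro i
      have : resO X (X.basicOpen_le f) (b' i) =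
          resO X (X.basicOpen_le f) f ^ k i * resO X hfh (a i) := hb i
      simp only [resO, map_mul, map_pow] at this ⊢
      rw [this, ← mul_assoc, ← pow_add,
        Nat.sub_add_cancel (Finset.le_sup (Finset.mem_univ i))]
    let d := (f ^ K * g j ^ n j) • x - ∑ i, (f ^ (K - k i) * b' i) • t j i
    have hd : res M (X.basicOpen_le f) d = 0 := by
      simp only [d]
      rw [res_sub, sub_eq_zero, res_sum, res_smul]
      have ex : res M (X.basicOpen_le f) x = ∑ i, resO X hfh (a i) • res M hfg (s j i) := by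
        have := congrArg (res M hfh) e
        rw [res_res, res_res, res_sum] at this
        exact this.trans (Finset.sum_congr rfl fun i _ => by rw [res_smul, res_res])
      rw [ex, Finset.smul_sum]
      apply Finset.sum_congr rfl
      intro i _
      rw [res_smul (X.basicOpen_le f) (f ^ (K - k i) * b' i), hb',
        ← res_res (X.basicOpen_le (g j)) hfg (t j i), ht j i, res_smul, smul_smul, smul_smul,
        resO, map_mul, map_pow, map_pow]
      simp only [resO, ← X.presheaf.map_comp_apply, ← op_comp, homOfLE_comp, map_pow]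
      congr 1
      ring
    obtain ⟨m, hm⟩ := hM.eq_zero_of f d hd
    refine ⟨m + K + n j, ?_⟩
    change f ^ (m + K + n j) • x ∈ N
    have hmem : ∀ i, t j i ∈ N := fun i =>
      Submodule.mem_iSup_of_mem j (Submodule.mem_iSup_of_mem hjJ
        (Submodule.subset_span ⟨i, rfl⟩))
    simp only [d, smul_sub, sub_eq_zero, smul_smul, Finset.smul_sum] at hm
    have : f ^ (m + K + n j) • x = h ^ n j • ((f ^ m * (f ^ K * g j ^ n j)) • x) := by
      rw [smul_smul]; congr 1; simp only [f]; ring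
    rw [this, hm]
    exact N.smul_mem _ (Submodule.sum_mem _ fun i _ => N.smul_mem _ (hmem i))
  choose f hqf hf using key
  have hI : I = ⊤ := by
    rw [← Ideal.radical_eq_top]
    have hspan : Ideal.span (Set.range f) = ⊤ :=
      (hU.iSup_basicOpen_eq_self_iff (s := Set.range f)).mp <|
        le_antisymm (iSup_le fun r => X.basicOpen_le _)
          fun y hy => Opens.mem_iSup.mpr ⟨⟨f ⟨y, hy⟩, ⟨y, hy⟩, rfl⟩, hqf ⟨y, hy⟩⟩
    refine top_le_iff.mp (hspan ▸ Ideal.span_le.mpr ?_)
    rintro _ ⟨p, rfl⟩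
    exact hf p
  have : (1 : Γ(X, U)) ∈ I := hI ▸ Submodule.mem_top
  simpa [I] using this

/-- Finitely generated sections of a quasi-coherent module generate locally. -/
lemma locGenBy_of_span_eq_top (M : X.Modules) {U : X.Opens} (hU : IsAffineOpen U)
    (hM : IsLocAt M U) {ι : Type u} [Fintype ι] (s : ι → Γ(M, U))
    (hs : Submodule.span Γ(X, U) (Set.range s) = ⊤) : LocGenBy M U s := by
  intro W hW x q hq
  obtain ⟨h, hhW, hqh⟩ := hU.exists_basicOpen_le ⟨q, hq⟩ (hW hq)
  obtain ⟨n, t, ht⟩ := hM.exists_of h (res M hhW x)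
  obtain ⟨c, hc⟩ := (Submodule.mem_span_range_iff_exists_fun _).mp (hs ▸ Submodule.mem_top : t ∈ _)
  have hu : IsUnit (resO X (X.basicOpen_le h) h) := RingedSpace.isUnit_res_basicOpen _ h
  obtain ⟨v, hv⟩ := (hu.pow n).exists_left_inv
  refine ⟨X.basicOpen h, hhW, X.basicOpen_le h, fun i => v * resO X (X.basicOpen_le h) (c i),
    hqh, ?_⟩
  have hv' : v * resO X (X.basicOpen_le h) h ^ n = 1 := hv
  calc res M hhW x = v • (resO X (X.basicOpen_le h) h ^ n • res M hhW x) := by
        rw [smul_smul, hv', one_smul]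
    _ = _ := by
        rw [← ht, ← hc, res_sum, Finset.smul_sum]
        exact Finset.sum_congr rfl fun i _ => by rw [res_smul, smul_smul]

/-- A module locally generated by finitely many sections is of finite type. -/
lemma isFiniteType_of_locGenBy (M : X.Modules) {κ : Type u} (V : κ → X.Opens)
    (hV : IsOpenCover V) (h : ∀ k, ∃ (ι : Type u) (_ : Fintype ι) (s : ι → Γ(M, V k)),
      LocGenBy M (V k) s) : M.IsFiniteType := by
  have key : ∀ k, ∃ G : (M.over (V k)).GeneratingSections, G.IsFiniteType := by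
    intro k
    obtain ⟨ι, _, s, hs⟩ := h k
    let N := M.restrict (V k).ι
    have htop : (V k).ι ''ᵁ ⊤ = V k := by simp
    let s' : ι → Γ(N, ⊤) := fun i => (M.restrictAppIso (V k).ι ⊤).inv (res M htop.le (s i))
    let sec : ι → N.sections := fun i => PresheafOfModules.sectionsMk
      (fun W => res N (le_top (a := W.unop)) (s' i)) (fun {W W'} f => res_res le_top f.unop.le (s' i))
    let φ : freeMod (V k : Scheme.{u}) ι ⟶ N :=
      (SheafOfModules.freeHomEquiv N).symm sec
    have hφ : ∀ i, (ιMod i ≫ φ).app ⊤ (toUnit 1) = s' i := by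
      intro i
      have h1 : SheafOfModules.ιFree i ≫ φ = (SheafOfModules.unitHomEquiv N).symm (sec i) := by
        rw [← SheafOfModules.unitHomEquiv_symm_freeHomEquiv_apply (f := φ) (i := i),
          Equiv.apply_symm_apply]
      refine (congrArg (fun ψ : unitMod (V k : Scheme.{u}) ⟶ N => ψ.app ⊤ (toUnit 1)) h1).trans ?_
      refine (one_smul Γ((V k : Scheme.{u}), ⊤) _).trans ?_
      exact res_self (s' i)
    have : Epi φ := by
      refine epi_of_locally_surjective φ fun W z q hq => ?_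
      obtain ⟨W', h₁, h₂, a, hq', e⟩ := hs ((V k).ι ''ᵁ W)
        (((V k).ι.image_mono le_top).trans htop.le) ((M.restrictAppIso (V k).ι W).hom z)
        ((V k).ι q) ⟨q, hq, rfl⟩
      have himg : (V k).ι ''ᵁ ((V k).ι ⁻¹ᵁ W') ≤ W' := (V k).ι.image_preimage_le W'
      refine ⟨(V k).ι ⁻¹ᵁ W', fun y hy => ?_, ∑ i, ((V k).ι.appIso _).hom
        (resO X himg (a i)) • res _ (le_top) ((ιMod (X := (V k : Scheme.{u})) i).app ⊤ (toUnit 1)), hq', ?_⟩
      · obtain ⟨y', hy', hyy⟩ := h₁ hy
        exact (V k).ι.isOpenEmbedding.injective hyy ▸ hy'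
      rw [map_sum]
      apply (M.restrictAppIso (V k).ι _).addCommGroupIsoToAddEquiv.injective
      rw [map_sum]
      have e' := congrArg (res M himg) e
      rw [res_res, res_sum] at e'
      refine Eq.trans ?_ e'.symm
      refine Finset.sum_congr rfl fun i _ => ?_
      have hφ' : φ.app ⊤ ((ιMod (X := (V k : Scheme.{u})) i).app ⊤ (toUnit 1)) = s' i := hφ i
      rw [Scheme.Modules.Hom.app_smul, app_res, hφ']
      refine (Scheme.Modules.smul_restrictAppIso_hom_apply (V k).ι M _ _ _).trans ?_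
      rw [res_smul, Iso.hom_inv_id_apply, res_res]
      congr 1
      exact res_res htop.le ((V k).ι.image_mono le_top) (s i)
    let G₀ : N.GeneratingSections := ⟨ι, sec, ‹Epi φ›⟩
    have : G₀.IsFiniteType := ⟨inferInstanceAs (Finite ι)⟩
    let E := Scheme.Modules.overEquiv (V k)
    let G₁ := G₀.ofEpi ((Scheme.Modules.overFunctorEquiv (V k)).app M).inv
    let G₂ := G₁.map E.inverse ((V k).sheafOfModulesEquivOverInverseUnit X.ringCatSheaf).symm
    exact ⟨G₂.ofEpi (E.unitIso.app (M.over (V k))).inv, inferInstance⟩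
  choose G hG using key
  let σ : SheafOfModules.LocalGeneratorsData.{u, u} M :=
    { I := κ, X := V, coversTop := (Opens.coversTop_iff _ _).mpr hV, generators := G }
  have hσ : σ.shrink.IsFiniteType :=
    SheafOfModules.LocalGeneratorsData.IsFiniteType.mk (p := σ.shrink) fun i => hG _
  exact SheafOfModules.IsFiniteType.mk (M := M) ⟨σ.shrink, hσ⟩

/-- A quasi-coherent module with finitely generated sections on an affine cover is of finite type. -/
lemma isFiniteType_of_finite_sections (M : X.Modules) [M.IsQuasicoherent] {κ : Type u}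
    (V : κ → X.Opens) (hV : IsOpenCover V) (hVa : ∀ k, IsAffineOpen (V k))
    (h : ∀ k, Module.Finite Γ(X, V k) Γ(M, V k)) : M.IsFiniteType := by
  refine isFiniteType_of_locGenBy M V hV fun k => ?_
  have := h k
  obtain ⟨n, s, hs⟩ := Module.Finite.exists_fin (R := Γ(X, V k)) (M := Γ(M, V k))
  refine ⟨ULift.{u} (Fin n), inferInstance, s ∘ ULift.down,
    locGenBy_of_span_eq_top M (hVa k) (isLocAt_of_isQuasicoherent M (hVa k)) _ ?_⟩
  rw [Set.range_comp, ULift.down_surjective.range_eq, Set.image_univ, hs]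

lemma finite_sections_of_isFiniteType (M : X.Modules) [M.IsQuasicoherent] [M.IsFiniteType]
    {U : X.Opens} (hU : IsAffineOpen U) : Module.Finite Γ(X, U) Γ(M, U) :=
  finite_sections M hU (isLocAt_of_isQuasicoherent M hU) fun p _ => exists_locGenBy M p

/-- Quotients of finite-type modules are of finite type. -/
lemma isFiniteType_of_epi {M N : X.Modules} (φ : M ⟶ N) [Epi φ] [M.IsFiniteType] :
    N.IsFiniteType := by
  choose V ι fι s hpV hs using exists_locGenBy M
  refine isFiniteType_of_locGenBy N V (IsOpenCover.mk (top_le_iff.mp fun x _ =>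
    Opens.mem_iSup.mpr ⟨x, hpV x⟩)) fun p => ⟨ι p, fι p, fun i => φ.app _ (s p i), ?_⟩
  intro W hW x q hq
  obtain ⟨W₁, h₁, z, hq₁, hz⟩ := exists_local_lift φ x hq
  letI := fι p
  obtain ⟨W', h₂, h₃, a, hq', e⟩ := hs p W₁ (h₁.trans hW) z q hq₁
  refine ⟨W', h₂.trans h₁, h₃, a, hq', ?_⟩
  have := congrArg (φ.app W') e
  rw [app_res, hz, res_res, map_sum] at this
  exact this.trans (Finset.sum_congr rfl fun i _ => by rw [Scheme.Modules.Hom.app_smul, app_res])

end Groth.Agent.QC70
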