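import Groth.Agent.QC70.Stalk
import Groth.Agent.QC70.Hom
import Mathlib.Algebra.Module.FinitePresentation
import Mathlib.RingTheory.Localization.AtPrime.Basic

set_option autoImplicit false
set_option backward.isDefEq.respectTransparency.types false

/-! The stalk of a quasi-coherent module is the localization of its sections over an affine open. -/

noncomputable section

universe u

open CategoryTheory Limits AlgebraicGeometry TopologicalSpace Opposite

namespace Groth.Agent.QC70

variable {X : Scheme.{u}} {M N : X.Modules} {U : X.Opens}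

lemma mem_basicOpen_iff_primeCompl (hU : IsAffineOpen U) {x : X} (hx : x ∈ U) (r : Γ(X, U)) :
    x ∈ X.basicOpen r ↔ r ∈ (hU.primeIdealOf ⟨x, hx⟩).asIdeal.primeCompl := by
  rw [Scheme.mem_basicOpen X r x hx]
  letI : Algebra Γ(X, U) (X.presheaf.stalk x) := (X.presheaf.germ U x hx).hom.toAlgebra
  haveI : IsLocalization.AtPrime (X.presheaf.stalk x) (hU.primeIdealOf ⟨x, hx⟩).asIdeal :=
    hU.isLocalization_stalk ⟨x, hx⟩
  exact IsLocalization.AtPrime.isUnit_to_map_iff (X.presheaf.stalk x) _ r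

/-- The module structure of a stalk over the sections of an open neighbourhood. -/
abbrev stalkModule (M : X.Modules) {x : X} (hx : x ∈ U) :
    Module Γ(X, U) (M.presheaf.stalk x) :=
  Module.compHom (M.presheaf.stalk x) (X.presheaf.germ U x hx).hom

/-- The germ map, linear over the sections. -/
def germLinear (M : X.Modules) {x : X} (hx : x ∈ U) :
    @LinearMap Γ(X, U) Γ(X, U) _ _ (RingHom.id _) Γ(M, U) (M.presheaf.stalk x) _ _ _
      (stalkModule M hx) :=
  letI := stalkModule M hx
  { toFun := fun s => germM M U x hx s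
    map_add' := germM_add hx
    map_smul' := fun r s => germM_smul hx r s }

theorem isLocalizedModule_germ (hM : IsLocAt M U) (hU : IsAffineOpen U) {x : X} (hx : x ∈ U) :
    letI := stalkModule M hx
    IsLocalizedModule (hU.primeIdealOf ⟨x, hx⟩).asIdeal.primeCompl (germLinear M hx) := by
  letI := stalkModule M hx
  refine ⟨fun r => ?_, fun e => ?_, fun {a b} h => ?_⟩
  · rw [Module.End.isUnit_iff]
    obtain ⟨v, hv⟩ := isUnit_germ ((mem_basicOpen_iff_primeCompl hU hx r.1).mpr r.2)
    refine Function.bijective_iff_has_inverse.mpr ⟨fun e => (↑v⁻¹ : X.presheaf.stalk x) • e,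
      fun e => ?_, fun e => ?_⟩
    · change (↑v⁻¹ : X.presheaf.stalk x) • (X.presheaf.germ U x hx r.1 • e) = e
      rw [← hv, smul_smul, Units.inv_mul, one_smul]
    · change X.presheaf.germ U x hx r.1 • ((↑v⁻¹ : X.presheaf.stalk x) • e) = e
      rw [← hv, smul_smul, Units.mul_inv, one_smul]
  · obtain ⟨f, t, hxf, ht⟩ := stalk_exists_smul hM hU hx e
    exact ⟨⟨t, f, (mem_basicOpen_iff_primeCompl hU hx f).mp hxf⟩, ht⟩
  · obtain ⟨f, hxf, hf⟩ := stalk_exists_smul_eq_zero hM hU hx (a - b) (by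
      refine (map_sub (M.presheaf.germ U x hx).hom a b).trans ?_
      exact sub_eq_zero.mpr h)
    refine ⟨⟨f, (mem_basicOpen_iff_primeCompl hU hx f).mp hxf⟩, ?_⟩
    rwa [smul_sub, sub_eq_zero] at hf

/-- Stalk maps out of a module with finitely presented sections extend to a neighbourhood, up to a
denominator. -/
theorem exists_lift_stalk (hU : IsAffineOpen U) {x : X} (hx : x ∈ U)
    [Module.FinitePresentation Γ(X, U) Γ(M, U)] (hN : IsLocAt N U)
    (ψ : M.presheaf.stalk x →ₗ[X.presheaf.stalk x] N.presheaf.stalk x) :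
    ∃ (s : Γ(X, U)) (h : Γ(M, U) →ₗ[Γ(X, U)] Γ(N, U)), x ∈ X.basicOpen s ∧
      ∀ m, germM N U x hx (h m) = X.presheaf.germ U x hx s • ψ (germM M U x hx m) := by
  letI := stalkModule M hx
  letI := stalkModule N hx
  haveI := isLocalizedModule_germ hN hU hx
  let g : Γ(M, U) →ₗ[Γ(X, U)] N.presheaf.stalk x :=
    { toFun := fun m => ψ (germM M U x hx m)
      map_add' := fun a b => by rw [germM_add, map_add]
      map_smul' := fun r m => by
        rw [germM_smul, map_smul]
        rfl }
  obtain ⟨h, s, e⟩ := Module.FinitePresentation.exists_lift_of_isLocalizedModule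
    (hU.primeIdealOf ⟨x, hx⟩).asIdeal.primeCompl (germLinear N hx) g
  exact ⟨s.1, h, (mem_basicOpen_iff_primeCompl hU hx s.1).mpr s.2,
    fun m => LinearMap.congr_fun e m⟩

/-- Scaling a local morphism by a function. -/
def HomOn.smulFun (φ : HomOn M N U) (a : Γ(X, U)) : HomOn M N U where
  app W hW := resO X hW a • φ.app W hW
  app_res hW h s := by
    rw [LinearMap.smul_apply, LinearMap.smul_apply, φ.app_res, res_smul, resO_resO]

lemma stalkMapM_toRestrictHom (φ : HomOn M N U) {x : X} (hx : x ∈ U) {W : X.Opens} (hW : W ≤ U)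
    (hxW : x ∈ W) (s : Γ(M, W)) :
    (Scheme.Modules.restrictStalkNatIso U.ι (⟨x, hx⟩ : U)).hom.app N
        (stalkMapM φ.toRestrictHom (⟨x, hx⟩ : U)
          ((Scheme.Modules.restrictStalkNatIso U.ι (⟨x, hx⟩ : U)).inv.app M
            (germM M W x hxW s))) =
      germM N W x hxW (φ.app W hW s) := by
  let W' := U.ι ⁻¹ᵁ W
  have hW' : U.ι ''ᵁ W' = W := HomOn.image_preimage hW
  have h1 : germM (M.restrict U.ι) W' ⟨x, hx⟩ hxW ((M.restrictAppIso U.ι W').inv (res M hW'.le s)) =
      (Scheme.Modules.restrictStalkNatIso U.ι (⟨x, hx⟩ : U)).inv.app M (germM M W x hxW s) := by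
    rw [← germM_res hW'.le (show x ∈ U.ι ''ᵁ W' from ⟨⟨x, hx⟩, hxW, rfl⟩) s]
    exact (congr($(Scheme.Modules.germ_restrictStalkNatIso_inv_app U.ι (U := W') ⟨x, hx⟩ M hxW)
      (res M hW'.le s))).symm
  rw [← h1, stalkMapM_germ]
  refine (congr($(Scheme.Modules.germ_restrictStalkNatIso_hom_app U.ι (U := W') ⟨x, hx⟩ N hxW) _)).trans ?_
  rw [← germM_res hW'.le (show x ∈ U.ι ''ᵁ W' from ⟨⟨x, hx⟩, hxW, rfl⟩) (φ.app W hW s),
    ← φ.app_res]
  rfl

end Groth.Agent.QC70
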