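import Groth.Agent.QC70.PushClosed
import Mathlib.AlgebraicGeometry.Morphisms.Finite

set_option autoImplicit false
set_option backward.isDefEq.respectTransparency.types false

/-! Direct images along affine and finite morphisms. -/

noncomputable section

universe u

open CategoryTheory Limits AlgebraicGeometry TopologicalSpace Opposite

namespace Groth.Agent.QC70

variable {X Y : Scheme.{u}} (f : X ⟶ Y) (H : X.Modules)

theorem isCoh_pushforward_of_isFinite [IsLocallyNoetherian Y] [IsFinite f] (hH : Coh.IsCoh H) :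
    Coh.IsCoh ((Scheme.Modules.pushforward f).obj H) := by
  obtain ⟨_, _⟩ := hH
  haveI := QCqs72.isQuasicoherent_pushforward (M := H) f
  refine ⟨inferInstance, isFiniteType_of_finite_sections _ (fun W : Y.affineOpens => W.1)
    (iSup_affineOpens_eq_top Y) (fun W => W.2) fun W => ?_⟩
  classical
  letI := (f.app W.1).hom.toAlgebra
  haveI : Module.Finite Γ(Y, W.1) Γ(X, f ⁻¹ᵁ W.1) := f.finite_app W.1 W.2
  obtain ⟨S, hS⟩ := (finite_sections_of_isFiniteType H (W.2.preimage f)).fg_top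
  obtain ⟨T, hT⟩ := (inferInstance : Module.Finite Γ(Y, W.1) Γ(X, f ⁻¹ᵁ W.1)).fg_top
  let S' : Finset Γ((Scheme.Modules.pushforward f).obj H, W.1) :=
    (T ×ˢ S).image (fun p => ((p.1 • p.2 : Γ(H, f ⁻¹ᵁ W.1)) :
      Γ((Scheme.Modules.pushforward f).obj H, W.1)))
  refine ⟨⟨S', eq_top_iff.mpr fun t _ => ?_⟩⟩
  let P := Submodule.span Γ(Y, W.1) (S' : Set Γ((Scheme.Modules.pushforward f).obj H, W.1))
  have hspan : (t : Γ(H, f ⁻¹ᵁ W.1)) ∈ Submodule.span Γ(X, f ⁻¹ᵁ W.1) (S : Set Γ(H, f ⁻¹ᵁ W.1)) :=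
    hS ▸ trivial
  have key : ∀ (c : Γ(X, f ⁻¹ᵁ W.1)) (y : Γ(H, f ⁻¹ᵁ W.1)), y ∈ S →
      ((c • y : Γ(H, f ⁻¹ᵁ W.1)) : Γ((Scheme.Modules.pushforward f).obj H, W.1)) ∈ P := by
    intro c y hy
    have hc : c ∈ Submodule.span Γ(Y, W.1) (T : Set Γ(X, f ⁻¹ᵁ W.1)) := hT ▸ trivial
    induction hc using Submodule.span_induction with
    | mem b hb =>
      exact Submodule.subset_span (Finset.mem_coe.mpr (Finset.mem_image.mpr
        ⟨(b, y), Finset.mem_product.mpr ⟨hb, hy⟩, rfl⟩))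
    | zero => rw [zero_smul]; exact zero_mem P
    | add b b' _ _ hb hb' => rw [add_smul]; exact P.add_mem hb hb'
    | smul a b _ hb =>
      rw [show a • b = f.app W.1 a * b from Algebra.smul_def a b, mul_smul]
      exact (QCqs72.pushforward_smul (M := H) f a
        ((b • y : Γ(H, f ⁻¹ᵁ W.1)) : Γ((Scheme.Modules.pushforward f).obj H, W.1))) ▸
          P.smul_mem a hb
  have key' : ∀ (c : Γ(X, f ⁻¹ᵁ W.1)) (y : Γ(H, f ⁻¹ᵁ W.1)),
      y ∈ Submodule.span Γ(X, f ⁻¹ᵁ W.1) (S : Set Γ(H, f ⁻¹ᵁ W.1)) →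
      ((c • y : Γ(H, f ⁻¹ᵁ W.1)) : Γ((Scheme.Modules.pushforward f).obj H, W.1)) ∈ P := by
    intro c y hy
    induction hy using Submodule.span_induction generalizing c with
    | mem y hy => exact key c y hy
    | zero => rw [smul_zero]; exact zero_mem P
    | add y z _ _ hy hz => rw [smul_add]; exact P.add_mem (hy c) (hz c)
    | smul d y _ hy => rw [smul_smul]; exact hy (c * d)
  have := key' 1 t hspan
  rwa [one_smul] at this

theorem exists_iso_pushforward_idealMul_affine [IsLocallyNoetherian Y] [IsLocallyNoetherian X]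
    [IsAffineHom f] [H.IsQuasicoherent] (J : Y.IdealSheafData) :
    ∃ e : (Scheme.Modules.pushforward f).obj ((Dual3.idealMul (J.comap f)).obj H) ≅
        (Dual3.idealMul J).obj ((Scheme.Modules.pushforward f).obj H),
      e.hom ≫ Dual3.idealMulι J _ =
        (Scheme.Modules.pushforward f).map (Dual3.idealMulι (J.comap f) H) := by
  haveI := QCqs72.isQuasicoherent_pushforward (M := H) f
  haveI := isQuasicoherent_idealMul (J.comap f) H
  haveI := QCqs72.isQuasicoherent_pushforward (M := (Dual3.idealMul (J.comap f)).obj H) f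
  haveI := (Scheme.Modules.pullbackPushforwardAdjunction f).rightAdjoint_preservesLimits
  let φ := (Scheme.Modules.pushforward f).map (Dual3.idealMulι (J.comap f) H)
  haveI : Mono φ := inferInstance
  have hr : ∀ (W : Y.affineOpens) (x : Γ(H, f ⁻¹ᵁ W.1)),
      x ∈ ((J.comap f).ideal ⟨f ⁻¹ᵁ W.1, W.2.preimage f⟩ • ⊤ :
          Submodule Γ(X, f ⁻¹ᵁ W.1) Γ(H, f ⁻¹ᵁ W.1)) ↔
        (x : Γ((Scheme.Modules.pushforward f).obj H, W.1)) ∈ (J.ideal W • ⊤ :
          Submodule Γ(Y, W.1) Γ((Scheme.Modules.pushforward f).obj H, W.1)) := by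
    intro W x
    rw [ideal_comap_preimage]
    constructor
    · intro hx
      refine Submodule.smul_induction_on
        (p := fun y : Γ(H, f ⁻¹ᵁ W.1) => (y : Γ((Scheme.Modules.pushforward f).obj H, W.1)) ∈
          (J.ideal W • ⊤ : Submodule Γ(Y, W.1) Γ((Scheme.Modules.pushforward f).obj H, W.1)))
        hx (fun a ha y _ => ?_) (fun _ _ hy hz => add_mem hy hz)
      clear hx
      induction ha using Submodule.span_induction generalizing y with
      | mem a ha =>
        obtain ⟨b, hb, rfl⟩ := ha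
        let y' : Γ((Scheme.Modules.pushforward f).obj H, W.1) := y
        have h0 : b • y' ∈ (J.ideal W • ⊤ :
            Submodule Γ(Y, W.1) Γ((Scheme.Modules.pushforward f).obj H, W.1)) :=
          Submodule.smul_mem_smul hb Submodule.mem_top
        exact (congrArg (fun z : Γ((Scheme.Modules.pushforward f).obj H, W.1) =>
          z ∈ (J.ideal W • ⊤ : Submodule Γ(Y, W.1) Γ((Scheme.Modules.pushforward f).obj H, W.1)))
            (QCqs72.pushforward_smul (M := H) f b y')).mp h0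
      | zero => rw [zero_smul]; exact zero_mem _
      | add a b _ _ ha hb => rw [add_smul]; exact add_mem (ha y trivial) (hb y trivial)
      | smul c a _ ha => rw [smul_eq_mul, mul_comm, mul_smul]; exact ha (c • y) trivial
    · refine fun hx => Submodule.smul_induction_on
        (p := fun y : Γ((Scheme.Modules.pushforward f).obj H, W.1) => (y : Γ(H, f ⁻¹ᵁ W.1)) ∈
          ((J.ideal W).map (f.app W.1).hom • ⊤ : Submodule Γ(X, f ⁻¹ᵁ W.1) Γ(H, f ⁻¹ᵁ W.1)))
        hx (fun a ha y _ => ?_) (fun _ _ hy hz => add_mem hy hz)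
      let y' : Γ(H, f ⁻¹ᵁ W.1) := y
      have h0 : f.app W.1 a • y' ∈ ((J.ideal W).map (f.app W.1).hom • ⊤ :
          Submodule Γ(X, f ⁻¹ᵁ W.1) Γ(H, f ⁻¹ᵁ W.1)) :=
        Submodule.smul_mem_smul (Ideal.mem_map_of_mem (f.app W.1).hom ha) Submodule.mem_top
      exact (congrArg (fun z : Γ(H, f ⁻¹ᵁ W.1) => z ∈ ((J.ideal W).map (f.app W.1).hom • ⊤ :
          Submodule Γ(X, f ⁻¹ᵁ W.1) Γ(H, f ⁻¹ᵁ W.1)))
          (QCqs72.pushforward_smul (M := H) f a y)).mpr h0
  obtain ⟨a, ha⟩ := exists_lift_of_mono φ (Dual3.idealMulι J _) (fun W : Y.affineOpens => W.1)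
    (iSup_affineOpens_eq_top Y) (fun W => W.2) (fun W => isLocAt_of_isQuasicoherent _ W.2)
    fun W x => (mem_idealMul_iff J _ W _).mpr ((hr W _).mp
      ((mem_idealMul_iff (J.comap f) H ⟨f ⁻¹ᵁ W.1, W.2.preimage f⟩ _).mp ⟨x, rfl⟩))
  obtain ⟨c, hc⟩ := exists_lift_of_mono (Dual3.idealMulι J _) φ (fun W : Y.affineOpens => W.1)
    (iSup_affineOpens_eq_top Y) (fun W => W.2) (fun W => isLocAt_idealMul J _ W.2) fun W x => by
      obtain ⟨d, hd⟩ := (mem_idealMul_iff (J.comap f) H ⟨f ⁻¹ᵁ W.1, W.2.preimage f⟩ _).mpr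
        ((hr W _).mpr ((mem_idealMul_iff J _ W _).mp ⟨x, rfl⟩))
      exact ⟨d, hd⟩
  refine ⟨⟨a, c, ?_, ?_⟩, ha⟩
  · rw [← cancel_mono φ, Category.assoc, hc, ha, Category.id_comp]
  · rw [← cancel_mono (Dual3.idealMulι J _), Category.assoc, ha, hc, Category.id_comp]

end Groth.Agent.QC70
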