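import Groth.Agent.QC70.Ideal
import Mathlib.RingTheory.Ideal.Operations
import Mathlib.AlgebraicGeometry.Noetherian

set_option autoImplicit false
set_option backward.isDefEq.respectTransparency.types false

/-! Sections vanishing away from the support of an ideal sheaf. -/

noncomputable section

universe u

open CategoryTheory Limits AlgebraicGeometry TopologicalSpace Opposite

namespace Groth.Agent.QC70

variable {X : Scheme.{u}}

lemma hom_eq_zero_of_cover {A B : X.Modules} (φ : A ⟶ B) {κ : Type*} (U : κ → X.Opens)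
    (hcov : ⨆ k, U k = ⊤) (hU : ∀ k, IsAffineOpen (U k)) (hA : ∀ k, IsLocAt A (U k))
    (h : ∀ k (x : Γ(A, U k)), φ.app (U k) x = 0) : φ = 0 := by
  refine Scheme.Modules.hom_ext _ _ fun W => ?_
  ext s
  refine section_ext B _ 0 fun p hp => ?_
  obtain ⟨k, hk⟩ := Opens.mem_iSup.mp (hcov.ge (Set.mem_univ p : p ∈ (⊤ : X.Opens)))
  refine ⟨W ⊓ U k, inf_le_left, ⟨hp, hk⟩, ?_⟩
  rw [res_zero, ← app_res]
  have e := HomOn.ext_of_affine (hU k) (hA k) (HomOn.ofHom φ (U k)) (HomOn.ofHom 0 (U k))
    (LinearMap.ext fun x => (h k x).trans (by rfl)) (W := W ⊓ U k) inf_le_right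
    (res A inf_le_left s)
  exact e.trans (by rfl)

lemma basicOpen_le_of_mem_ideal (I : X.IdealSheafData) {U : X.Opens}
    (hU : (U : Set X) = (I.support : Set X)ᶜ) (W : X.affineOpens) {a : Γ(X, W.1)}
    (ha : a ∈ I.ideal W) : X.basicOpen a ≤ U := by
  intro p hp
  rw [← SetLike.mem_coe, hU]
  intro hps
  have h2 : p ∈ (I.support : Set X) ∩ W.1 := ⟨hps, X.basicOpen_le a hp⟩
  rw [Scheme.IdealSheafData.coe_support_inter] at h2
  have h3 := h2.1
  simp only [Scheme.mem_zeroLocus_iff] at h3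
  exact h3 a ha hp

/-- A finite family of sections vanishing on the complement of the support of `I` is killed by a
power of `I`. -/
lemma exists_pow_smul_eq_zero [IsLocallyNoetherian X] (I : X.IdealSheafData) {U : X.Opens}
    (hU : (U : Set X) = (I.support : Set X)ᶜ) (F : X.Modules) [F.IsQuasicoherent]
    (W : X.affineOpens) (N : Submodule Γ(X, W.1) Γ(F, W.1)) (hN : N.FG)
    (h : ∀ z ∈ N, res F (inf_le_left : W.1 ⊓ U ≤ W.1) z = 0) :
    ∃ m : ℕ, ∀ a ∈ I.ideal W ^ m, ∀ z ∈ N, a • z = 0 := by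
  have := IsLocallyNoetherian.component_noetherian W
  have key : I.ideal W ≤ N.annihilator.radical := by
    intro a ha
    obtain ⟨t, rfl⟩ := hN
    have hz : ∀ z ∈ t, ∃ j : ℕ, a ^ j • z = 0 := fun z hz =>
      (isLocAt_of_isQuasicoherent F W.2).eq_zero_of a z (by
        have hle : X.basicOpen a ≤ W.1 ⊓ U :=
          le_inf (X.basicOpen_le a) (basicOpen_le_of_mem_ideal I hU W ha)
        rw [← res_res inf_le_left hle, h z (Submodule.subset_span hz), res_zero])
    choose j hj using hz
    refine ⟨t.attach.sup fun z => j z.1 z.2, ?_⟩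
    rw [Submodule.mem_annihilator_span]
    rintro ⟨z, hz⟩
    have hle : j z hz ≤ t.attach.sup fun z => j z.1 z.2 :=
      Finset.le_sup (f := fun z : t => j z.1 z.2) (Finset.mem_attach t ⟨z, hz⟩)
    rw [← Nat.sub_add_cancel hle, pow_smul_add, hj, smul_zero]
  obtain ⟨m, hm⟩ := Ideal.exists_pow_le_of_le_radical_of_fg key (IsNoetherian.noetherian _)
  exact ⟨m, fun a ha z hz => Submodule.mem_annihilator.mp (hm ha) z hz⟩

end Groth.Agent.QC70
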