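import Groth.Agent.QC70.GenIso
import Groth.Prelude.Def_ClSub2

set_option autoImplicit false
set_option backward.isDefEq.respectTransparency.types false

/-! Devissage for coherent modules on a Noetherian scheme. -/

noncomputable section

universe u

open CategoryTheory Limits AlgebraicGeometry TopologicalSpace Opposite

namespace Groth.Agent.QC70

variable {X : Scheme.{u}}

/-- The hypothesis at a point `y`: a module `G` with stalk a nonzero vector space over the residue
field, such that every `J·G` contains a submodule satisfying `P` and with the same stalk at `y`. -/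
def GenAt (P : X.Modules → Prop) (y : X) : Prop :=
  ∃ G : X.Modules, Coh.IsCoh G ∧ Nontrivial (G.presheaf.stalk y) ∧
    (∀ a ∈ IsLocalRing.maximalIdeal (X.presheaf.stalk y), ∀ m : G.presheaf.stalk y, a • m = 0) ∧
    ∀ J : X.IdealSheafData, y ∉ (J.support : Set X) →
      ∃ (G' : X.Modules) (ι' : G' ⟶ (Dual3.idealMul J).obj G), Mono ι' ∧ Coh.IsCoh G' ∧
        Function.Bijective (stalkMapM (ι' ≫ Dual3.idealMulι J G) y) ∧ P G'

section SES

variable (J : X.IdealSheafData) (F : X.Modules)

/-- `0 → J·F → F → F/J·F → 0`. -/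
def quotSC : ShortComplex X.Modules :=
  ShortComplex.mk (Dual3.idealMulι J F) (cokernel.π (Dual3.idealMulι J F)) (cokernel.condition _)

lemma quotSC_shortExact : (quotSC J F).ShortExact :=
  { exact := ShortComplex.exact_of_g_is_cokernel _ (cokernelIsCokernel _)
    mono_f := (inferInstance : Mono (Dual3.idealMulι J F))
    epi_g := (inferInstance : Epi (cokernel.π (Dual3.idealMulι J F))) }

lemma support_quot_subset_left : CohB1.support (quotSC J F).X₃ ⊆ CohB1.support F :=
  fun x hx =>
    have h : x ∈ CohB1.support (cokernel (Dual3.idealMulι J F)) := hx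
    mem_support_of_epi (cokernel.π (Dual3.idealMulι J F)) h

lemma support_quot_subset_right [F.IsQuasicoherent] :
    CohB1.support (quotSC J F).X₃ ⊆ (J.support : Set X) := by
  intro x hx
  by_contra h
  exact hx (subsingleton_stalk_cokernel _ x (bijective_stalk_idealMulι J F h).2)

lemma smul_quot_eq_zero [F.IsQuasicoherent] (W : X.affineOpens) {a : Γ(X, W.1)}
    (ha : a ∈ J.ideal W) (t : Γ((quotSC J F).X₃, W.1)) : a • t = 0 := by
  haveI : (quotSC J F).X₁.IsQuasicoherent := isQuasicoherent_idealMul J F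
  obtain ⟨s, rfl⟩ := app_surjective_of_isAffineOpen (quotSC J F) (quotSC_shortExact J F) W.2 t
  obtain ⟨c, hc⟩ := (mem_idealMul_iff J F W (a • s)).mpr (Submodule.smul_mem_smul ha trivial)
  rw [← Scheme.Modules.Hom.app_smul]
  refine (congrArg ((quotSC J F).g.app W.1) hc.symm).trans ?_
  exact app_f_g (quotSC J F) _ c

lemma isCoh_quot {F : X.Modules} [IsLocallyNoetherian X] (hF : Coh.IsCoh F) :
    Coh.IsCoh (quotSC J F).X₃ :=
  isCoh_cokernel _ (isCoh_idealMul J hF).1 hF

lemma smul_idealMul_eq_zero {F : X.Modules} [F.IsQuasicoherent] (W : X.affineOpens)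
    {a : Γ(X, W.1)} {I : Ideal Γ(X, W.1)} (ha : a ∈ I)
    (h : ∀ b ∈ I * J.ideal W, ∀ s : Γ(F, W.1), b • s = 0)
    (t : Γ((Dual3.idealMul J).obj F, W.1)) : a • t = 0 := by
  refine app_injective_of_mono (Dual3.idealMulι J F) _ ?_
  rw [Scheme.Modules.Hom.app_smul, map_zero]
  refine Submodule.smul_induction_on ((mem_idealMul_iff J F W _).mp ⟨t, rfl⟩)
    (fun b hb s _ => ?_) (fun s s' hs hs' => ?_)
  · rw [smul_smul]
    exact h _ (Ideal.mul_mem_mul ha hb) s
  · rw [smul_add, hs, hs', add_zero]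

end SES

/-- At the generic point of a closed set, a module killed by its vanishing ideal has stalk killed by
the maximal ideal. -/
lemma stalk_killed {M : X.Modules} [M.IsQuasicoherent] {Y : Closeds X} {y : X}
    (hy : (Y : Set X) = closure {y})
    (h : ∀ (W : X.affineOpens) (a : Γ(X, W.1)),
      a ∈ (Scheme.IdealSheafData.vanishingIdeal Y).ideal W → ∀ t : Γ(M, W.1), a • t = 0) :
    ∀ r ∈ IsLocalRing.maximalIdeal (X.presheaf.stalk y), ∀ e : M.presheaf.stalk y, r • e = 0 := by
  intro r hr e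
  obtain ⟨_, ⟨V, hV, rfl⟩, hyV, -⟩ :=
    X.isBasis_affineOpens.exists_subset_of_mem_open (Set.mem_univ y) isOpen_univ
  letI : Algebra Γ(X, V) (X.presheaf.stalk y) := (X.presheaf.germ V y hyV).hom.toAlgebra
  haveI : IsLocalization.AtPrime (X.presheaf.stalk y) (hV.primeIdealOf ⟨y, hyV⟩).asIdeal :=
    hV.isLocalization_stalk ⟨y, hyV⟩
  obtain ⟨⟨a, s⟩, has⟩ := IsLocalization.surj (hV.primeIdealOf ⟨y, hyV⟩).asIdeal.primeCompl r
  have hap : a ∈ (hV.primeIdealOf ⟨y, hyV⟩).asIdeal := by
    refine (IsLocalization.AtPrime.to_map_mem_maximal_iff (X.presheaf.stalk y)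
      (hV.primeIdealOf ⟨y, hyV⟩).asIdeal a).mp ?_
    rw [← has]
    exact Ideal.mul_mem_right _ _ hr
  have haI : a ∈ (Scheme.IdealSheafData.vanishingIdeal Y).ideal ⟨V, hV⟩ := by
    rw [Scheme.IdealSheafData.vanishingIdeal_ideal]
    refine (PrimeSpectrum.mem_vanishingIdeal _ _).mpr fun q hq => ?_
    have hsp : hV.fromSpec (hV.primeIdealOf ⟨y, hyV⟩) ⤳ hV.fromSpec q := by
      rw [hV.fromSpec_primeIdealOf, specializes_iff_mem_closure, ← hy]
      exact hq
    exact ((PrimeSpectrum.le_iff_specializes _ _).mpr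
      (hV.fromSpec.isOpenEmbedding.isInducing.specializes_iff.mp hsp)) hap
  obtain ⟨f, t, hyf, ht⟩ := stalk_exists_smul (isLocAt_of_isQuasicoherent M hV) hV hyV e
  have hs : IsUnit (X.presheaf.germ V y hyV (s : Γ(X, V))) :=
    IsLocalization.map_units (X.presheaf.stalk y) s
  refine hs.smul_eq_zero.mp ((isUnit_germ hyf).smul_eq_zero.mp ?_)
  have has' : r * X.presheaf.germ V y hyV (s : Γ(X, V)) = X.presheaf.germ V y hyV a := has
  rw [smul_smul (X.presheaf.germ V y hyV (s : Γ(X, V))), mul_comm _ r, has',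
    smul_comm, ht, ← germM_smul, h ⟨V, hV⟩ a haI t, germM_zero]

section Core

variable [IsNoetherian X] (P : X.Modules → Prop)
  (hiso : ∀ M N : X.Modules, Nonempty (M ≅ N) → P M → P N)
  (h0 : ∀ M : X.Modules, IsZero M → P M)
  (hext : ∀ S : ShortComplex X.Modules, S.ShortExact → Coh.IsCoh S.X₁ → Coh.IsCoh S.X₂ →
    Coh.IsCoh S.X₃ → P S.X₁ → P S.X₃ → P S.X₂)
  (hroot : ∀ (F : X.Modules) (r : ℕ), Coh.IsCoh F → 1 ≤ r → P (∐ fun _ : Fin r => F) → P F)

include h0 hext in
lemma prop_biproduct {n : ℕ} (M : Fin n → X.Modules) (hM : ∀ i, Coh.IsCoh (M i))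
    (h : ∀ i, P (M i)) : P (⨁ M) :=
  (biproduct_induction (fun N => Coh.IsCoh N ∧ P N) (fun N hN => ⟨isCoh_of_isZero hN, h0 N hN⟩)
    (fun S hS h1 h3 => ⟨isCoh_X₂ S hS h1.1 h3.1,
      hext S hS h1.1 (isCoh_X₂ S hS h1.1 h3.1) h3.1 h1.2 h3.2⟩) M fun i => ⟨hM i, h i⟩).2

include hiso h0 hext hroot in
lemma devissage_generic (Y : Closeds X) (y : X) (hy : (Y : Set X) = closure {y})
    (IH : ∀ F : X.Modules, Coh.IsCoh F → CohB1.support F ⊆ Y → y ∉ CohB1.support F → P F)
    (hgen : GenAt P y) (F : X.Modules) (hF : Coh.IsCoh F) (hFY : CohB1.support F ⊆ Y)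
    (hyF : y ∈ CohB1.support F)
    (hkill : ∀ r ∈ IsLocalRing.maximalIdeal (X.presheaf.stalk y), ∀ e : F.presheaf.stalk y,
      r • e = 0) : P F := by
  classical
  obtain ⟨G, hG, hGnt, hGk, hGJ⟩ := hgen
  obtain ⟨_, _⟩ := hF
  obtain ⟨_, _⟩ := hG
  haveI := finite_stalk F y
  haveI := finite_stalk G y
  haveI : Nontrivial (F.presheaf.stalk y) := not_subsingleton_iff_nontrivial.mp hyF
  obtain ⟨a, b, ha, hb, ⟨e⟩⟩ := exists_pow_equiv_pow (R := X.presheaf.stalk y) hGk hkill
  have hM : Coh.IsCoh (⨁ fun _ : Fin a => G) := isCoh_biproduct _ fun _ => ⟨‹_›, ‹_›⟩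
  have hN : Coh.IsCoh (⨁ fun _ : Fin b => F) := isCoh_biproduct _ fun _ => ⟨‹_›, ‹_›⟩
  haveI := hM.1
  obtain ⟨J, ψ, hyJ, hψm, hψb⟩ := exists_mono_iso_at hM hN y
    ((biproductStalkEquiv (fun _ : Fin a => G) y).trans
      (e.trans (biproductStalkEquiv (fun _ : Fin b => F) y).symm))
  obtain ⟨G', ι', hι', hG', hι'b, hPG'⟩ := hGJ J hyJ
  let α : (⨁ fun _ : Fin a => G') ⟶ (Dual3.idealMul J).obj (⨁ fun _ : Fin a => G) :=
    biproduct.desc fun j => ι' ≫ (Dual3.idealMul J).map (biproduct.ι (fun _ : Fin a => G) j)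
  have hα : α ≫ Dual3.idealMulι J _ = biproduct.map fun _ : Fin a => ι' ≫ Dual3.idealMulι J G :=
    biproduct.hom_ext' _ _ fun j => by
      rw [biproduct.ι_desc_assoc, Category.assoc, Dual3.idealMul_map_ι, biproduct.ι_map,
        Category.assoc]
  haveI : Mono (biproduct.map fun _ : Fin a => ι' ≫ Dual3.idealMulι J G) := inferInstance
  haveI : Mono α := mono_of_mono_fac hα
  have := hψm
  let φ := α ≫ ψ
  have hφm : Mono φ := inferInstance
  have hφb : Function.Bijective (stalkMapM φ y) := by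
    have h := bijective_stalkMapM_biproductMap (fun _ : Fin a => G') y
      (fun _ : Fin a => ι' ≫ Dual3.idealMulι J G) fun _ => hι'b
    rw [← hα] at h
    have hι := bijective_stalk_idealMulι J (⨁ fun _ : Fin a => G) hyJ
    have e1 : stalkMapM (Dual3.idealMulι J _) y ∘ stalkMapM α y =
        stalkMapM (α ≫ Dual3.idealMulι J _) y := funext fun c => (stalkMapM_comp _ _ y c).symm
    have e2 : stalkMapM ψ y ∘ stalkMapM α y = stalkMapM φ y :=
      funext fun c => (stalkMapM_comp _ _ y c).symm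
    rw [← e1] at h
    rw [← e2]
    exact hψb.comp ((Function.Bijective.of_comp_iff' hι _).mp h)
  let S := ShortComplex.mk φ (cokernel.π φ) (cokernel.condition φ)
  have hS : S.ShortExact := ShortComplex.ShortExact.mk'
    (ShortComplex.exact_of_g_is_cokernel _ (cokernelIsCokernel _)) hφm (by dsimp [S]; infer_instance)
  have h1 : Coh.IsCoh (⨁ fun _ : Fin a => G') := isCoh_biproduct _ fun _ => hG'
  have h3 : Coh.IsCoh (cokernel φ) := isCoh_cokernel φ h1.1 hN
  have hP : P (⨁ fun _ : Fin b => F) := by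
    refine hext S hS h1 hN h3 (prop_biproduct P h0 hext _ (fun _ => hG') fun _ => hPG') ?_
    refine IH _ h3 ?_ (notMem_support_iff.mpr (subsingleton_stalk_cokernel φ y hφb.2))
    refine (mem_support_of_epi (cokernel.π φ)).trans ((support_biproduct_subset _).trans ?_)
    exact Set.iUnion_subset fun _ => hFY
  exact hroot F b ⟨‹_›, ‹_›⟩ hb
    (hiso _ _ ⟨biproduct.isoCoproduct fun _ : Fin b => F⟩ hP)

include hiso h0 hext hroot in
theorem devissage (T : Set X) (hT : IsClosed T)
    (hgen : ∀ y ∈ T, (∀ F : X.Modules, Coh.IsCoh F → CohB1.support F ⊆ closure {y} →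
      y ∉ CohB1.support F → P F) → GenAt P y)
    (F : X.Modules) (hF : Coh.IsCoh F) (hsupp : CohB1.support F ⊆ T) : P F := by
  suffices ∀ (Y : Closeds X), (Y : Set X) ⊆ T → ∀ F : X.Modules, Coh.IsCoh F →
      CohB1.support F ⊆ Y → P F by
    exact this ⟨T, hT⟩ subset_rfl F hF hsupp
  intro Y
  induction Y using WellFoundedLT.induction with
  | ind Y ih =>
  intro hYT F hF hFY
  have small : ∀ F : X.Modules, Coh.IsCoh F → CohB1.support F ⊆ Y →
      CohB1.support F ≠ Y → P F := by
    intro F hF hFY hne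
    haveI := hF.2
    exact ih ⟨_, isClosed_support F⟩
      (lt_of_le_of_ne hFY fun h => hne (congrArg SetLike.coe h)) (hFY.trans hYT) F hF subset_rfl
  by_cases hirr : IsIrreducible (Y : Set X)
  · obtain ⟨y, hy⟩ := QuasiSober.sober hirr Y.isClosed
    have hy' : (Y : Set X) = closure {y} := hy.def.symm
    have hyY : y ∈ (Y : Set X) := hy.mem
    have IH : ∀ F : X.Modules, Coh.IsCoh F → CohB1.support F ⊆ Y → y ∉ CohB1.support F → P F :=
      fun F hF hFY hyF => small F hF hFY fun h => hyF (h.ge hyY)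
    let I := Scheme.IdealSheafData.vanishingIdeal Y
    have hI : (I.support : Set X) = Y := Scheme.IdealSheafData.coe_support_vanishingIdeal Y
    have key : ∀ (n : ℕ) (F : X.Modules), Coh.IsCoh F → CohB1.support F ⊆ Y →
        (∀ (W : X.affineOpens) (a : Γ(X, W.1)), a ∈ I.ideal W ^ n → ∀ t : Γ(F, W.1), a • t = 0) →
        P F := by
      intro n
      induction n with
      | zero =>
        intro F hF hFY h
        refine h0 _ (isZero_of_support_eq_empty (Set.eq_empty_iff_forall_notMem.mpr fun x => ?_))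
        obtain ⟨_, ⟨V, hV, rfl⟩, hxV, -⟩ :=
          X.isBasis_affineOpens.exists_subset_of_mem_open (Set.mem_univ x) isOpen_univ
        haveI := hF.1
        refine notMem_support_iff.mpr (subsingleton_stalk_of_killed (W := ⟨V, hV⟩) hxV (a := 1)
          (by rwa [Scheme.basicOpen_of_isUnit X isUnit_one]) (h ⟨V, hV⟩ 1 ?_))
        rw [pow_zero, Ideal.one_eq_top]
        trivial
      | succ n ihn =>
        intro F hF hFY h
        haveI := hF.1
        have hq : P (quotSC I F).X₃ := by
          have hc := isCoh_quot I hF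
          haveI := hc.1
          have hs := (support_quot_subset_left I F).trans hFY
          by_cases hyQ : y ∈ CohB1.support (quotSC I F).X₃
          · exact devissage_generic P hiso h0 hext hroot Y y hy' IH
              (hgen y (hYT hyY) fun F hF hFy hyF => IH F hF (hy' ▸ hFy) hyF) _ hc hs hyQ
              (stalk_killed hy' fun W a ha t => smul_quot_eq_zero I F W ha t)
          · exact IH _ hc hs hyQ
        refine hext (quotSC I F) (quotSC_shortExact I F) (isCoh_idealMul I hF) hF
          (isCoh_quot I hF) ?_ hq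
        refine ihn _ (isCoh_idealMul I hF) ((mem_support_of_mono (Dual3.idealMulι I F)).trans hFY)
          fun W a ha t => ?_
        refine smul_idealMul_eq_zero I W ha (fun b hb s => h W b ?_ s) t
        rwa [pow_succ]
    haveI := hF.1
    haveI := hF.2
    obtain ⟨n, hn⟩ := QCSupp72.exists_pow_smul_sections_eq_zero F I (hFY.trans hI.ge)
    exact key n F hF hFY hn
  · by_cases hFe : CohB1.support F = ∅
    · exact h0 _ (isZero_of_support_eq_empty hFe)
    by_cases hne : CohB1.support F = (Y : Set X)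
    swap
    · exact small F hF hFY hne
    have hYne : (Y : Set X).Nonempty := by
      rw [← hne]
      exact Set.nonempty_iff_ne_empty.mpr hFe
    have hnp : ¬ IsPreirreducible (Y : Set X) := fun h => hirr ⟨hYne, h⟩
    rw [isPreirreducible_iff_isClosed_union_isClosed] at hnp
    push Not at hnp
    obtain ⟨z₁, z₂, hz₁, hz₂, hsub, hn₁, hn₂⟩ := hnp
    let Y₁ : Closeds X := ⟨(Y : Set X) ∩ z₁, Y.isClosed.inter hz₁⟩
    let Y₂ : Closeds X := ⟨(Y : Set X) ∩ z₂, Y.isClosed.inter hz₂⟩
    let I := Scheme.IdealSheafData.vanishingIdeal Y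
    let I₁ := Scheme.IdealSheafData.vanishingIdeal Y₁
    let I₂ := Scheme.IdealSheafData.vanishingIdeal Y₂
    have hI : (I.support : Set X) = Y := Scheme.IdealSheafData.coe_support_vanishingIdeal Y
    have hI₁ : (I₁.support : Set X) = Y₁ := Scheme.IdealSheafData.coe_support_vanishingIdeal Y₁
    have hI₂ : (I₂.support : Set X) = Y₂ := Scheme.IdealSheafData.coe_support_vanishingIdeal Y₂
    have hle : I₁ * I₂ ≤ I := by
      refine Scheme.IdealSheafData.le_support_iff_le_vanishingIdeal.mp ?_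
      rw [Scheme.IdealSheafData.support_mul]
      intro x hx
      rw [← SetLike.mem_coe, Closeds.coe_sup, hI₁, hI₂]
      rcases hsub hx with h | h
      · exact Or.inl ⟨hx, h⟩
      · exact Or.inr ⟨hx, h⟩
    haveI := hF.1
    haveI := hF.2
    obtain ⟨n, hn⟩ := QCSupp72.exists_pow_smul_sections_eq_zero F I (hFY.trans hI.ge)
    let J := I₁ ^ (n + 1)
    have hq : P (quotSC J F).X₃ := by
      refine small _ (isCoh_quot J hF) ((support_quot_subset_left J F).trans hFY) fun h => ?_
      refine hn₁ ((h.ge.trans ((support_quot_subset_right J F).trans (?_ : _ ⊆ (Y₁ : Set X)))).trans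
        Set.inter_subset_right)
      rw [Scheme.IdealSheafData.support_pow_succ, hI₁]
    refine hext (quotSC J F) (quotSC_shortExact J F) (isCoh_idealMul J hF) hF (isCoh_quot J hF)
      (small _ (isCoh_idealMul J hF) ((mem_support_of_mono (Dual3.idealMulι J F)).trans hFY)
        fun h => hn₂ ?_) hq
    have hkill : ∀ (W : X.affineOpens) (a : Γ(X, W.1)), a ∈ I₂.ideal W ^ (n + 1) →
        ∀ t : Γ((Dual3.idealMul J).obj F, W.1), a • t = 0 := by
      intro W a ha t
      refine smul_idealMul_eq_zero J W ha (fun b hb s => hn W b ?_ s) t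
      rw [show J.ideal W = I₁.ideal W ^ (n + 1) from rfl, ← mul_pow, mul_comm] at hb
      exact Ideal.pow_le_pow_right (Nat.le_succ n) (Ideal.pow_right_mono (hle W) _ hb)
    haveI := isQuasicoherent_idealMul J F
    exact (h.ge.trans ((support_subset_of_killed I₂ hkill).trans hI₂.le)).trans
      Set.inter_subset_right

end Core

end Groth.Agent.QC70
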