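import Groth.Agent.QC70.Loc
import Groth.Agent.QC70.Sections

set_option autoImplicit false
set_option backward.isDefEq.respectTransparency.types false

/-!
Global sections on affines are exact on quasi-coherent modules, and quasi-coherent modules are
closed under kernels, quotients, cokernels and extensions.
-/

noncomputable section

universe u

open CategoryTheory Limits AlgebraicGeometry TopologicalSpace Opposite

namespace Groth.Agent.QC70

variable {X : Scheme.{u}}

lemma exists_glue (M : X.Modules) {ι : Type*} {U : X.Opens} (V : ι → X.Opens) (hV : ∀ i, V i ≤ U)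
    (hU : U ≤ ⨆ i, V i) (x : ∀ i, Γ(M, V i))
    (hx : ∀ i j, res M (inf_le_left : V i ⊓ V j ≤ V i) (x i) =
      res M (inf_le_right : V i ⊓ V j ≤ V j) (x j)) :
    ∃ t : Γ(M, U), ∀ i, res M (hV i) t = x i :=
  (TopCat.Sheaf.existsUnique_gluing' ⟨_, M.isSheaf⟩ V U (fun i => homOfLE (hV i)) hU x hx).exists

lemma pow_smul_add {A B : Type*} [CommMonoid A] [MulAction A B] (a : A) (m n : ℕ) (b : B) :
    a ^ (m + n) • b = a ^ m • a ^ n • b := by
  rw [pow_add, mul_smul]

/-- Sections over an affine open are exact on the right when the kernel is quasi-coherent. -/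
theorem app_surjective_of_isAffineOpen (S : ShortComplex X.Modules) (hS : S.ShortExact)
    [S.X₁.IsQuasicoherent] {U : X.Opens} (hU : IsAffineOpen U) :
    Function.Surjective (S.g.app U) := by
  intro s
  have := hS.mono_f
  have := hS.epi_g
  let I : Ideal Γ(X, U) :=
    { carrier := {r | ∃ t, S.g.app U t = r • s}
      add_mem' := fun {a b} ⟨x, hx⟩ ⟨y, hy⟩ => ⟨x + y, by rw [map_add, hx, hy, add_smul]⟩
      zero_mem' := ⟨0, by rw [map_zero, zero_smul]⟩
      smul_mem' := fun c a ⟨x, hx⟩ => ⟨c • x, by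
        rw [Scheme.Modules.Hom.app_smul, hx, smul_eq_mul, mul_smul]⟩ }
  have hloc : ∀ p : U, ∃ f : Γ(X, U), (p : X) ∈ X.basicOpen f ∧
      ∃ t, S.g.app (X.basicOpen f) t = res S.X₃ (X.basicOpen_le f) s := by
    intro p
    obtain ⟨V, hV, t, hpV, ht⟩ := exists_local_lift S.g s p.2
    obtain ⟨f, hfV, hpf⟩ := hU.exists_basicOpen_le ⟨(p : X), hpV⟩ p.2
    exact ⟨f, hpf, res S.X₂ hfV t, by rw [app_res, ht, res_res]⟩
  choose f hpf t ht using hloc
  obtain ⟨J, hJ⟩ := hU.isCompact.elim_finite_subcover (fun p : U => (X.basicOpen (f p) : Set X))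
    (fun p => (X.basicOpen (f p)).2) (fun x hx => Set.mem_iUnion.mpr ⟨⟨x, hx⟩, hpf ⟨x, hx⟩⟩)
  let V : J → X.Opens := fun j => X.basicOpen (f j.1)
  have hVle : ∀ j, V j ≤ U := fun j => X.basicOpen_le _
  have hcov : U ≤ ⨆ j, V j := fun x hx => by
    obtain ⟨p, hp, hxp⟩ := Set.mem_iUnion₂.mp (hJ hx)
    exact Opens.mem_iSup.mpr ⟨⟨p, hp⟩, hxp⟩
  have key : ∀ p : U, ∃ k : ℕ, f p ^ k ∈ I := by
    intro p
    let fj : ∀ j : J, Γ(X, V j) := fun j => resO X (hVle j) (f p)
    have hW : ∀ j, X.basicOpen (fj j) ≤ X.basicOpen (f p) := fun j => by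
      rw [Scheme.basicOpen_res]; exact inf_le_right
    have hex : ∀ j, ∃ (n : ℕ) (y : Γ(S.X₂, V j)),
        res S.X₂ (X.basicOpen_le (fj j)) y =
          resO X (X.basicOpen_le (fj j)) (fj j) ^ n • res S.X₂ (hW j) (t p) ∧
        S.g.app (V j) y = fj j ^ n • res S.X₃ (hVle j) s := by
      intro j
      have h0 : S.g.app (X.basicOpen (fj j))
          (res S.X₂ (hW j) (t p) - res S.X₂ (X.basicOpen_le (fj j)) (t j.1)) = 0 := by
        rw [map_sub, app_res, app_res, ht p, ht j.1, res_res, res_res, sub_self]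
      obtain ⟨c, hc⟩ := exists_app_eq_of_exact S hS.exact _ _ h0
      obtain ⟨n, x, hx⟩ :=
        (isLocAt_of_isQuasicoherent S.X₁ (hU.basicOpen (f j.1))).exists_of (fj j) c
      refine ⟨n, fj j ^ n • t j.1 + S.f.app (V j) x, ?_, ?_⟩
      · rw [res_add, res_pow_smul, ← app_res S.f, hx, Scheme.Modules.Hom.app_smul, hc, ← smul_add,
          add_sub_cancel]
      · rw [map_add, app_f_g, add_zero, Scheme.Modules.Hom.app_smul, ht j.1]
    choose n y hy hgy using hex
    let N := Finset.univ.sup n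
    let z : ∀ j : J, Γ(S.X₂, V j) := fun j => fj j ^ (N - n j) • y j
    have hnN : ∀ j, N - n j + n j = N := fun j =>
      Nat.sub_add_cancel (Finset.le_sup (f := n) (Finset.mem_univ j))
    have hz : ∀ j, res S.X₂ (X.basicOpen_le (fj j)) (z j) =
        resO X (X.basicOpen_le (fj j)) (fj j) ^ N • res S.X₂ (hW j) (t p) := fun j => by
      simp only [z]
      rw [res_smul, hy, resO, map_pow, ← pow_smul_add, hnN]
    have hgz : ∀ j, S.g.app (V j) (z j) = fj j ^ N • res S.X₃ (hVle j) s := fun j => by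
      simp only [z]
      rw [Scheme.Modules.Hom.app_smul, hgy, ← pow_smul_add, hnN]
    have hov : ∀ j k : J, ∃ m : ℕ,
        resO X ((inf_le_left : V j ⊓ V k ≤ V j).trans (hVle j)) (f p) ^ m •
          (res S.X₂ (inf_le_left : V j ⊓ V k ≤ V j) (z j) -
            res S.X₂ (inf_le_right : V j ⊓ V k ≤ V k) (z k)) = 0 := by
      intro j k
      let O := V j ⊓ V k
      let fO := resO X ((inf_le_left : O ≤ V j).trans (hVle j)) (f p)
      have hO : IsAffineOpen O := by
        have := hU.basicOpen (f j.1 * f k.1)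
        rwa [Scheme.basicOpen_mul] at this
      have h0 : S.g.app O (res S.X₂ (inf_le_left : O ≤ V j) (z j) -
          res S.X₂ (inf_le_right : O ≤ V k) (z k)) = 0 := by
        rw [map_sub, app_res, app_res, hgz, hgz, res_smul, res_smul, res_res, res_res]
        simp only [resO, map_pow, fj, ← X.presheaf.map_comp_apply, ← op_comp, homOfLE_comp,
          sub_self]
      obtain ⟨c, hc⟩ := exists_app_eq_of_exact S hS.exact _ _ h0
      have hres : res S.X₁ (X.basicOpen_le fO) c = 0 := by
        refine app_injective_of_mono S.f _ ?_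
        rw [app_res, hc, map_zero]
        have hj : X.basicOpen fO ≤ X.basicOpen (fj j) := by
          simp only [fO, fj, Scheme.basicOpen_res]; exact inf_le_inf_right _ inf_le_left
        have hk : X.basicOpen fO ≤ X.basicOpen (fj k) := by
          simp only [fO, fj, Scheme.basicOpen_res]; exact inf_le_inf_right _ inf_le_right
        rw [res_sub, sub_eq_zero, res_res, res_res, ← res_res (X.basicOpen_le (fj j)) hj,
          ← res_res (X.basicOpen_le (fj k)) hk, hz, hz, res_smul, res_smul, res_res, res_res]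
        simp only [resO, map_pow, fj, ← X.presheaf.map_comp_apply, ← op_comp, homOfLE_comp]
      obtain ⟨m, hm⟩ := (isLocAt_of_isQuasicoherent S.X₁ hO).eq_zero_of fO c hres
      refine ⟨m, ?_⟩
      rw [← hc, ← Scheme.Modules.Hom.app_smul, hm, map_zero]
    choose m hm using hov
    let K := Finset.univ.sup fun q : J × J => m q.1 q.2
    obtain ⟨T, hT⟩ := exists_glue S.X₂ V hVle hcov (fun j => fj j ^ K • z j) (fun j k => by
      have hle : m j k ≤ K := Finset.le_sup (f := fun q : J × J => m q.1 q.2) (Finset.mem_univ (j, k))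
      have := congrArg
        (resO X ((inf_le_left : V j ⊓ V k ≤ V j).trans (hVle j)) (f p) ^ (K - m j k) • ·) (hm j k)
      simp only [smul_zero, ← pow_smul_add, Nat.sub_add_cancel hle, smul_sub, sub_eq_zero] at this
      rw [res_pow_smul (inf_le_left : V j ⊓ V k ≤ V j) (fj j) K (z j),
        res_pow_smul (inf_le_right : V j ⊓ V k ≤ V k) (fj k) K (z k)]
      simpa only [resO, map_pow, fj, ← X.presheaf.map_comp_apply, ← op_comp, homOfLE_comp] using this)
    refine ⟨K + N, T, section_ext' S.X₃ V hVle hcov _ _ fun j => ?_⟩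
    rw [← app_res, hT, Scheme.Modules.Hom.app_smul, hgz, ← pow_smul_add, res_smul, resO, map_pow]
  have hI : I = ⊤ := by
    rw [← Ideal.radical_eq_top]
    have hspan : Ideal.span (Set.range f) = ⊤ :=
      (hU.iSup_basicOpen_eq_self_iff (s := Set.range f)).mp <| le_antisymm (iSup_le fun r => X.basicOpen_le _)
      fun x hx => Opens.mem_iSup.mpr
        ⟨⟨f ⟨x, hx⟩, ⟨x, hx⟩, rfl⟩, hpf ⟨x, hx⟩⟩
    refine top_le_iff.mp (hspan ▸ Ideal.span_le.mpr ?_)
    rintro _ ⟨p, rfl⟩
    exact key p
  obtain ⟨T, hT⟩ := (hI ▸ Submodule.mem_top : (1 : Γ(X, U)) ∈ I)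
  exact ⟨T, by rw [hT, one_smul]⟩

/-- Left exactness of the localizing condition. -/
lemma IsLocAt.of_left_exact (S : ShortComplex X.Modules) (hS : S.Exact) [Mono S.f] {U : X.Opens}
    (h₂ : IsLocAt S.X₂ U) (h₃ : IsLocAt S.X₃ U) : IsLocAt S.X₁ U where
  exists_of f s := by
    obtain ⟨n, t, ht⟩ := h₂.exists_of f (S.f.app _ s)
    obtain ⟨m, hm⟩ := h₃.eq_zero_of f (S.g.app U t) (by
      rw [← app_res, ht, Scheme.Modules.Hom.app_smul, app_f_g, smul_zero])
    obtain ⟨x, hx⟩ := exists_app_eq_of_exact S hS U (f ^ m • t) (by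
      rw [Scheme.Modules.Hom.app_smul, hm])
    refine ⟨m + n, x, app_injective_of_mono S.f _ ?_⟩
    rw [app_res, hx, res_smul, ht, Scheme.Modules.Hom.app_smul, resO, map_pow, pow_smul_add]
  eq_zero_of f t ht := by
    obtain ⟨n, hn⟩ := h₂.eq_zero_of f (S.f.app U t) (by rw [← app_res, ht, map_zero])
    refine ⟨n, app_injective_of_mono S.f _ ?_⟩
    rw [Scheme.Modules.Hom.app_smul, hn, map_zero]

/-- Extensions with surjective sections. -/
lemma IsLocAt.of_extension (S : ShortComplex X.Modules) (hS : S.Exact) [Mono S.f] {U : X.Opens}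
    (hsurj : Function.Surjective (S.g.app U)) (h₁ : IsLocAt S.X₁ U) (h₃ : IsLocAt S.X₃ U) :
    IsLocAt S.X₂ U where
  exists_of f s := by
    obtain ⟨n, t₃, ht₃⟩ := h₃.exists_of f (S.g.app _ s)
    obtain ⟨t, rfl⟩ := hsurj t₃
    obtain ⟨c, hc⟩ := exists_app_eq_of_exact S hS _
      (resO X (X.basicOpen_le f) f ^ n • s - res S.X₂ (X.basicOpen_le f) t) (by
        rw [map_sub, Scheme.Modules.Hom.app_smul, app_res, ht₃, sub_self])
    obtain ⟨m, x, hx⟩ := h₁.exists_of f c
    refine ⟨m + n, f ^ m • t + S.f.app U x, ?_⟩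
    rw [res_add, res_pow_smul, ← app_res S.f, hx, Scheme.Modules.Hom.app_smul, hc, ← smul_add,
      add_sub_cancel, pow_smul_add]
  eq_zero_of f t ht := by
    obtain ⟨n, hn⟩ := h₃.eq_zero_of f (S.g.app U t) (by rw [← app_res, ht, map_zero])
    obtain ⟨x, hx⟩ := exists_app_eq_of_exact S hS U (f ^ n • t) (by
      rw [Scheme.Modules.Hom.app_smul, hn])
    obtain ⟨m, hm⟩ := h₁.eq_zero_of f x (app_injective_of_mono S.f _ (by
      rw [app_res, hx, res_smul, ht, smul_zero, map_zero]))
    exact ⟨m + n, by rw [pow_smul_add, ← hx, ← Scheme.Modules.Hom.app_smul, hm, map_zero]⟩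

/-- Quotients with surjective sections. -/
lemma IsLocAt.of_quotient (S : ShortComplex X.Modules) (hS : S.Exact) [Mono S.f] {U : X.Opens}
    (hsurj : Function.Surjective (S.g.app U))
    (hsurj' : ∀ f : Γ(X, U), Function.Surjective (S.g.app (X.basicOpen f)))
    (h₁ : IsLocAt S.X₁ U) (h₂ : IsLocAt S.X₂ U) : IsLocAt S.X₃ U where
  exists_of f s := by
    obtain ⟨s', rfl⟩ := hsurj' f s
    obtain ⟨n, t, ht⟩ := h₂.exists_of f s'
    exact ⟨n, S.g.app U t, by rw [← app_res, ht, Scheme.Modules.Hom.app_smul]⟩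
  eq_zero_of f t ht := by
    obtain ⟨x, rfl⟩ := hsurj t
    obtain ⟨c, hc⟩ := exists_app_eq_of_exact S hS _ (res S.X₂ (X.basicOpen_le f) x) (by
      rw [app_res, ht])
    obtain ⟨n, y, hy⟩ := h₁.exists_of f c
    obtain ⟨m, hm⟩ := h₂.eq_zero_of f (f ^ n • x - S.f.app U y) (by
      rw [res_sub, res_pow_smul, ← app_res S.f, hy, Scheme.Modules.Hom.app_smul, hc, sub_self])
    refine ⟨m + n, ?_⟩
    have := congrArg (S.g.app U) hm
    rwa [Scheme.Modules.Hom.app_smul, map_sub, Scheme.Modules.Hom.app_smul, app_f_g, sub_zero,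
      map_zero, ← pow_smul_add] at this

variable (S : ShortComplex X.Modules) (hS : S.ShortExact)
include hS

lemma isQuasicoherent_X₁ [S.X₂.IsQuasicoherent] [S.X₃.IsQuasicoherent] : S.X₁.IsQuasicoherent :=
  have := hS.mono_f
  isQuasicoherent_of_forall_isLocAt _ fun _ hU => IsLocAt.of_left_exact S hS.exact
    (isLocAt_of_isQuasicoherent _ hU) (isLocAt_of_isQuasicoherent _ hU)

lemma isQuasicoherent_X₂ [S.X₁.IsQuasicoherent] [S.X₃.IsQuasicoherent] : S.X₂.IsQuasicoherent :=
  have := hS.mono_f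
  isQuasicoherent_of_forall_isLocAt _ fun _ hU => IsLocAt.of_extension S hS.exact
    (app_surjective_of_isAffineOpen S hS hU)
    (isLocAt_of_isQuasicoherent _ hU) (isLocAt_of_isQuasicoherent _ hU)

lemma isQuasicoherent_X₃ [S.X₁.IsQuasicoherent] [S.X₂.IsQuasicoherent] : S.X₃.IsQuasicoherent :=
  have := hS.mono_f
  isQuasicoherent_of_forall_isLocAt _ fun _ hU => IsLocAt.of_quotient S hS.exact
    (app_surjective_of_isAffineOpen S hS hU)
    (fun f => app_surjective_of_isAffineOpen S hS (hU.basicOpen f))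
    (isLocAt_of_isQuasicoherent _ hU) (isLocAt_of_isQuasicoherent _ hU)

omit hS

lemma isQuasicoherent_kernel {M N : X.Modules} (φ : M ⟶ N) [M.IsQuasicoherent]
    [N.IsQuasicoherent] : (kernel φ).IsQuasicoherent :=
  isQuasicoherent_of_forall_isLocAt _ fun _ hU =>
    IsLocAt.of_left_exact (ShortComplex.mk (kernel.ι φ) φ (kernel.condition φ))
      (ShortComplex.exact_of_f_is_kernel _ (kernelIsKernel φ))
      (isLocAt_of_isQuasicoherent _ hU) (isLocAt_of_isQuasicoherent _ hU)

lemma isQuasicoherent_abelianImage {M N : X.Modules} (φ : M ⟶ N) [M.IsQuasicoherent]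
    [N.IsQuasicoherent] : (Abelian.image φ).IsQuasicoherent := by
  have := isQuasicoherent_kernel φ
  let S := ShortComplex.mk (kernel.ι φ) (Abelian.factorThruImage φ) (by
    rw [← cancel_mono (Abelian.image.ι φ), Category.assoc, Abelian.image.fac, kernel.condition,
      zero_comp])
  have hS : S.ShortExact :=
    { exact := ShortComplex.exact_of_f_is_kernel _ (KernelFork.IsLimit.ofι' _ _
        (fun {A} k hk => ⟨kernel.lift φ k (by
          rw [← Abelian.image.fac φ, reassoc_of% hk, zero_comp]), kernel.lift_ι _ _ _⟩))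
      mono_f := (inferInstance : Mono (kernel.ι φ))
      epi_g := (inferInstance : Epi (Abelian.factorThruImage φ)) }
  exact isQuasicoherent_X₃ S hS

lemma isQuasicoherent_cokernel {M N : X.Modules} (φ : M ⟶ N) [M.IsQuasicoherent]
    [N.IsQuasicoherent] : (cokernel φ).IsQuasicoherent := by
  have := isQuasicoherent_abelianImage φ
  let S := ShortComplex.mk (Abelian.image.ι φ) (cokernel.π φ) (kernel.condition _)
  have hS : S.ShortExact :=
    { exact := ShortComplex.exact_of_f_is_kernel _ (kernelIsKernel _)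
      mono_f := (inferInstance : Mono (Abelian.image.ι φ))
      epi_g := (inferInstance : Epi (cokernel.π φ)) }
  exact isQuasicoherent_X₃ S hS

end Groth.Agent.QC70
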