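import Mathlib.AlgebraicGeometry.IdealSheaf.Functorial
import Mathlib.AlgebraicGeometry.Morphisms.Affine

set_option autoImplicit false
set_option backward.isDefEq.respectTransparency.types false

/-! The inverse image of an ideal sheaf along an affine morphism, on affine opens. -/

noncomputable section

universe u

open CategoryTheory AlgebraicGeometry TopologicalSpace Opposite

namespace Groth.Agent.QC70

variable {X Y : Scheme.{u}}

lemma fromSpec_appIso_top_hom {V : Y.Opens} (hV : IsAffineOpen V) (h : hV.fromSpec ''ᵁ ⊤ ≤ V)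
    (b : Γ(Y, V)) :
    (hV.fromSpec.appIso ⊤).hom (Y.presheaf.map (homOfLE h).op b) =
      (Scheme.ΓSpecIso Γ(Y, V)).inv b := by
  rw [Scheme.Hom.appIso_hom', ← ConcreteCategory.comp_apply, Scheme.Hom.map_appLE]
  refine ConcreteCategory.congr_hom ?_ b
  rw [Scheme.Hom.appLE, hV.fromSpec_app_self, Category.assoc, ← Functor.map_comp]
  exact (congrArg ((Scheme.ΓSpecIso Γ(Y, V)).inv ≫ ·) ((Spec Γ(Y, V)).presheaf.map_id _)).trans
    (Category.comp_id _)

lemma fromSpec_appIso_top_mem (I : Y.IdealSheafData) (V : Y.affineOpens) (b : Γ(Y, V.1)) :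
    (Scheme.ΓSpecIso Γ(Y, V.1)).inv b ∈
        (I.comap V.2.fromSpec).ideal ⟨⊤, isAffineOpen_top _⟩ ↔ b ∈ I.ideal V := by
  have himg : V.2.fromSpec ''ᵁ ⊤ = V.1 := by
    rw [Scheme.Hom.image_top_eq_opensRange, V.2.opensRange_fromSpec]
  rw [Scheme.IdealSheafData.ideal_comap_of_isOpenImmersion, Ideal.mem_comap,
    ← fromSpec_appIso_top_hom V.2 himg.le b, Iso.hom_inv_id_apply]
  let W : Y.affineOpens := ⟨V.2.fromSpec ''ᵁ ⊤, (isAffineOpen_top _).image_of_isOpenImmersion _⟩
  refine ⟨fun h => ?_, fun h => I.ideal_le_comap_ideal (U := W) (V := V) himg.le h⟩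
  have h2 := I.ideal_le_comap_ideal (U := V) (V := W) himg.ge h
  have e : (Y.presheaf.map (homOfLE himg.le).op ≫ Y.presheaf.map (homOfLE himg.ge).op) b = b := by
    rw [← Functor.map_comp]
    exact congr($(Y.presheaf.map_id (op V.1)) b)
  rw [← e]
  exact h2

theorem ideal_comap_preimage (f : Y ⟶ X) [IsAffineHom f] (I : X.IdealSheafData)
    (U : X.affineOpens) :
    (I.comap f).ideal ⟨f ⁻¹ᵁ U.1, U.2.preimage f⟩ = (I.ideal U).map (f.app U.1).hom := by
  let V : Y.affineOpens := ⟨f ⁻¹ᵁ U.1, U.2.preimage f⟩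
  refine le_antisymm (fun b hb => ?_) ?_
  · let A := Γ(X, U.1)
    let B := Γ(Y, V.1)
    let g : Spec B ⟶ Spec A := Spec.map (f.app U.1)
    have hg : g ≫ U.2.fromSpec = V.2.fromSpec ≫ f := by
      rw [← U.2.SpecMap_appLE_fromSpec f V.2 le_rfl, Scheme.Hom.appLE_eq_app]
    let I' := I.comap U.2.fromSpec
    have hb' : (Scheme.ΓSpecIso B).inv b ∈ (I'.comap g).ideal ⟨⊤, isAffineOpen_top _⟩ := by
      rw [← Scheme.IdealSheafData.comap_comp, hg, Scheme.IdealSheafData.comap_comp]
      exact (fromSpec_appIso_top_mem (I.comap f) V b).mpr hb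
    let T : Ideal Γ(Spec B, ⊤) := (I'.ideal ⟨⊤, isAffineOpen_top _⟩).map g.appTop.hom
    have hle : I'.comap g ≤ Scheme.IdealSheafData.ofIdealTop T := by
      rw [← Scheme.IdealSheafData.le_map_iff_comap_le]
      refine Scheme.IdealSheafData.le_of_isAffine ?_
      rw [Scheme.IdealSheafData.ideal_map_of_isAffineHom]
      refine Ideal.le_comap_of_map_le ?_
      change T ≤ (Scheme.IdealSheafData.equivOfIsAffine (X := Spec B))
        ((Scheme.IdealSheafData.equivOfIsAffine (X := Spec B)).symm T)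
      rw [OrderRingIso.apply_symm_apply]
    have hbT : (Scheme.ΓSpecIso B).inv b ∈ T := by
      have h2 := hle ⟨⊤, isAffineOpen_top _⟩ hb'
      change _ ∈ (Scheme.IdealSheafData.equivOfIsAffine (X := Spec B))
        ((Scheme.IdealSheafData.equivOfIsAffine (X := Spec B)).symm T) at h2
      rwa [OrderRingIso.apply_symm_apply] at h2
    have h3 := Ideal.mem_map_of_mem (Scheme.ΓSpecIso B).hom.hom hbT
    rw [Iso.inv_hom_id_apply] at h3
    refine (?_ : T.map (Scheme.ΓSpecIso B).hom.hom ≤ _) h3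
    rw [Ideal.map_map, Ideal.map_le_iff_le_comap]
    intro a ha
    have h4 : (Scheme.ΓSpecIso A).hom a ∈ I.ideal U := by
      refine (fromSpec_appIso_top_mem I U _).mp ?_
      rwa [Iso.hom_inv_id_apply]
    have h5 := congr($(Scheme.ΓSpecIso_naturality (f.app U.1)) a)
    refine Ideal.mem_comap.mpr ?_
    simp only [CommRingCat.comp_apply] at h5
    change (Scheme.ΓSpecIso B).hom (g.appTop a) ∈ _
    rw [h5]
    exact Ideal.mem_map_of_mem _ h4
  · rw [Ideal.map_le_iff_le_comap]
    refine ((I.le_map_comap f) U).trans ?_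
    rw [Scheme.IdealSheafData.ideal_map_of_isAffineHom]

end Groth.Agent.QC70
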