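import Groth.Agent.QC70.Devissage
import Groth.Agent.QC70.Comap
import Groth.Agent.QCqs72.Basic
import Mathlib.AlgebraicGeometry.Morphisms.ClosedImmersion
import Mathlib.AlgebraicGeometry.FunctionField

set_option autoImplicit false
set_option backward.isDefEq.respectTransparency.types false

/-! Direct images along closed immersions. -/

noncomputable section

universe u

open CategoryTheory Limits AlgebraicGeometry TopologicalSpace Opposite

namespace Groth.Agent.QC70

variable {X Z : Scheme.{u}} (i : Z ⟶ X) [IsClosedImmersion i] (H : Z.Modules)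

/-- The canonical map on stalks of a direct image. -/
def pushStalk (z : Z) :
    ((Scheme.Modules.pushforward i).obj H).presheaf.stalk (i z) →+ H.presheaf.stalk z :=
  (TopCat.Presheaf.stalkPushforward AddCommGrpCat.{u} i.base H.presheaf z).hom

lemma pushStalk_germ (z : Z) {W : X.Opens} (hz : i z ∈ W)
    (s : Γ((Scheme.Modules.pushforward i).obj H, W)) :
    pushStalk i H z (germM ((Scheme.Modules.pushforward i).obj H) W (i z) hz s) =
      germM H (i ⁻¹ᵁ W) z hz s :=
  congr($(TopCat.Presheaf.stalkPushforward_germ AddCommGrpCat.{u} i.base H.presheaf W z hz) s)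

lemma bijective_pushStalk (z : Z) : Function.Bijective (pushStalk i H z) :=
  haveI : IsIso (TopCat.Presheaf.stalkPushforward AddCommGrpCat.{u} i.base H.presheaf z) :=
    TopCat.Presheaf.stalkPushforward.stalkPushforward_iso_of_isInducing AddCommGrpCat.{u}
      i.isClosedEmbedding.isInducing _ z
  ConcreteCategory.bijective_of_isIso
    (TopCat.Presheaf.stalkPushforward AddCommGrpCat.{u} i.base H.presheaf z)

lemma pushStalk_smul (z : Z) (r : X.presheaf.stalk (i z))
    (e : ((Scheme.Modules.pushforward i).obj H).presheaf.stalk (i z)) :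
    pushStalk i H z (r • e) = i.stalkMap z r • pushStalk i H z e := by
  obtain ⟨W, hzW, s, rfl⟩ := germM_exist e
  obtain ⟨W', hzW', a, rfl⟩ := TopCat.Presheaf.exists_germ_eq X.presheaf r
  have h : i z ∈ W ⊓ W' := ⟨hzW, hzW'⟩
  rw [← germM_res (inf_le_left : W ⊓ W' ≤ W) h s, ← germ_resO (inf_le_right : W ⊓ W' ≤ W') h a,
    ← germM_smul, pushStalk_germ, pushStalk_germ, Scheme.Hom.germ_stalkMap_apply,
    QCqs72.pushforward_smul]
  exact germM_smul (M := H) h _ _

lemma pushStalk_stalkMapM {H' : Z.Modules} (φ : H ⟶ H') (z : Z)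
    (e : ((Scheme.Modules.pushforward i).obj H).presheaf.stalk (i z)) :
    pushStalk i H' z (stalkMapM ((Scheme.Modules.pushforward i).map φ) (i z) e) =
      stalkMapM φ z (pushStalk i H z e) := by
  obtain ⟨W, hzW, s, rfl⟩ := germM_exist e
  rw [stalkMapM_germ, pushStalk_germ, pushStalk_germ, stalkMapM_germ]
  rfl

theorem nontrivial_stalk_pushforward (z : Z) [Nontrivial (H.presheaf.stalk z)] :
    Nontrivial (((Scheme.Modules.pushforward i).obj H).presheaf.stalk (i z)) :=
  (bijective_pushStalk i H z).2.nontrivial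

theorem stalk_pushforward_killed [IsIntegral Z] :
    ∀ r ∈ IsLocalRing.maximalIdeal (X.presheaf.stalk (i (genericPoint Z))),
      ∀ e : ((Scheme.Modules.pushforward i).obj H).presheaf.stalk (i (genericPoint Z)),
        r • e = 0 := by
  intro r hr e
  refine (bijective_pushStalk i H _).1 ?_
  rw [pushStalk_smul, map_zero]
  have h0 : i.stalkMap (genericPoint Z) r = 0 := by
    have hF : IsField (Z.presheaf.stalk (genericPoint Z)) := Field.toIsField Z.functionField
    have hm := IsLocalRing.isField_iff_maximalIdeal_eq.mp hF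
    have h1 : i.stalkMap (genericPoint Z) r ∈
        IsLocalRing.maximalIdeal (Z.presheaf.stalk (genericPoint Z)) :=
      (IsLocalRing.mem_maximalIdeal _).mpr fun hu =>
        (IsLocalRing.mem_maximalIdeal r).mp hr
          (isUnit_of_map_unit (i.stalkMap (genericPoint Z)).hom r hu)
    rw [hm] at h1
    exact h1
  rw [h0, zero_smul]

lemma support_pushforward_subset [H.IsFiniteType] :
    CohB1.support ((Scheme.Modules.pushforward i).obj H) ⊆ Set.range i := by
  intro x hx
  by_contra hxi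
  refine hx (subsingleton_of_forall_eq 0 fun e => ?_)
  obtain ⟨W, hxW, s, rfl⟩ := germM_exist e
  let V : X.Opens := ⟨(Set.range i)ᶜ, i.isClosedEmbedding.isClosed_range.isOpen_compl⟩
  have hxV : x ∈ W ⊓ V := ⟨hxW, hxi⟩
  have he : i ⁻¹ᵁ (W ⊓ V) = ⊥ := by
    ext z
    exact ⟨fun h => (h.2 ⟨z, rfl⟩).elim, fun h => h.elim⟩
  rw [← germM_res (inf_le_left : W ⊓ V ≤ W) hxV s]
  refine (congrArg (germM _ (W ⊓ V) x hxV) ?_).trans (germM_zero hxV)
  exact section_ext H _ _ fun p hp => (he.le hp).elim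

theorem isCoh_pushforward [IsLocallyNoetherian X] (hH : Coh.IsCoh H) :
    Coh.IsCoh ((Scheme.Modules.pushforward i).obj H) := by
  obtain ⟨_, _⟩ := hH
  haveI := QCqs72.isQuasicoherent_pushforward (M := H) i
  refine ⟨inferInstance, isFiniteType_of_finite_sections _ (fun W : X.affineOpens => W.1)
    (iSup_affineOpens_eq_top X) (fun W => W.2) fun W => ?_⟩
  classical
  obtain ⟨S, hS⟩ := (finite_sections_of_isFiniteType H (W.2.preimage i)).fg_top
  let S' : Finset Γ((Scheme.Modules.pushforward i).obj H, W.1) :=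
    Finset.image (fun s : Γ(H, i ⁻¹ᵁ W.1) => (s : Γ((Scheme.Modules.pushforward i).obj H, W.1))) S
  refine ⟨⟨S', eq_top_iff.mpr fun t _ => ?_⟩⟩
  have hspan : (t : Γ(H, i ⁻¹ᵁ W.1)) ∈ Submodule.span Γ(Z, i ⁻¹ᵁ W.1) (S : Set Γ(H, i ⁻¹ᵁ W.1)) :=
    hS ▸ trivial
  refine Submodule.span_induction
    (p := fun (y : Γ(H, i ⁻¹ᵁ W.1)) _ => (y : Γ((Scheme.Modules.pushforward i).obj H, W.1)) ∈
      Submodule.span Γ(X, W.1) (S' : Set Γ((Scheme.Modules.pushforward i).obj H, W.1)))
    (fun y hy => Submodule.subset_span (Finset.mem_coe.mpr (Finset.mem_image.mpr ⟨y, hy, rfl⟩)))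
    (zero_mem _) (fun _ _ _ _ hy hz => add_mem hy hz) (fun c y _ hy => ?_) hspan
  obtain ⟨c', rfl⟩ := i.app_surjective W.1 W.2 c
  rw [← QCqs72.pushforward_smul]
  exact Submodule.smul_mem _ c' hy

theorem exists_iso_pushforward_idealMul [IsLocallyNoetherian X] [H.IsQuasicoherent]
    (J : X.IdealSheafData) :
    ∃ e : (Scheme.Modules.pushforward i).obj ((Dual3.idealMul (J.comap i)).obj H) ≅
        (Dual3.idealMul J).obj ((Scheme.Modules.pushforward i).obj H),
      e.hom ≫ Dual3.idealMulι J _ =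
        (Scheme.Modules.pushforward i).map (Dual3.idealMulι (J.comap i) H) := by
  haveI := QCqs72.isQuasicoherent_pushforward (M := H) i
  haveI := isQuasicoherent_idealMul (J.comap i) H
  haveI := QCqs72.isQuasicoherent_pushforward (M := (Dual3.idealMul (J.comap i)).obj H) i
  haveI := (Scheme.Modules.pullbackPushforwardAdjunction i).rightAdjoint_preservesLimits
  let f := (Scheme.Modules.pushforward i).map (Dual3.idealMulι (J.comap i) H)
  haveI : Mono f := inferInstance
  have hr : ∀ (W : X.affineOpens) (x : Γ(H, i ⁻¹ᵁ W.1)),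
      x ∈ ((J.comap i).ideal ⟨i ⁻¹ᵁ W.1, W.2.preimage i⟩ • ⊤ :
          Submodule Γ(Z, i ⁻¹ᵁ W.1) Γ(H, i ⁻¹ᵁ W.1)) ↔
        (x : Γ((Scheme.Modules.pushforward i).obj H, W.1)) ∈ (J.ideal W • ⊤ :
          Submodule Γ(X, W.1) Γ((Scheme.Modules.pushforward i).obj H, W.1)) := by
    intro W x
    rw [ideal_comap_preimage]
    constructor
    · refine fun hx => Submodule.smul_induction_on
        (p := fun y : Γ(H, i ⁻¹ᵁ W.1) => (y : Γ((Scheme.Modules.pushforward i).obj H, W.1)) ∈
          (J.ideal W • ⊤ : Submodule Γ(X, W.1) Γ((Scheme.Modules.pushforward i).obj H, W.1)))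
        hx (fun a ha y _ => ?_) (fun _ _ hy hz => add_mem hy hz)
      obtain ⟨b, hb, rfl⟩ :=
        (Ideal.mem_map_iff_of_surjective (i.app W.1).hom (i.app_surjective W.1 W.2)).mp ha
      let y' : Γ((Scheme.Modules.pushforward i).obj H, W.1) := y
      have h0 : b • y' ∈ (J.ideal W • ⊤ :
          Submodule Γ(X, W.1) Γ((Scheme.Modules.pushforward i).obj H, W.1)) :=
        Submodule.smul_mem_smul hb Submodule.mem_top
      exact (congrArg (fun z : Γ((Scheme.Modules.pushforward i).obj H, W.1) =>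
        z ∈ (J.ideal W • ⊤ : Submodule Γ(X, W.1) Γ((Scheme.Modules.pushforward i).obj H, W.1)))
          (QCqs72.pushforward_smul (M := H) i b y')).mp h0
    · refine fun hx => Submodule.smul_induction_on
        (p := fun y : Γ((Scheme.Modules.pushforward i).obj H, W.1) => (y : Γ(H, i ⁻¹ᵁ W.1)) ∈
          ((J.ideal W).map (i.app W.1).hom • ⊤ : Submodule Γ(Z, i ⁻¹ᵁ W.1) Γ(H, i ⁻¹ᵁ W.1)))
        hx (fun a ha y _ => ?_) (fun _ _ hy hz => add_mem hy hz)
      let y' : Γ(H, i ⁻¹ᵁ W.1) := y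
      have h0 : i.app W.1 a • y' ∈ ((J.ideal W).map (i.app W.1).hom • ⊤ :
          Submodule Γ(Z, i ⁻¹ᵁ W.1) Γ(H, i ⁻¹ᵁ W.1)) :=
        Submodule.smul_mem_smul (Ideal.mem_map_of_mem (i.app W.1).hom ha) Submodule.mem_top
      exact (congrArg (fun z : Γ(H, i ⁻¹ᵁ W.1) => z ∈ ((J.ideal W).map (i.app W.1).hom • ⊤ :
          Submodule Γ(Z, i ⁻¹ᵁ W.1) Γ(H, i ⁻¹ᵁ W.1)))
          (QCqs72.pushforward_smul (M := H) i a y)).mpr h0
  obtain ⟨a, ha⟩ := exists_lift_of_mono f (Dual3.idealMulι J _) (fun W : X.affineOpens => W.1)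
    (iSup_affineOpens_eq_top X) (fun W => W.2) (fun W => isLocAt_of_isQuasicoherent _ W.2)
    fun W x => (mem_idealMul_iff J _ W _).mpr ((hr W _).mp
      ((mem_idealMul_iff (J.comap i) H ⟨i ⁻¹ᵁ W.1, W.2.preimage i⟩ _).mp ⟨x, rfl⟩))
  obtain ⟨c, hc⟩ := exists_lift_of_mono (Dual3.idealMulι J _) f (fun W : X.affineOpens => W.1)
    (iSup_affineOpens_eq_top X) (fun W => W.2) (fun W => isLocAt_idealMul J _ W.2) fun W x => by
      obtain ⟨d, hd⟩ := (mem_idealMul_iff (J.comap i) H ⟨i ⁻¹ᵁ W.1, W.2.preimage i⟩ _).mpr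
        ((hr W _).mpr ((mem_idealMul_iff J _ W _).mp ⟨x, rfl⟩))
      exact ⟨d, hd⟩
  refine ⟨⟨a, c, ?_, ?_⟩, ha⟩
  · rw [← cancel_mono f, Category.assoc, hc, ha, Category.id_comp]
  · rw [← cancel_mono (Dual3.idealMulι J _), Category.assoc, ha, hc, Category.id_comp]

theorem bijective_stalkMapM_pushforward {H' : Z.Modules} (φ : H ⟶ H') (z : Z)
    (h : Function.Bijective (stalkMapM φ z)) :
    Function.Bijective (stalkMapM ((Scheme.Modules.pushforward i).map φ) (i z)) := by
  have := (h.comp (bijective_pushStalk i H z))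
  rw [show stalkMapM φ z ∘ pushStalk i H z = pushStalk i H' z ∘
    stalkMapM ((Scheme.Modules.pushforward i).map φ) (i z) from
      funext fun e => (pushStalk_stalkMapM i H φ z e).symm] at this
  exact (Function.Bijective.of_comp_iff' (bijective_pushStalk i H' z) _).mp this

end Groth.Agent.QC70
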