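import Groth.Agent.QC70.CohOps
import Mathlib.Algebra.Category.ModuleCat.Presheaf.Submodule
import Mathlib.Topology.Sheaves.SheafCondition.UniqueGluing

set_option autoImplicit false
set_option backward.isDefEq.respectTransparency.types false

/-! Submodules of a module given by a local condition on sections. -/

noncomputable section

universe u

open CategoryTheory Limits AlgebraicGeometry TopologicalSpace Opposite

namespace Groth.Agent.QC70

variable {X : Scheme.{u}}

/-- A family of submodules of sections, stable under restriction and local. -/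
structure LocalSubmod (M : X.Modules) where
  /-- the submodules -/
  obj : ∀ V : X.Opens, Submodule Γ(X, V) Γ(M, V)
  res_mem : ∀ {V W : X.Opens} (h : W ≤ V) {s : Γ(M, V)}, s ∈ obj V → res M h s ∈ obj W
  of_locally : ∀ {V : X.Opens} (s : Γ(M, V)),
    (∀ p ∈ V, ∃ (W : X.Opens) (h : W ≤ V), p ∈ W ∧ res M h s ∈ obj W) → s ∈ obj V

namespace LocalSubmod

variable {M : X.Modules} (N : LocalSubmod M)

/-- The presheaf of submodules. -/
def toSubmodule :
    PresheafOfModules.Submodule (show PresheafOfModules.{u} X.ringCatSheaf.obj from M.val) where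
  obj V := N.obj V.unop
  map {_ _} f := fun _ hs => N.res_mem f.unop.le hs

/-- The underlying presheaf of modules. -/
def toPresheaf : PresheafOfModules.{u} X.ringCatSheaf.obj := N.toSubmodule.toPresheafOfModules

lemma isSheaf :
    Presheaf.IsSheaf (Opens.grothendieckTopology X) N.toPresheaf.presheaf := by
  refine (TopCat.Presheaf.isSheaf_iff_isSheafUniqueGluing
    (F := (N.toPresheaf.presheaf : TopCat.Presheaf AddCommGrpCat.{u} X))).mpr ?_
  intro ι U sf hsf
  let t : ∀ i, Γ(M, U i) := fun i => (show N.obj (U i) from sf i).1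
  obtain ⟨s, hs, huniq⟩ := TopCat.Presheaf.IsSheaf.isSheafUniqueGluing M.isSheaf U t
    (fun i j => congrArg Subtype.val (hsf i j))
  have hmem : s ∈ N.obj (iSup U) := N.of_locally s fun p hp => by
    obtain ⟨i, hi⟩ := Opens.mem_iSup.mp hp
    refine ⟨U i, le_iSup U i, hi, ?_⟩
    rw [show res M (le_iSup U i) s = t i from hs i]
    exact (show N.obj (U i) from sf i).2
  exact ⟨(⟨s, hmem⟩ : N.obj (iSup U)), fun i => Subtype.ext (hs i),
    fun s' hs' => Subtype.ext (huniq _ fun i => congrArg Subtype.val (hs' i))⟩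

/-- The module of sections in `N`. -/
def mod : X.Modules := ⟨N.toPresheaf, N.isSheaf⟩

/-- The inclusion. -/
def ι : N.mod ⟶ M := ⟨N.toSubmodule.ι⟩

lemma ι_app {V : X.Opens} (s : Γ(N.mod, V)) : N.ι.app V s = (show N.obj V from s).1 := rfl

instance mono_ι : Mono N.ι :=
  mono_of_app_injective _ fun _ _ _ h => Subtype.ext h

lemma range_ι_app (V : X.Opens) : Set.range (N.ι.app V) = N.obj V :=
  Set.ext fun s => ⟨fun ⟨t, ht⟩ => ht ▸ (show N.obj V from t).2,
    fun hs => ⟨(⟨s, hs⟩ : N.obj V), rfl⟩⟩

/-- Morphisms with values in `N` factor through it. -/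
def lift {P : X.Modules} (φ : P ⟶ M) (h : ∀ (V : X.Opens) (s : Γ(P, V)), φ.app V s ∈ N.obj V) :
    P ⟶ N.mod :=
  HomOn.toHom
    { app := fun V _ =>
        { toFun := fun s => (⟨φ.app V s, h V s⟩ : N.obj V)
          map_add' := fun s t => Subtype.ext (map_add (φ.app V).hom s t)
          map_smul' := fun a s => Subtype.ext (Scheme.Modules.Hom.app_smul φ a s) }
      app_res := fun _ hle s => Subtype.ext (app_res φ hle s) }

lemma lift_ι {P : X.Modules} (φ : P ⟶ M)
    (h : ∀ (V : X.Opens) (s : Γ(P, V)), φ.app V s ∈ N.obj V) : N.lift φ h ≫ N.ι = φ :=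
  Scheme.Modules.hom_ext _ _ fun _ => rfl

end LocalSubmod

/-- The sections with zero germs outside an open. -/
def offSupport (M : X.Modules) (U : X.Opens) : LocalSubmod M where
  obj V :=
    { carrier := {s | ∀ (y : X) (hy : y ∈ V), y ∉ U → germM M V y hy s = 0}
      add_mem' := fun {a b} ha hb y hy hyU => by
        rw [germM_add, ha y hy hyU, hb y hy hyU, add_zero]
      zero_mem' := fun y hy _ => germM_zero hy
      smul_mem' := fun c s hs y hy hyU => by rw [germM_smul, hs y hy hyU, smul_zero] }
  res_mem {V W} h s hs y hy hyU := by rw [germM_res]; exact hs y (h hy) hyU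
  of_locally {V} s h y hy hyU := by
    obtain ⟨W, hW, hyW, hs⟩ := h y hy
    rw [← germM_res hW hyW s]
    exact hs y hyW hyU

end Groth.Agent.QC70
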