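import Groth.Agent.QC70.HomLocFree
import Groth.Agent.QC70.PushClosed
import Groth.Agent.Props58.HomO

set_option autoImplicit false
set_option backward.isDefEq.respectTransparency.types false

/-! Modules on a closed subscheme whose direct image is `𝓗om(i_* E, Q)` for injective `Q`. -/

noncomputable section

universe u

open CategoryTheory Limits AlgebraicGeometry TopologicalSpace Opposite MonoidalCategory TensorProduct

namespace Groth.Agent.QC70

open Props58.LocFree

/-- Tensoring an injection over a quotient ring with a free module over the quotient. -/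
lemma tensor_eq_zero_of_surjective {A B : Type*} [CommRing A] [CommRing B] (φ : A →+* B)
    (hφ : Function.Surjective φ) {M M' E : Type*} [AddCommGroup M] [Module A M] [Module B M]
    [AddCommGroup M'] [Module A M'] [Module B M'] [AddCommGroup E] [Module A E] [Module B E]
    (hM : ∀ (a : A) (x : M), a • x = φ a • x) (hM' : ∀ (a : A) (x : M'), a • x = φ a • x)
    (hE : ∀ (a : A) (x : E), a • x = φ a • x) (g : M →ₗ[A] M') (hg : Function.Injective g)
    {n : ℕ} (e : (Fin n → B) ≃ₗ[B] E) (z : M ⊗[A] E) (hz : g.rTensor E z = 0) : z = 0 := by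
  classical
  let s : Fin n → E := fun i => e (Pi.single i 1)
  have hgen : ∀ x : E, ∃ a : Fin n → A, x = ∑ i, a i • s i := fun x => by
    choose a ha using fun i => hφ (e.symm x i)
    refine ⟨a, ?_⟩
    simp only [s, hE, ha, ← map_smul, ← map_sum]
    conv_lhs => rw [← e.apply_symm_apply x]
    exact congrArg e (pi_eq_sum_univ' (e.symm x))
  have hform : ∀ z : M ⊗[A] E, ∃ m : Fin n → M, z = ∑ i, m i ⊗ₜ[A] s i := fun z => by
    induction z using TensorProduct.induction_on with
    | zero => exact ⟨0, by simp⟩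
    | tmul m x =>
      obtain ⟨a, rfl⟩ := hgen x
      exact ⟨fun i => a i • m, by simp only [TensorProduct.tmul_sum, TensorProduct.smul_tmul]⟩
    | add z z' hz hz' =>
      obtain ⟨m, rfl⟩ := hz
      obtain ⟨m', rfl⟩ := hz'
      exact ⟨m + m', by simp only [Pi.add_apply, TensorProduct.add_tmul, Finset.sum_add_distrib]⟩
  obtain ⟨m, rfl⟩ := hform z
  have key : ∀ j, g (m j) = 0 := fun j => by
    have hc : ∀ (a : A) (x : E), e.symm (a • x) j = φ a * e.symm x j := fun a x => by
      rw [hE, map_smul, Pi.smul_apply, smul_eq_mul]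
    let b : M' →ₗ[A] E →ₗ[A] M' := LinearMap.mk₂ A (fun y x => e.symm x j • y)
      (fun y y' x => smul_add _ _ _)
      (fun a y x => by rw [hM', hM', smul_smul, smul_smul, mul_comm])
      (fun y x x' => by rw [map_add, Pi.add_apply, add_smul])
      (fun a y x => by rw [hc, hM', mul_smul])
    have := congrArg (TensorProduct.lift b) hz
    rw [map_zero, map_sum, map_sum, Finset.sum_eq_single j] at this
    · simpa [b, s] using this
    · intro i _ hij
      simp [b, s, Pi.single_apply, Ne.symm hij]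
    · simp
  refine Finset.sum_eq_zero fun j _ => ?_
  rw [show m j = 0 from hg ((key j).trans (map_zero g).symm), TensorProduct.zero_tmul]

variable {X P : Scheme.{u}} (i : X ⟶ P) [IsClosedImmersion i]

theorem mono_tR_map_pushforward {E : X.Modules} (hE : FlatMod.IsFinLocFree E) {A B : X.Modules}
    (f : A ⟶ B) [Mono f] :
    Mono ((Mod48.tR (O := P.sheaf) ((Scheme.Modules.pushforward i).obj E)).map
      ((Scheme.Modules.pushforward i).map f)) := by
  let EP := (Scheme.Modules.pushforward i).obj E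
  let AP := (Scheme.Modules.pushforward i).obj A
  let BP := (Scheme.Modules.pushforward i).obj B
  let g : AP ⟶ BP := (Scheme.Modules.pushforward i).map f
  let q : Mod48.pre (O := P.sheaf) AP ⊗ Mod48.pre EP ⟶ Mod48.pre BP ⊗ Mod48.pre EP :=
    Mod48.fgt.map g ▷ Mod48.pre EP
  have hq : Presheaf.IsLocallyInjective (Opens.grothendieckTopology P)
      ((PresheafOfModules.toPresheaf _).map q) := by
    refine ⟨fun {W} z z' hz => fun x hx => ?_⟩
    obtain ⟨V₀, n, s, hxV₀, hs⟩ : ∃ (V₀ : P.Opens) (n : ℕ) (s : Fin n → Γ(E, i ⁻¹ᵁ V₀)),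
        x ∈ V₀ ∧ StalkBasis s := by
      by_cases hxi : x ∈ Set.range i
      · obtain ⟨z, rfl⟩ := hxi
        obtain ⟨U, n, s, hzU, hs⟩ := isFinLocFree_iff.mp hE z
        refine ⟨Props58.HomO.bigOpen i U, n,
          fun k => res E (Props58.HomO.preimage_bigOpen i U).le (s k), ?_, hs.restrict _⟩
        exact (Props58.HomO.preimage_bigOpen i U).ge hzU
      · refine ⟨⟨(Set.range i)ᶜ, i.isClosedEmbedding.isClosed_range.isOpen_compl⟩, 0,
          fun k => k.elim0, hxi, fun y hy => absurd ⟨y, rfl⟩ hy⟩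
    obtain ⟨_, ⟨V, hV, rfl⟩, hxV, hVW⟩ :=
      P.isBasis_affineOpens.exists_subset_of_mem_open (show x ∈ W.unop ⊓ V₀ from ⟨hx, hxV₀⟩)
        (W.unop ⊓ V₀).2
    have hle : V ≤ W.unop := fun y hy => (hVW hy).1
    have hVV₀ : i ⁻¹ᵁ V ≤ i ⁻¹ᵁ V₀ := fun y hy => (hVW hy).2
    refine ⟨V, homOfLE hle, ?_, hxV⟩
    change (Mod48.pre (O := P.sheaf) AP ⊗ Mod48.pre EP).map (homOfLE hle).op z =
      (Mod48.pre (O := P.sheaf) AP ⊗ Mod48.pre EP).map (homOfLE hle).op z'
    have hz2 : q.app (op V) ((Mod48.pre (O := P.sheaf) AP ⊗ Mod48.pre EP).map (homOfLE hle).op z) =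
        q.app (op V) ((Mod48.pre (O := P.sheaf) AP ⊗ Mod48.pre EP).map (homOfLE hle).op z') :=
      (PresheafOfModules.naturality_apply q (homOfLE hle).op z).trans
        ((congrArg (fun w => (Mod48.pre (O := P.sheaf) BP ⊗ Mod48.pre EP).map (homOfLE hle).op w)
          (show (q.app W).hom z = (q.app W).hom z' from hz)).trans
          (PresheafOfModules.naturality_apply q (homOfLE hle).op z').symm)
    refine sub_eq_zero.mp ?_
    letI mA : Module Γ(X, i ⁻¹ᵁ V) Γ(AP, V) := (inferInstance : Module Γ(X, i ⁻¹ᵁ V) Γ(A, i ⁻¹ᵁ V))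
    letI mB : Module Γ(X, i ⁻¹ᵁ V) Γ(BP, V) := (inferInstance : Module Γ(X, i ⁻¹ᵁ V) Γ(B, i ⁻¹ᵁ V))
    letI mE : Module Γ(X, i ⁻¹ᵁ V) Γ(EP, V) := (inferInstance : Module Γ(X, i ⁻¹ᵁ V) Γ(E, i ⁻¹ᵁ V))
    let e : (Fin n → Γ(X, i ⁻¹ᵁ V)) ≃ₗ[Γ(X, i ⁻¹ᵁ V)] Γ(EP, V) := basisEquiv hs hVV₀
    refine tensor_eq_zero_of_surjective (i.app V).hom (i.app_surjective V hV)
      (fun a y => QCqs72.pushforward_smul (M := A) i a y)
      (fun a y => QCqs72.pushforward_smul (M := B) i a y)
      (fun a y => QCqs72.pushforward_smul (M := E) i a y)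
      (appLinear g V) (app_injective_of_mono f (i ⁻¹ᵁ V)) e _ ?_
    refine (map_sub (q.app (op V)).hom _ _).trans ?_
    exact sub_eq_zero.mpr hz2
  exact @Crv77.mono_shf_map_of_isLocallyInjective _ _ _ P.sheaf _ _ q hq

include i in
lemma faithful_pushforward : (Scheme.Modules.pushforward i).Faithful := ⟨fun {M N} φ ψ h => by
  refine Scheme.Modules.hom_ext _ _ fun V => ?_
  ext s
  have e := Props58.HomO.preimage_bigOpen i V
  have h1 : φ.app _ (res M e.le s) = ψ.app _ (res M e.le s) :=
    congrArg (fun f : (Scheme.Modules.pushforward i).obj M ⟶ (Scheme.Modules.pushforward i).obj N =>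
      f.app (Props58.HomO.bigOpen i V) (show Γ((Scheme.Modules.pushforward i).obj M,
        Props58.HomO.bigOpen i V) from res M e.le s)) h
  have h2 := congrArg (res N e.ge) h1
  rwa [← app_res, ← app_res, res_res, res_self] at h2⟩

/-- A module whose direct image is `𝓗om(i_* E, Q)` with `Q` injective is injective. -/
theorem injective_of_pushforward_iso_sheafHom {E : X.Modules} (hE : FlatMod.IsFinLocFree E)
    (Q : P.Modules) [Injective Q] {J : X.Modules}
    (e : (Scheme.Modules.pushforward i).obj J ≅ homMod ((Scheme.Modules.pushforward i).obj E) Q) :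
    Injective J := by
  let L : P.Modules ⥤ P.Modules := Mod48.tR (O := P.sheaf) ((Scheme.Modules.pushforward i).obj E)
  let adj : L ⊣ homFunctor ((Scheme.Modules.pushforward i).obj E) := homModAdjR _
  refine ⟨fun {A B} g f _ => ?_⟩
  let p := Scheme.Modules.pushforward i
  haveI : Mono (L.map (p.map f)) := mono_tR_map_pushforward i hE f
  let t : L.obj (p.obj A) ⟶ Q := (adj.homEquiv _ _).symm (p.map g ≫ e.hom)
  let t' : L.obj (p.obj B) ⟶ Q := Injective.factorThru t (L.map (p.map f))
  let h : p.obj B ⟶ p.obj J := adj.homEquiv _ _ t' ≫ e.inv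
  obtain ⟨φ, hφ⟩ := Props58.HomO.exists_map_eq h
  haveI : p.Faithful := faithful_pushforward i
  refine ⟨φ, p.map_injective ?_⟩
  have h1 : p.map f ≫ adj.homEquiv _ _ t' = p.map g ≫ e.hom :=
    (adj.homEquiv_naturality_left _ t').symm.trans
      ((congrArg (adj.homEquiv _ _) (Injective.comp_factorThru t (L.map (p.map f)))).trans
        ((adj.homEquiv _ _).apply_symm_apply _))
  rw [p.map_comp, show p.map φ = h from hφ]
  refine (Category.assoc _ _ _).symm.trans ((congrArg (· ≫ e.inv) h1).trans ?_)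
  exact (Category.assoc _ _ _).trans ((congrArg (p.map g ≫ ·) e.hom_inv_id).trans (Category.comp_id _))

end Groth.Agent.QC70
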