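import Groth.Agent.QC70.Res

/-! Quasi-coherence: locality, and the localization criterion on affine opens. -/

set_option autoImplicit false
set_option backward.isDefEq.respectTransparency.types false

noncomputable section

universe u

open CategoryTheory Limits AlgebraicGeometry TopologicalSpace Opposite

namespace Groth.Agent.QC70

variable {X : Scheme.{u}} (M : X.Modules) {U : X.Opens} (hU : IsAffineOpen U)

instance (X : Scheme.{u}) :
    ObjectProperty.IsClosedUnderIsomorphisms (fun N : X.Modules => N.IsQuasicoherent) where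
  of_iso e h :=
    (SheafOfModules.isQuasicoherent.{u} X.ringCatSheaf).prop_of_iso
      (X := _) (Y := _) e h

lemma isQuasicoherent_of_iso {X : Scheme.{u}} {M N : X.Modules} (e : M ≅ N)
    (h : M.IsQuasicoherent) : N.IsQuasicoherent :=
  ObjectProperty.prop_of_iso (fun N : X.Modules => N.IsQuasicoherent) e h

/-- Quasi-coherence can be checked on an open cover. -/
lemma isQuasicoherent_of_isOpenCover {ι : Type u} (U : ι → X.Opens) (hU : IsOpenCover U)
    (h : ∀ i, (M.restrict (U i).ι).IsQuasicoherent) : M.IsQuasicoherent := by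
  have key : ∀ i, ∃ (κ : Type u) (V : κ → X.Opens), (⨆ k, V k = U i) ∧
      ∀ k, Nonempty (M.over (V k)).Presentation := by
    intro i
    obtain ⟨κ, V, pres, hV, _⟩ :=
      (h i).nonempty_quasicoherentData |> fun _ => (M.restrict (U i).ι).exists_isOpenCover_presentation
    refine ⟨κ, fun k => (U i).ι ''ᵁ V k, ?_, fun k => ?_⟩
    · rw [← Scheme.Hom.image_iSup, hV, Scheme.Hom.image_top_eq_opensRange]
      simp
    · let W := (U i).ι ''ᵁ V k
      let e : (W : Scheme.{u}) ⟶ (V k : Scheme.{u}) := ((U i).ι.isoImage (V k)).inv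
      have he : e ≫ (V k).ι ≫ (U i).ι = W.ι := (U i).ι.isoImage_inv_ι (V k)
      let p1 : (M.restrict W.ι).Presentation :=
        SheafOfModules.Presentation.ofIsIso.{u, u, u}
          ((Scheme.Modules.restrictFunctorCongr he).app M).hom
          (SheafOfModules.Presentation.ofIsIso.{u, u, u}
            (((Scheme.Modules.restrictFunctorComp _ _).app M).symm).hom
            (Scheme.Modules.presentationRestrict e
              (SheafOfModules.Presentation.ofIsIso.{u, u, u}
                (((Scheme.Modules.restrictFunctorComp _ _).app M).symm).hom (pres k))))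
      let E := Scheme.Modules.overEquiv W
      let p2 := SheafOfModules.Presentation.ofIsIso.{u, u, u}
        (((Scheme.Modules.overFunctorEquiv W).app M).symm).hom p1
      exact ⟨SheafOfModules.Presentation.ofIsIso.{u, u, u} (E.unitIso.app (M.over W)).inv
        (p2.map E.inverse (W.sheafOfModulesEquivOverInverseUnit X.ringCatSheaf).symm)⟩
  choose κ V hV hp using key
  refine SheafOfModules.QuasicoherentData.isQuasicoherent (M := M) (q := 
    { I := Σ i, κ i
      X := fun j => V j.1 j.2
      coversTop := ?_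
      presentation := fun j => (hp j.1 j.2).some })
  rw [Opens.coversTop_iff, IsOpenCover, iSup_sigma]
  simp_rw [hV]
  exact hU

/-- `Γ(M|fromSpec, D f) ≅ Γ(M, D f)`. -/
abbrev specRes : (Spec Γ(X, U)).Modules := M.restrict hU.fromSpec

lemma specRes_smul (V : (Spec Γ(X, U)).Opens) (h : hU.fromSpec ''ᵁ V ≤ U) (r : Γ(X, U))
    (x : Γ(specRes M hU, V)) :
    (M.restrictAppIso hU.fromSpec V).hom (r • x) =
      resO X h r • (M.restrictAppIso hU.fromSpec V).hom x := by
  rw [Scheme.Modules.smul_Spec_def, Scheme.Modules.smul_restrictAppIso_hom_apply]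
  congr 1
  have : (Scheme.ΓSpecIso Γ(X, U)).inv ≫ (Spec Γ(X, U)).presheaf.map V.leTop.op ≫
      (hU.fromSpec.appIso V).inv = X.presheaf.map (homOfLE h).op := by
    have h' : V ≤ hU.fromSpec ⁻¹ᵁ U := by simp
    rw [← Scheme.Hom.appLE_appIso_inv hU.fromSpec h', Scheme.Hom.appLE, hU.fromSpec_app_self]
    simp only [Category.assoc, ← Functor.map_comp_assoc]
    rfl
  exact congr($this r)

lemma specRes_res {V W : (Spec Γ(X, U)).Opens} (h : W ≤ V) (x : Γ(specRes M hU, V)) :
    (M.restrictAppIso hU.fromSpec W).hom (res (specRes M hU) h x) =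
      res M (hU.fromSpec.image_mono h) ((M.restrictAppIso hU.fromSpec V).hom x) := rfl

/-- `M` is localizing on `U` iff `M|fromSpec` is localizing in the sense of Mathlib. -/
lemma isLocAt_iff_isIso_fromTildeΓ :
    IsLocAt M U ↔ IsIso (specRes M hU).fromTildeΓ := by
  rw [isIso_fromTildeΓ_iff_isLocalizing]
  have himTop : hU.fromSpec ''ᵁ ⊤ = U := by
    rw [Scheme.Hom.image_top_eq_opensRange, hU.opensRange_fromSpec]
  let eT : Γ(specRes M hU, ⊤) ≃+ Γ(M, U) :=
    (M.restrictAppIso hU.fromSpec ⊤ ≪≫ M.presheaf.mapIso (eqToIso himTop.symm).op).addCommGroupIsoToAddEquiv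
  let eD : ∀ f : Γ(X, U), Γ(specRes M hU, (PrimeSpectrum.basicOpen f : (Spec Γ(X, U)).Opens)) ≃+ Γ(M, X.basicOpen f) :=
    fun f => (M.restrictAppIso hU.fromSpec _ ≪≫
      M.presheaf.mapIso (eqToIso (hU.fromSpec_image_basicOpen f).symm).op).addCommGroupIsoToAddEquiv
  have eT_apply : ∀ x, eT x = res M himTop.ge ((M.restrictAppIso hU.fromSpec ⊤).hom x) := fun x => rfl
  have eD_apply : ∀ f x, eD f x = res M (hU.fromSpec_image_basicOpen f).ge
      ((M.restrictAppIso hU.fromSpec _).hom x) := fun f x => rfl
  have eT_smul : ∀ (r : Γ(X, U)) x, eT (r • x) = r • eT x := fun r x => by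
    rw [eT_apply, eT_apply, specRes_smul M hU ⊤ himTop.le, res_smul, resO_resO, resO_self]
  have eD_smul : ∀ f (r : Γ(X, U)) x, eD f (r • x) = resO X (X.basicOpen_le f) r • eD f x := by
    intro f r x
    rw [eD_apply, eD_apply,
      specRes_smul M hU _ ((hU.fromSpec_image_basicOpen f).trans_le (X.basicOpen_le f)),
      res_smul, resO_resO]
  have hres : ∀ f x, eD f (res (specRes M hU) le_top x) = res M (X.basicOpen_le f) (eT x) := by
    intro f x
    rw [eT_apply, eD_apply, specRes_res, res_res, res_res]
  constructor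
  · intro h f
    refine IsLocalizedModule.Away.mk_of_addCommGroup ?_ ?_ ?_
    · exact (specRes M hU).isUnit_algebraMap_end_of_le_basicOpen f le_rfl
    · intro s
      obtain ⟨n, t, ht⟩ := h.exists_of f (eD f s)
      refine ⟨n, eT.symm t, (eD f).injective ?_⟩
      refine (eD_smul f (f ^ n) s).trans ?_
      refine Eq.trans ?_ (hres f (eT.symm t)).symm
      rw [eT.apply_symm_apply, ht, resO, map_pow]
    · intro t ht
      obtain ⟨n, hn⟩ := h.eq_zero_of f (eT t) (by
        rw [← hres]
        exact (congrArg (eD f) ht).trans (map_zero _))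
      refine ⟨n, eT.injective ?_⟩
      refine (eT_smul (f ^ n) t).trans ?_
      exact hn.trans (map_zero eT).symm
  · intro h
    refine ⟨fun f s => ?_, fun f t ht => ?_⟩
    · have := h f
      obtain ⟨n, t, ht⟩ := IsLocalizedModule.Away.surj
        ((modulesSpecToSheaf.obj (specRes M hU)).obj.map ((PrimeSpectrum.basicOpen f : (Spec Γ(X, U)).Opens)).leTop.op).hom f
        ((eD f).symm s)
      refine ⟨n, eT t, ?_⟩
      rw [← hres]
      refine (congrArg (eD f) ht.symm).trans ?_
      exact (eD_smul f _ _).trans (by rw [(eD f).apply_symm_apply, resO, map_pow])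
    · have := h f
      obtain ⟨n, hn⟩ := IsLocalizedModule.Away.exists_of_eq
        (f := ((modulesSpecToSheaf.obj (specRes M hU)).obj.map ((PrimeSpectrum.basicOpen f : (Spec Γ(X, U)).Opens)).leTop.op).hom)
        (r := f) (x := eT.symm t) (y := 0) (by
          refine Eq.trans ?_ (map_zero _).symm
          refine (eD f).injective ?_
          refine Eq.trans ?_ (map_zero (eD f)).symm
          rw [← ht]
          exact (hres f (eT.symm t)).trans (by rw [eT.apply_symm_apply]))
      refine ⟨n, ?_⟩
      have h2 : eT (f ^ n • eT.symm t) = 0 :=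
        ((congrArg eT (hn.trans (smul_zero _)))).trans (map_zero eT)
      rwa [eT_smul, eT.apply_symm_apply] at h2

include hU in
lemma isLocAt_of_isQuasicoherent [M.IsQuasicoherent] : IsLocAt M U :=
  (isLocAt_iff_isIso_fromTildeΓ M hU).mpr inferInstance

lemma isQuasicoherent_of_isLocAt {ι : Type u} (U : ι → X.Opens) (hcov : IsOpenCover U)
    (hU : ∀ i, IsAffineOpen (U i)) (h : ∀ i, IsLocAt M (U i)) : M.IsQuasicoherent := by
  refine isQuasicoherent_of_isOpenCover M U hcov fun i => ?_
  have h1 : (specRes M (hU i)).IsQuasicoherent :=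
    (isQuasicoherent_iff_isIso_fromTildeΓ _).mpr ((isLocAt_iff_isIso_fromTildeΓ M (hU i)).mp (h i))
  have h2 : ((specRes M (hU i)).restrict (hU i).isoSpec.hom).IsQuasicoherent := inferInstance
  exact ObjectProperty.prop_of_iso (fun N : (U i : Scheme.{u}).Modules => N.IsQuasicoherent)
    (((Scheme.Modules.restrictFunctorComp (hU i).isoSpec.hom (hU i).fromSpec).app M).symm ≪≫
      (Scheme.Modules.restrictFunctorCongr (hU i).isoSpec_hom_fromSpec).app M) h2

lemma isQuasicoherent_of_forall_isLocAt (h : ∀ U : X.Opens, IsAffineOpen U → IsLocAt M U) :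
    M.IsQuasicoherent :=
  isQuasicoherent_of_isLocAt M (fun i : X.affineOpens => i.1)
    (iSup_affineOpens_eq_top X) (fun i => i.2) (fun i => h _ i.2)

end Groth.Agent.QC70
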