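import Groth.Agent.QC70.ExtZero
import Groth.Agent.QC70.StalkLoc
import Mathlib.RingTheory.Localization.Ideal
import Mathlib.RingTheory.Noetherian.Basic
import Mathlib.AlgebraicGeometry.Noetherian

set_option autoImplicit false
set_option backward.isDefEq.respectTransparency.types false

/-! Submodules of the structure sheaf on a Noetherian scheme: spreading generators, chain condition. -/

noncomputable section

universe u

open CategoryTheory Limits AlgebraicGeometry TopologicalSpace Opposite

namespace Groth.Agent.QC70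

variable {X : Scheme.{u}}

lemma germM_toUnit_eq_smul {W : X.Opens} {x : X} (hx : x ∈ W) (a : Γ(X, W)) :
    germM (unitMod X) W x hx (toUnit a) =
      X.presheaf.germ W x hx a • germM (unitMod X) ⊤ x trivial (toUnit 1) := by
  rw [← germM_res (le_top : W ≤ ⊤) hx (toUnit (1 : Γ(X, ⊤))), ← germM_smul, res_unit, smul_unit]
  rw [show resO X (le_top : W ≤ ⊤) (1 : Γ(X, ⊤)) = 1 from
    map_one (X.presheaf.map (homOfLE (le_top : W ≤ ⊤)).op).hom, mul_one]

/-- The stalk of the structure module is the local ring. -/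
def unitStalkEquiv (x : X) : X.presheaf.stalk x ≃ₗ[X.presheaf.stalk x] (unitMod X).presheaf.stalk x :=
  LinearEquiv.ofBijective
    (LinearMap.toSpanSingleton _ _ (germM (unitMod X) ⊤ x trivial (toUnit 1))) (by
      refine ⟨(injective_iff_map_eq_zero _).mpr fun r hr => ?_, fun e => ?_⟩
      · obtain ⟨W, hxW, a, rfl⟩ := TopCat.Presheaf.exists_germ_eq X.presheaf r
        rw [LinearMap.toSpanSingleton_apply, ← germM_toUnit_eq_smul hxW a] at hr
        obtain ⟨W', hW, hxW', h0⟩ := germM_eq_zero hr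
        have h1 : resO X hW a = 0 := h0
        rw [← germ_resO hW hxW' a, h1, map_zero]
      · obtain ⟨W, hxW, a, rfl⟩ := germM_exist e
        exact ⟨X.presheaf.germ W x hxW (show Γ(X, W) from a),
          (germM_toUnit_eq_smul hxW (show Γ(X, W) from a)).symm⟩)

lemma unitStalkEquiv_germ {W : X.Opens} {x : X} (hx : x ∈ W) (a : Γ(X, W)) :
    unitStalkEquiv x (X.presheaf.germ W x hx a) = germM (unitMod X) W x hx (toUnit a) :=
  (germM_toUnit_eq_smul hx a).symm

lemma mem_span_germ_iff {W : X.Opens} {x : X} (hx : x ∈ W) {k : ℕ} (a : Fin k → Γ(X, W))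
    (b : X.presheaf.stalk x) :
    unitStalkEquiv x b ∈ Submodule.span (X.presheaf.stalk x)
        (Set.range fun i => germM (unitMod X) W x hx (toUnit (a i))) ↔
      b ∈ Ideal.span (Set.range fun i => X.presheaf.germ W x hx (a i)) := by
  rw [show Set.range (fun i => germM (unitMod X) W x hx (toUnit (a i))) =
      (unitStalkEquiv x).toLinearMap '' Set.range (fun i => X.presheaf.germ W x hx (a i)) by
    rw [← Set.range_comp]
    exact congrArg Set.range (funext fun i => (unitStalkEquiv_germ hx (a i)).symm),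
    Submodule.span_image]
  exact ⟨fun ⟨c, hc, e⟩ => (unitStalkEquiv x).injective e ▸ hc, fun h => ⟨b, h, rfl⟩⟩

theorem isNoetherian_stalk_unit [IsLocallyNoetherian X] (x : X) :
    IsNoetherian (X.presheaf.stalk x) ((unitMod X).presheaf.stalk x) :=
  isNoetherian_of_linearEquiv (unitStalkEquiv x)

lemma isUnit_germ_of_specializes {W : X.Opens} {x y : X} (h : y ⤳ x) (hx : x ∈ W) (f : Γ(X, W))
    (hf : x ∈ X.basicOpen f) : y ∈ X.basicOpen f :=
  h.mem_open (X.basicOpen f).2 hf

/-- Generators of the stalk of an ideal spread out along the closure of the point. -/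
theorem exists_spread [IsLocallyNoetherian X] {G : X.Modules} (ι : G ⟶ unitMod X) (y : X) :
    ∃ (D : X.Opens) (k : ℕ) (s : Fin k → Γ(G, D)), y ∈ D ∧
      ∀ (G' : X.Modules) (ι' : G' ⟶ unitMod X),
        LinearMap.range (stalkLinear ι' y) ≤ LinearMap.range (stalkLinear ι y) →
        ∀ (x : X) (hx : x ∈ D), y ⤳ x →
          LinearMap.range (stalkLinear ι' x) ≤ Submodule.span (X.presheaf.stalk x)
            (Set.range fun i => germM (unitMod X) D x hx (ι.app D (s i))) := by
  classical
  haveI := isNoetherian_stalk_unit y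
  obtain ⟨k, g, hg⟩ := Submodule.fg_iff_exists_fin_generating_family.mp
    (IsNoetherian.noetherian (LinearMap.range (stalkLinear ι y)))
  choose e he using fun i => (show g i ∈ LinearMap.range (stalkLinear ι y) from
    hg ▸ Submodule.subset_span ⟨i, rfl⟩)
  choose W hyW t ht using fun i => germM_exist (e i)
  have hyinf : y ∈ Finset.univ.inf W := by
    suffices ∀ T : Finset (Fin k), y ∈ T.inf W from this _
    intro T
    induction T using Finset.induction_on with
    | empty => trivial
    | insert a T ha ih => rw [Finset.inf_insert]; exact ⟨hyW a, ih⟩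
  obtain ⟨_, ⟨U, hU, rfl⟩, hyU, hUle⟩ :=
    X.isBasis_affineOpens.exists_subset_of_mem_open hyinf (Finset.univ.inf W).2
  have hUW : ∀ i, U ≤ W i := fun i => le_trans hUle (Finset.inf_le (Finset.mem_univ i))
  let s₀ : Fin k → Γ(G, U) := fun i => res G (hUW i) (t i)
  let a : Fin k → Γ(X, U) := fun i => ι.app U (s₀ i)
  have hga : ∀ i, g i = germM (unitMod X) U y hyU (toUnit (a i)) := fun i => by
    rw [← he i, ← ht i]
    change stalkMapM ι y _ = _
    rw [stalkMapM_germ]
    change _ = germM (unitMod X) U y hyU (ι.app U (res G (hUW i) (t i)))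
    rw [app_res, germM_res]
  haveI := IsLocallyNoetherian.component_noetherian (⟨U, hU⟩ : X.affineOpens)
  let I : Ideal Γ(X, U) := Ideal.span (Set.range a)
  let K : Ideal Γ(X, U) :=
    { carrier := {b | ∃ v : Γ(X, U), y ∈ X.basicOpen v ∧ v * b ∈ I}
      add_mem' := by
        rintro b b' ⟨v, hv, hb⟩ ⟨v', hv', hb'⟩
        refine ⟨v * v', (by rw [Scheme.basicOpen_mul]; exact ⟨hv, hv'⟩), ?_⟩
        rw [show v * v' * (b + b') = v' * (v * b) + v * (v' * b') by ring]
        exact add_mem (I.mul_mem_left _ hb) (I.mul_mem_left _ hb')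
      zero_mem' := ⟨1, by rw [Scheme.basicOpen_of_isUnit X isUnit_one]; exact hyU, by simp⟩
      smul_mem' := by
        rintro c b ⟨v, hv, hb⟩
        exact ⟨v, hv, by rw [smul_eq_mul, mul_left_comm]; exact I.mul_mem_left _ hb⟩ }
  obtain ⟨S, hS⟩ := IsNoetherian.noetherian K
  choose v hv hvI using fun b : S =>
    (show b.1 ∈ K from hS ▸ Submodule.subset_span b.2)
  let c := Finset.univ.prod v
  have hyc : y ∈ X.basicOpen c := by
    suffices ∀ T : Finset S, y ∈ X.basicOpen (T.prod v) from this _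
    intro T
    induction T using Finset.induction_on with
    | empty => rw [Finset.prod_empty, Scheme.basicOpen_of_isUnit X isUnit_one]; exact hyU
    | insert a T ha ih => rw [Finset.prod_insert ha, Scheme.basicOpen_mul]; exact ⟨hv a, ih⟩
  have hcK : ∀ b ∈ K, c * b ∈ I := by
    intro b hb
    rw [← hS] at hb
    induction hb using Submodule.span_induction with
    | mem z hz =>
      obtain ⟨d, hd⟩ := Finset.dvd_prod_of_mem v (Finset.mem_univ (⟨z, hz⟩ : S))
      rw [show c = v ⟨z, hz⟩ * d from hd, mul_right_comm]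
      exact I.mul_mem_right _ (hvI ⟨z, hz⟩)
    | zero => simp
    | add z w _ _ hz hw => rw [mul_add]; exact add_mem hz hw
    | smul r z _ hz => rw [smul_eq_mul, mul_left_comm]; exact I.mul_mem_left _ hz
  refine ⟨X.basicOpen c, k, fun i => res G (X.basicOpen_le c) (s₀ i), hyc,
    fun G' ι' hle x hx hyx => ?_⟩
  have hxU : x ∈ U := X.basicOpen_le c hx
  have hgx : ∀ i, germM (unitMod X) _ x hx (ι.app _ (res G (X.basicOpen_le c) (s₀ i))) =
      germM (unitMod X) U x hxU (toUnit (a i)) := fun i => by rw [app_res, germM_res]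
  simp only [hgx]
  rintro _ ⟨e', rfl⟩
  obtain ⟨W', hxW', t', rfl⟩ := germM_exist e'
  have hyW' : y ∈ W' := hyx.mem_open W'.2 hxW'
  let b' : Γ(X, W') := ι'.app W' t'
  have e1 : stalkLinear ι' x (germM G' W' x hxW' t') = germM (unitMod X) W' x hxW' (toUnit b') :=
    stalkMapM_germ ι' hxW' t'
  rw [e1, ← unitStalkEquiv_germ, mem_span_germ_iff]
  letI : Algebra Γ(X, U) (X.presheaf.stalk x) := (X.presheaf.germ U x hxU).hom.toAlgebra
  haveI : IsLocalization.AtPrime (X.presheaf.stalk x) (hU.primeIdealOf ⟨x, hxU⟩).asIdeal :=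
    hU.isLocalization_stalk ⟨x, hxU⟩
  obtain ⟨⟨b, w⟩, hbw⟩ := IsLocalization.surj (hU.primeIdealOf ⟨x, hxU⟩).asIdeal.primeCompl
    (X.presheaf.germ W' x hxW' b')
  have hw : x ∈ X.basicOpen (w : Γ(X, U)) := (mem_basicOpen_iff_primeCompl hU hxU _).mpr w.2
  have hbw' : X.presheaf.germ W' x hxW' b' * X.presheaf.germ U x hxU (w : Γ(X, U)) =
      X.presheaf.germ U x hxU b := hbw
  obtain ⟨W'', hxW'', i₁, i₂, e2⟩ := TopCat.Presheaf.germ_eq X.presheaf x
    (show x ∈ W' ⊓ U from ⟨hxW', hxU⟩) hxU
    (resO X inf_le_left b' * resO X inf_le_right (w : Γ(X, U))) b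
    (by rw [map_mul, germ_resO, germ_resO, hbw'])
  have hyW'' : y ∈ W'' := hyx.mem_open W''.2 hxW''
  have hby : X.presheaf.germ U y hyU b =
      X.presheaf.germ W' y hyW' b' * X.presheaf.germ U y hyU (w : Γ(X, U)) := by
    rw [← X.presheaf.germ_res_apply i₂ y hyW'' b, ← e2, X.presheaf.germ_res_apply, map_mul,
      germ_resO, germ_resO]
  have hb'y : X.presheaf.germ W' y hyW' b' ∈
      Ideal.span (Set.range fun i => X.presheaf.germ U y hyU (a i)) := by
    rw [← mem_span_germ_iff, unitStalkEquiv_germ, ← (funext hga : g = _), hg]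
    exact hle ⟨germM G' W' y hyW' t', stalkMapM_germ ι' hyW' t'⟩
  letI : Algebra Γ(X, U) (X.presheaf.stalk y) := (X.presheaf.germ U y hyU).hom.toAlgebra
  haveI : IsLocalization.AtPrime (X.presheaf.stalk y) (hU.primeIdealOf ⟨y, hyU⟩).asIdeal :=
    hU.isLocalization_stalk ⟨y, hyU⟩
  have hbI : algebraMap Γ(X, U) (X.presheaf.stalk y) b ∈
      I.map (algebraMap Γ(X, U) (X.presheaf.stalk y)) := by
    rw [Ideal.map_span, ← Set.range_comp]
    exact hby ▸ Ideal.mul_mem_right _ _ hb'y
  obtain ⟨v', hv', hv'b⟩ := (IsLocalization.algebraMap_mem_map_algebraMap_iff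
    (hU.primeIdealOf ⟨y, hyU⟩).asIdeal.primeCompl (X.presheaf.stalk y) I b).mp hbI
  have hcb : c * b ∈ I := hcK b ⟨v', (mem_basicOpen_iff_primeCompl hU hyU v').mpr hv', hv'b⟩
  have hmem : X.presheaf.germ U x hxU (c * b) ∈
      Ideal.span (Set.range fun i => X.presheaf.germ U x hxU (a i)) := by
    have := Ideal.mem_map_of_mem (X.presheaf.germ U x hxU).hom hcb
    rw [Ideal.map_span, ← Set.range_comp] at this
    exact this
  rw [map_mul, ← hbw', ← mul_assoc, mul_comm _ (X.presheaf.germ W' x hxW' b'), mul_assoc] at hmem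
  exact (Ideal.mul_unit_mem_iff_mem _ ((isUnit_germ hx).mul (isUnit_germ hw))).mp hmem

end Groth.Agent.QC70
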