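import Groth.Agent.QC70.Deligne
import Groth.Agent.QC70.CohOps
import Groth.Agent.QC70.StalkLoc
import Groth.Agent.QCSupp72.Basic
import Mathlib.RingTheory.Filtration
import Mathlib.Algebra.Module.Torsion.Basic
import Mathlib.LinearAlgebra.Dimension.Free

set_option autoImplicit false
set_option backward.isDefEq.respectTransparency.types false

/-!
An isomorphism of stalks of coherent modules gives a monomorphism from an ideal times the module,
iso at the point.
-/

noncomputable section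

universe u

open CategoryTheory Limits AlgebraicGeometry TopologicalSpace Opposite

namespace Groth.Agent.QC70

variable {X : Scheme.{u}}

lemma exists_mem_ideal_of_notMem_support {J : X.IdealSheafData} {x : X}
    (hx : x ∉ (J.support : Set X)) (W : X.affineOpens) (hxW : x ∈ W.1) :
    ∃ a ∈ J.ideal W, x ∈ X.basicOpen a := by
  by_contra h
  refine hx ((Scheme.IdealSheafData.mem_support_iff_of_mem hxW).mpr ?_)
  rw [Scheme.mem_zeroLocus_iff]
  exact fun a ha hxa => h ⟨a, ha, hxa⟩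

lemma bijective_stalk_idealMulι (J : X.IdealSheafData) (M : X.Modules) [M.IsQuasicoherent] {x : X}
    (hx : x ∉ (J.support : Set X)) :
    Function.Bijective (stalkMapM (Dual3.idealMulι J M) x) := by
  refine ⟨injective_stalkMapM_of_mono _ x, fun e => ?_⟩
  obtain ⟨_, ⟨V, hV, rfl⟩, hxV, -⟩ :=
    X.isBasis_affineOpens.exists_subset_of_mem_open (Set.mem_univ x) isOpen_univ
  obtain ⟨f, t, hxf, ht⟩ := stalk_exists_smul (isLocAt_of_isQuasicoherent M hV) hV hxV e
  obtain ⟨a, ha, hxa⟩ := exists_mem_ideal_of_notMem_support hx ⟨V, hV⟩ hxV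
  obtain ⟨c, hc⟩ := (mem_idealMul_iff J M ⟨V, hV⟩ (a • t)).mpr
    (Submodule.smul_mem_smul ha trivial)
  obtain ⟨v, hv⟩ := (isUnit_germ hxa).mul (isUnit_germ hxf)
  refine ⟨(↑v⁻¹ : X.presheaf.stalk x) • germM ((Dual3.idealMul J).obj M) V x hxV c, ?_⟩
  change stalkLinear (Dual3.idealMulι J M) x (_ • _) = e
  rw [LinearMap.map_smul]
  change (↑v⁻¹ : X.presheaf.stalk x) • stalkMapM _ x (germM _ V x hxV c) = e
  rw [stalkMapM_germ, hc, germM_smul, ← ht, smul_smul (X.presheaf.germ V x hxV a), ← hv,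
    smul_smul, Units.inv_mul, one_smul]

lemma subsingleton_stalk_of_killed {M : X.Modules} [M.IsQuasicoherent] {W : X.affineOpens} {x : X}
    (hxW : x ∈ W.1) {a : Γ(X, W.1)} (hxa : x ∈ X.basicOpen a) (h : ∀ t : Γ(M, W.1), a • t = 0) :
    Subsingleton (M.presheaf.stalk x) :=
  (QCSupp72.subsingleton_stalk_iff M W.2 hxW).mpr fun t =>
    ⟨a, (QCSupp72.mem_basicOpen_iff_notMem W.2 hxW a).mp hxa, h t⟩

lemma support_subset_of_killed {M : X.Modules} [M.IsQuasicoherent] (J : X.IdealSheafData) {n : ℕ}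
    (h : ∀ (W : X.affineOpens) (a : Γ(X, W.1)), a ∈ J.ideal W ^ n → ∀ t : Γ(M, W.1), a • t = 0) :
    CohB1.support M ⊆ (J.support : Set X) := by
  intro x hx
  by_contra hxJ
  obtain ⟨_, ⟨V, hV, rfl⟩, hxV, -⟩ :=
    X.isBasis_affineOpens.exists_subset_of_mem_open (Set.mem_univ x) isOpen_univ
  obtain ⟨a, ha, hxa⟩ := exists_mem_ideal_of_notMem_support hxJ ⟨V, hV⟩ hxV
  refine hx (subsingleton_stalk_of_killed (W := ⟨V, hV⟩) hxV (a := a ^ (n + 1)) ?_ (h ⟨V, hV⟩ _ ?_))
  · rwa [X.basicOpen_pow a (n := n + 1) n.succ_pos]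
  · exact Ideal.pow_le_pow_right (Nat.le_succ n) (Ideal.pow_mem_pow ha _)

lemma notMem_support_pow {J : X.IdealSheafData} {x : X} (hx : x ∉ (J.support : Set X)) (n : ℕ) :
    x ∉ ((J ^ n).support : Set X) := by
  cases n with
  | zero => simp
  | succ n => simpa using hx

lemma exists_idealMul_mul_lift (J₁ J₂ : X.IdealSheafData) (M : X.Modules) [M.IsQuasicoherent] :
    ∃ κ : (Dual3.idealMul (J₁ * J₂)).obj M ⟶ (Dual3.idealMul J₂).obj M,
      κ ≫ Dual3.idealMulι J₂ M = Dual3.idealMulι (J₁ * J₂) M ∧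
      ∀ (W : X.affineOpens) (x : Γ((Dual3.idealMul (J₁ * J₂)).obj M, W.1)),
        κ.app W.1 x ∈ (J₁.ideal W • ⊤ :
          Submodule Γ(X, W.1) Γ((Dual3.idealMul J₂).obj M, W.1)) := by
  have hr : ∀ W : X.affineOpens,
      LinearMap.range (appLinear (Dual3.idealMulι J₂ M) W.1) = J₂.ideal W • ⊤ := fun W =>
    SetLike.coe_injective (range_idealMulι_app J₂ M W)
  have hmem : ∀ (W : X.affineOpens) (x : Γ((Dual3.idealMul (J₁ * J₂)).obj M, W.1)),
      (Dual3.idealMulι (J₁ * J₂) M).app W.1 x ∈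
        Submodule.map (appLinear (Dual3.idealMulι J₂ M) W.1)
          (J₁.ideal W • ⊤ : Submodule Γ(X, W.1) Γ((Dual3.idealMul J₂).obj M, W.1)) := by
    intro W x
    have h := (mem_idealMul_iff (J₁ * J₂) M W _).mp ⟨x, rfl⟩
    rw [Scheme.IdealSheafData.ideal_mul, Pi.mul_apply, Submodule.mul_smul] at h
    rwa [Submodule.map_smul'', Submodule.map_top, hr W]
  obtain ⟨κ, hκ⟩ := exists_lift_of_mono (Dual3.idealMulι (J₁ * J₂) M) (Dual3.idealMulι J₂ M)
    (fun W : X.affineOpens => W.1) (iSup_affineOpens_eq_top X) (fun W => W.2)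
    (fun W => isLocAt_idealMul _ _ W.2) fun W x => by
      obtain ⟨z, -, hz⟩ := hmem W x
      exact ⟨z, hz⟩
  refine ⟨κ, hκ, fun W x => ?_⟩
  obtain ⟨z, hz, hzx⟩ := hmem W x
  have e : z = κ.app W.1 x := app_injective_of_mono (Dual3.idealMulι J₂ M) _
    (hzx.trans (congr((Scheme.Modules.Hom.app $hκ W.1) x)).symm)
  exact e ▸ hz

theorem exists_mono_iso_at [IsNoetherian X] {M F : X.Modules} (hM : Coh.IsCoh M)
    (hF : Coh.IsCoh F) (x : X) (e : M.presheaf.stalk x ≃ₗ[X.presheaf.stalk x] F.presheaf.stalk x) :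
    ∃ (J : X.IdealSheafData) (ψ : (Dual3.idealMul J).obj M ⟶ F),
      x ∉ (J.support : Set X) ∧ Mono ψ ∧ Function.Bijective (stalkMapM ψ x) := by
  obtain ⟨_, _⟩ := hM
  obtain ⟨_, _⟩ := hF
  obtain ⟨_, ⟨V, hV, rfl⟩, hxV, -⟩ :=
    X.isBasis_affineOpens.exists_subset_of_mem_open (Set.mem_univ x) isOpen_univ
  have := IsLocallyNoetherian.component_noetherian (⟨V, hV⟩ : X.affineOpens)
  have := finite_sections_of_isFiniteType M hV
  have := Module.finitePresentation_of_finite Γ(X, V) Γ(M, V)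
  obtain ⟨s, h, hxs, hh⟩ := exists_lift_stalk hV hxV (isLocAt_of_isQuasicoherent F hV)
    e.toLinearMap
  let Z : Closeds X := ⟨(V : Set X)ᶜ, V.2.isClosed_compl⟩
  let I := Scheme.IdealSheafData.vanishingIdeal Z
  have hI : (I.support : Set X) = (V : Set X)ᶜ := Scheme.IdealSheafData.coe_support_vanishingIdeal Z
  obtain ⟨n, ψ, hψ⟩ := exists_idealMul_lift I (U := V) (by rw [hI, compl_compl]) F M
    (HomOn.ofLinear hV h)
  let I' := I ^ n
  have hxI : x ∉ (I'.support : Set X) := notMem_support_pow (fun hx' => (hI.le hx') hxV) n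
  have := isQuasicoherent_idealMul I' M
  have := isFiniteType_idealMul I' M
  have hι := bijective_stalk_idealMulι I' M hxI
  have hψx : ∀ y, stalkMapM ψ x y =
      X.presheaf.germ V x hxV s • e (stalkMapM (Dual3.idealMulι I' M) x y) := by
    intro y
    obtain ⟨f, t, hxf, ht⟩ := stalk_exists_smul (isLocAt_idealMul I' M hV) hV hxV y
    refine (isUnit_germ hxf).smul_left_cancel.mp ?_
    change X.presheaf.germ V x hxV f • stalkLinear ψ x y = X.presheaf.germ V x hxV f •
      (X.presheaf.germ V x hxV s • e (stalkLinear (Dual3.idealMulι I' M) x y))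
    rw [smul_comm, ← LinearMap.map_smul, ← map_smul e, ← LinearMap.map_smul, ht]
    change stalkMapM ψ x (germM _ V x hxV t) =
      _ • e (stalkMapM _ x (germM _ V x hxV t))
    rw [stalkMapM_germ, stalkMapM_germ, hψ V le_rfl t, HomOn.ofLinear_app_self]
    exact hh _
  have hbij : Function.Bijective (stalkMapM ψ x) := by
    obtain ⟨v, hv⟩ := isUnit_germ hxs
    have hsmul : Function.Bijective fun z : F.presheaf.stalk x =>
        (v : X.presheaf.stalk x) • z := MulAction.bijective v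
    rw [hv] at hsmul
    have := (hsmul.comp e.bijective).comp hι
    convert this using 1
    exact funext hψx
  let K := kernel ψ
  have := isQuasicoherent_kernel ψ
  have := isFiniteType_kernel ψ
  have hxK : x ∉ CohB1.support K :=
    notMem_support_iff.mpr (subsingleton_stalk_kernel ψ x hbij.1)
  let J₀ := Scheme.IdealSheafData.vanishingIdeal ⟨CohB1.support K, isClosed_support K⟩
  have hJ₀ : (J₀.support : Set X) = CohB1.support K :=
    Scheme.IdealSheafData.coe_support_vanishingIdeal _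
  obtain ⟨p, hp⟩ := QCSupp72.exists_pow_smul_sections_eq_zero K J₀ hJ₀.ge
  obtain ⟨T, hTfin, hTcov⟩ := isCompact_and_isOpen_iff_finite_and_eq_biUnion_affineOpens.mp
    ⟨(isCompact_univ : IsCompact (Set.univ : Set X)), isOpen_univ⟩
  have hcov : ⨆ W : T, (W.1 : X.Opens) = ⊤ := by
    ext1
    simpa using hTcov.symm
  have := hTfin.to_subtype
  cases nonempty_fintype T
  have hc : ∀ W : T, ∃ c : ℕ, ∀ q, c + p ≤ q → ∀ z : Γ((Dual3.idealMul I').obj M, W.1.1),
      z ∈ (J₀.ideal W.1 ^ q • ⊤ : Submodule Γ(X, W.1.1) Γ((Dual3.idealMul I').obj M, W.1.1)) →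
        ψ.app W.1.1 z = 0 → z = 0 := by
    intro W
    have := IsLocallyNoetherian.component_noetherian W.1
    have := finite_sections_of_isFiniteType ((Dual3.idealMul I').obj M) W.1.2
    obtain ⟨c, hc⟩ := (J₀.ideal W.1).exists_pow_inf_eq_pow_smul
      (LinearMap.ker (appLinear ψ W.1.1))
    refine ⟨c, fun q hq z hz hz0 => ?_⟩
    have h1 : z ∈ J₀.ideal W.1 ^ p • LinearMap.ker (appLinear ψ W.1.1) := by
      have h2 : z ∈ J₀.ideal W.1 ^ q • ⊤ ⊓ LinearMap.ker (appLinear ψ W.1.1) := ⟨hz, hz0⟩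
      rw [hc q (by omega)] at h2
      exact Submodule.smul_mono (Ideal.pow_le_pow_right (by omega)) inf_le_right h2
    refine (Submodule.mem_bot Γ(X, W.1.1)).mp (Submodule.smul_le.mpr (fun b hb y hy => ?_) h1)
    obtain ⟨k, rfl⟩ := exists_kernel_app_eq ψ W.1.1 y hy
    rw [Submodule.mem_bot, ← Scheme.Modules.Hom.app_smul, hp W.1 b hb k, map_zero]
  choose c hc using hc
  let q := Finset.univ.sup c + p
  obtain ⟨κ, hκ, hκmem⟩ := exists_idealMul_mul_lift (J₀ ^ q) I' M
  have hxJ : x ∉ ((J₀ ^ q * I').support : Set X) := by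
    rw [Scheme.IdealSheafData.support_mul, Closeds.coe_sup]
    rintro (h | h)
    · exact notMem_support_pow (fun hx' => hxK (hJ₀.le hx')) q h
    · exact hxI h
  refine ⟨J₀ ^ q * I', κ ≫ ψ, hxJ, ?_, ?_⟩
  · have := isQuasicoherent_idealMul (J₀ ^ q * I') M
    have := isQuasicoherent_kernel (κ ≫ ψ)
    haveI : Mono κ := mono_of_mono_fac hκ
    refine Preadditive.mono_of_kernel_zero (hom_eq_zero_of_cover _ (fun W : T => (W.1 : X.Opens))
      hcov (fun W => W.1.2) (fun W => isLocAt_of_isQuasicoherent _ W.1.2) fun W k => ?_)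
    refine app_injective_of_mono κ _ ((hc W q ?_ _ ?_ ?_).trans (map_zero _).symm)
    · exact Nat.add_le_add_right (Finset.le_sup (Finset.mem_univ W)) p
    · have := hκmem W.1 ((kernel.ι (κ ≫ ψ)).app W.1.1 k)
      rwa [Scheme.IdealSheafData.ideal_pow, Pi.pow_apply] at this
    · exact congr((Scheme.Modules.Hom.app $(kernel.condition (κ ≫ ψ)) W.1.1) k)
  · have hκx : Function.Bijective (stalkMapM κ x) := by
      have h := bijective_stalk_idealMulι (J₀ ^ q * I') M hxJ
      rw [← hκ] at h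
      refine ⟨fun a b hab => h.1 ?_, fun y => ?_⟩
      · rw [stalkMapM_comp, stalkMapM_comp, hab]
      · obtain ⟨a, ha⟩ := h.2 (stalkMapM (Dual3.idealMulι I' M) x y)
        exact ⟨a, hι.1 (by rw [← stalkMapM_comp, ha])⟩
    convert hbij.comp hκx using 1
    exact funext fun a => stalkMapM_comp κ ψ x a

/-- Modules killed by the maximal ideal are vector spaces over the residue field. -/
theorem exists_pow_equiv_pow {R : Type*} [CommRing R] [IsLocalRing R] {A B : Type*}
    [AddCommGroup A] [Module R A] [Module.Finite R A] [AddCommGroup B] [Module R B]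
    [Module.Finite R B] [Nontrivial A] [Nontrivial B]
    (hA : ∀ r ∈ IsLocalRing.maximalIdeal R, ∀ m : A, r • m = 0)
    (hB : ∀ r ∈ IsLocalRing.maximalIdeal R, ∀ m : B, r • m = 0) :
    ∃ a b : ℕ, 1 ≤ a ∧ 1 ≤ b ∧ Nonempty ((Fin a → A) ≃ₗ[R] (Fin b → B)) := by
  let m := IsLocalRing.maximalIdeal R
  letI : Field (R ⧸ m) := Ideal.Quotient.field m
  have hA' : Module.IsTorsionBySet R A (m : Set R) := fun x a => hA a.1 a.2 x
  have hB' : Module.IsTorsionBySet R B (m : Set R) := fun x a => hB a.1 a.2 x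
  letI : Module (R ⧸ m) A := hA'.module
  letI : Module (R ⧸ m) B := hB'.module
  haveI : IsScalarTower R (R ⧸ m) A := hA'.isScalarTower
  haveI : IsScalarTower R (R ⧸ m) B := hB'.isScalarTower
  haveI : Module.Finite (R ⧸ m) A := Module.Finite.of_restrictScalars_finite R _ _
  haveI : Module.Finite (R ⧸ m) B := Module.Finite.of_restrictScalars_finite R _ _
  refine ⟨Module.finrank (R ⧸ m) B, Module.finrank (R ⧸ m) A, Module.finrank_pos,
    Module.finrank_pos, ⟨(LinearEquiv.ofFinrankEq (R := R ⧸ m) (Fin (Module.finrank (R ⧸ m) B) → A)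
      (Fin (Module.finrank (R ⧸ m) A) → B) ?_).restrictScalars R⟩⟩
  rw [Module.finrank_pi_fintype, Module.finrank_pi_fintype, Finset.sum_const, Finset.sum_const,
    Finset.card_univ, Fintype.card_fin, Finset.card_univ, Fintype.card_fin, smul_eq_mul,
    smul_eq_mul, mul_comm]

theorem finite_stalk [IsLocallyNoetherian X] (M : X.Modules) [M.IsQuasicoherent] [M.IsFiniteType]
    (x : X) : Module.Finite (X.presheaf.stalk x) (M.presheaf.stalk x) := by
  classical
  obtain ⟨_, ⟨V, hV, rfl⟩, hxV, -⟩ :=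
    X.isBasis_affineOpens.exists_subset_of_mem_open (Set.mem_univ x) isOpen_univ
  obtain ⟨S, hS⟩ := (finite_sections_of_isFiniteType M hV).fg_top
  refine ⟨⟨S.image (germM M V x hxV), eq_top_iff.mpr fun e _ => ?_⟩⟩
  obtain ⟨f, t, hxf, ht⟩ := stalk_exists_smul (isLocAt_of_isQuasicoherent M hV) hV hxV e
  obtain ⟨v, hv⟩ := isUnit_germ hxf
  have he : e = (↑v⁻¹ : X.presheaf.stalk x) • germM M V x hxV t := by
    rw [← ht, ← hv, smul_smul, Units.inv_mul, one_smul]
  rw [he]
  refine Submodule.smul_mem _ _ ?_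
  have hspan : t ∈ Submodule.span Γ(X, V) (S : Set Γ(M, V)) := hS ▸ trivial
  clear he ht
  induction hspan using Submodule.span_induction with
  | mem y hy => exact Submodule.subset_span (Finset.mem_coe.mpr (Finset.mem_image_of_mem _ hy))
  | zero => rw [germM_zero]; exact zero_mem _
  | add y z _ _ hy hz => rw [germM_add]; exact add_mem hy hz
  | smul c y _ hy => rw [germM_smul]; exact Submodule.smul_mem _ _ hy

end Groth.Agent.QC70
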