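import Groth.Agent.SiteMod.SheafHomAcyclic
import Groth.Agent.Mod48.FreeOn

set_option autoImplicit false
set_option backward.isDefEq.respectTransparency.types false

/-! The internal hom (right adjoint of `F ⊗ -`) into an injective module has surjective restrictions. -/

noncomputable section

universe u

open CategoryTheory CategoryTheory.Limits Opposite MonoidalCategory

namespace Groth.Agent.QC70

variable {C : Type u} [SmallCategory C] {J : GrothendieckTopology C} {O : Sheaf J CommRingCat.{u}}

lemma lTensor_mapDomain_injective {R : Type*} [CommRing R] (M : Type*) [AddCommGroup M] [Module R M]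
    {α β : Type*} (f : α → β) (hf : Function.Injective f) :
    Function.Injective ((Finsupp.lmapDomain R R f).lTensor M) := by
  classical
  have h : (Finsupp.lcomapDomain f hf : (β →₀ R) →ₗ[R] α →₀ R).comp (Finsupp.lmapDomain R R f) =
      LinearMap.id := LinearMap.ext fun x => Finsupp.comapDomain_mapDomain f hf x
  intro x y hxy
  have := congrArg ((Finsupp.lcomapDomain f hf : (β →₀ R) →ₗ[R] α →₀ R).lTensor M) hxy
  simpa [← LinearMap.comp_apply, ← LinearMap.lTensor_comp, h] using this

/-- Restriction along a monomorphism is surjective on the internal hom into an injective. -/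
theorem restriction_surjective_sheafHom (F G : ModSite.Mod O)
    [((ModSite.tensorBi O).obj F).IsLeftAdjoint] [Injective G] {U U' : C} (a : U' ⟶ U) [Mono a] :
    Function.Surjective ((((ModSite.tensorBi O).obj F).rightAdjoint.obj G).val.map a.op) := by
  intro x
  let H := ((ModSite.tensorBi O).obj F).rightAdjoint.obj G
  let j : Mod48.freeY (O := O) U' ⟶ Mod48.freeY U :=
    (PresheafOfModules.free (O.obj ⋙ forget₂ CommRingCat.{u} RingCat.{u})).map (yoneda.map a)
  have hmono : Mono (Mod48.pre F ◁ j) := by
    refine PresheafOfModules.mono_of_injective (fun {V} => ?_)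
    exact lTensor_mapDomain_injective (R := O.obj.obj V) (F.val.obj V) _
      ((mono_iff_injective ((yoneda.map a).app V)).1
        ((NatTrans.mono_iff_mono_app _).1 inferInstance V))
  have : (Mod48.shf : Mod48.PreM O ⥤ ModSite.Mod O).PreservesMonomorphisms :=
    preservesMonomorphisms_of_preservesLimitsOfShape _
  haveI h' : Mono (((ModSite.tensorBi O).obj F).map (Mod48.shf.map j)) := by
    have e := (Mod48.tensShfRight F).hom.naturality j
    have hm : Mono ((tensorLeft (Mod48.pre F) ⋙ Mod48.shf).map j) :=
      inferInstanceAs (Mono (Mod48.shf.map (Mod48.pre F ◁ j)))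
    have hm2 : Mono ((Mod48.shf ⋙ Mod48.tL F).map j) := by
      rw [← cancel_epi ((Mod48.tensShfRight F).inv.app _), Iso.inv_hom_id_app_assoc] at e
      rw [← e]
      infer_instance
    exact hm2
  let adj := Adjunction.ofIsLeftAdjoint ((ModSite.tensorBi O).obj F)
  let t : Mod48.shf.obj (Mod48.freeY U') ⟶ H := (Mod48.shfFreeYEquiv U' H).symm x
  let e₀ := (adj.homEquiv _ G).symm t
  let ψ₀ := Injective.factorThru e₀ (((ModSite.tensorBi O).obj F).map (Mod48.shf.map j))
  have hψ₀ : ((ModSite.tensorBi O).obj F).map (Mod48.shf.map j) ≫ ψ₀ = e₀ :=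
    Injective.comp_factorThru _ _
  let ψ₁ : Mod48.shf.obj (Mod48.freeY U) ⟶ H := adj.homEquiv _ G ψ₀
  have h4 : Mod48.shf.map j ≫ ψ₁ = t :=
    (adj.homEquiv_naturality_left _ ψ₀).symm.trans
      ((congrArg (adj.homEquiv _ G) hψ₀).trans ((adj.homEquiv _ G).apply_symm_apply t))
  let ψ' : Mod48.freeY U ⟶ Mod48.pre H := Mod48.shfHomEquiv _ H ψ₁
  have hj : PresheafOfModules.freeYonedaEquiv (j ≫ ψ') = x := by
    rw [← Mod48.shfHomEquiv_naturality_left, h4]
    exact Equiv.apply_symm_apply (Mod48.shfFreeYEquiv U' H) x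
  refine ⟨PresheafOfModules.freeYonedaEquiv ψ', ?_⟩
  rw [← hj]
  have h2 := PresheafOfModules.naturality_apply ψ' a.op
    (ModuleCat.freeMk (R := O.obj.obj (op U)) (𝟙 U))
  refine h2.symm.trans ?_
  show ψ'.app (op U') _ = ψ'.app (op U') _
  congr 1
  refine (ModuleCat.freeDesc_apply _ _).trans ?_
  change ModuleCat.freeMk (a ≫ 𝟙 U) = _
  rw [Category.comp_id]
  exact ((ModuleCat.free_map_apply _ _).trans (congrArg _ (Category.id_comp a))).symm

end Groth.Agent.QC70
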