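import Groth.Agent.QC70.StalkLoc
import Groth.Agent.Mod48.Tensor
import Groth.Prelude.Def_DCoh4
import Mathlib.Topology.Sheaves.SheafCondition.UniqueGluing

set_option autoImplicit false
set_option backward.isDefEq.respectTransparency.types false

/-!
The sheaf of local morphisms `𝓗om(F, G)` as a module, functorial in `G`, and its adjunction with `F ⊗ -`.
-/

noncomputable section

universe u

open CategoryTheory Limits AlgebraicGeometry TopologicalSpace Opposite MonoidalCategory

namespace Groth.Agent.QC70

variable {X : Scheme.{u}} {M N P : X.Modules} {U V : X.Opens}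

namespace HomOn

lemma ext' {φ ψ : HomOn M N U} (h : ∀ (W : X.Opens) (hW : W ≤ U) (s : Γ(M, W)),
    φ.app W hW s = ψ.app W hW s) : φ = ψ :=
  HomOn.ext (funext fun W => funext fun hW => LinearMap.ext (h W hW))

instance instZero : Zero (HomOn M N U) :=
  ⟨⟨fun _ _ => 0, fun _ h _ => (res_zero h).symm⟩⟩

instance instAdd : Add (HomOn M N U) :=
  ⟨fun φ ψ => ⟨fun W hW => φ.app W hW + ψ.app W hW, fun hW h s => by
    rw [LinearMap.add_apply, LinearMap.add_apply, φ.app_res, ψ.app_res, res_add]⟩⟩

instance instNeg : Neg (HomOn M N U) :=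
  ⟨fun φ => ⟨fun W hW => -φ.app W hW, fun hW h s => by
    rw [LinearMap.neg_apply, LinearMap.neg_apply, φ.app_res]
    exact (map_neg (N.presheaf.map (homOfLE h).op).hom _).symm⟩⟩

lemma zero_app {W : X.Opens} (hW : W ≤ U) : (0 : HomOn M N U).app W hW = 0 := rfl

lemma add_app (φ ψ : HomOn M N U) {W : X.Opens} (hW : W ≤ U) :
    (φ + ψ).app W hW = φ.app W hW + ψ.app W hW := rfl

lemma neg_app (φ : HomOn M N U) {W : X.Opens} (hW : W ≤ U) :
    (-φ).app W hW = -φ.app W hW := rfl

instance instAddCommGroup : AddCommGroup (HomOn M N U) where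
  add_assoc a b c := HomOn.ext (funext fun W => funext fun hW => add_assoc _ _ _)
  zero_add a := HomOn.ext (funext fun W => funext fun hW => zero_add _)
  add_zero a := HomOn.ext (funext fun W => funext fun hW => add_zero _)
  add_comm a b := HomOn.ext (funext fun W => funext fun hW => add_comm _ _)
  neg_add_cancel a := HomOn.ext (funext fun W => funext fun hW => neg_add_cancel _)
  nsmul := nsmulRec
  zsmul := zsmulRec

instance instModule : Module Γ(X, U) (HomOn M N U) where
  smul a φ := φ.smulFun a
  one_smul φ := ext' fun W hW s => by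
    change resO X hW 1 • φ.app W hW s = _
    rw [resO, map_one, one_smul]
  mul_smul a b φ := ext' fun W hW s => by
    change resO X hW (a * b) • φ.app W hW s = resO X hW a • resO X hW b • φ.app W hW s
    rw [resO, map_mul, mul_smul]
  smul_zero a := ext' fun W hW s => smul_zero _
  smul_add a φ ψ := ext' fun W hW s => smul_add _ _ _
  add_smul a b φ := ext' fun W hW s => by
    change resO X hW (a + b) • φ.app W hW s = resO X hW a • φ.app W hW s + resO X hW b • φ.app W hW s
    rw [resO, map_add, add_smul]
  zero_smul φ := ext' fun W hW s => by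
    change resO X hW 0 • φ.app W hW s = 0
    rw [resO, map_zero, zero_smul]

lemma smul_app (a : Γ(X, U)) (φ : HomOn M N U) {W : X.Opens} (hW : W ≤ U) (s : Γ(M, W)) :
    (a • φ).app W hW s = resO X hW a • φ.app W hW s := rfl

end HomOn

/-- The presheaf of local morphisms. -/
def homPresheaf (M N : X.Modules) : TopCat.Presheaf AddCommGrpCat.{u} X.carrier where
  obj U := AddCommGrpCat.of (HomOn M N U.unop)
  map i := AddCommGrpCat.ofHom
    { toFun := fun φ => φ.mono i.unop.le
      map_zero' := rfl
      map_add' := fun _ _ => rfl }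

/-- The sheaf of local morphisms, as a module. -/
def homMod (M N : X.Modules) : X.Modules where
  val := @PresheafOfModules.ofPresheaf _ _ X.ringCatSheaf.obj (homPresheaf M N)
    (fun U => inferInstanceAs (Module Γ(X, U.unop) (HomOn M N U.unop)))
    (fun U V i r φ => HomOn.ext' fun W hW s => by
      change resO X (hW.trans i.unop.le) r • φ.app W (hW.trans i.unop.le) s =
        resO X hW (resO X i.unop.le r) • φ.app W (hW.trans i.unop.le) s
      rw [resO_resO])
  isSheaf := by
    refine (TopCat.Presheaf.isSheaf_iff_isSheafUniqueGluing (homPresheaf M N)).mpr ?_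
    intro ι V sf hsf
    let φ : ∀ i, HomOn M N (V i) := sf
    have hφ : HomOn.Compatible φ := fun i j W hi hj s => by
      have e : (φ i).mono (inf_le_left : V i ⊓ V j ≤ V i) = (φ j).mono inf_le_right := hsf i j
      exact congrArg (fun ψ : HomOn M N (V i ⊓ V j) => ψ.app W (le_inf hi hj) s) e
    refine ⟨HomOn.glue hφ (le_refl (iSup V)), fun i => ?_, fun ψ hψ => ?_⟩
    · exact HomOn.ext' fun W hW s => HomOn.glue_app hφ le_rfl (hW.trans (le_iSup V i)) i hW s
    · refine HomOn.ext' fun W hW s => section_ext' N (fun i => W ⊓ V i) (fun _ => inf_le_left)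
        (by rw [← inf_iSup_eq]; exact le_inf le_rfl hW) _ _ fun i => ?_
      let ψ' : HomOn M N (iSup V) := ψ
      have e1 : ψ'.mono (le_iSup V i) = φ i := hψ i
      change res N _ (ψ'.app W hW s) = _
      rw [← ψ'.app_res hW inf_le_left, ← (HomOn.glue hφ le_rfl).app_res hW inf_le_left,
        HomOn.glue_app hφ le_rfl _ i inf_le_right, ← e1]
      rfl

/-- A local morphism as a section of `homMod`. -/
abbrev HomOn.toSec (φ : HomOn M N U) : Γ(homMod M N, U) := φ

/-- A section of `homMod` as a local morphism. -/
abbrev ofSec (φ : Γ(homMod M N, U)) : HomOn M N U := φ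

@[simp]
lemma homMod_res_app (h : V ≤ U) (φ : Γ(homMod M N, U)) {W : X.Opens} (hW : W ≤ V) (s : Γ(M, W)) :
    (ofSec (res (homMod M N) h φ)).app W hW s = (ofSec φ).app W (hW.trans h) s := rfl

/-- Post-composition. -/
def homMap (M : X.Modules) (ψ : N ⟶ P) : homMod M N ⟶ homMod M P :=
  HomOn.toHom
    { app := fun W _ =>
        { toFun := fun φ => ((ofSec φ).comp (HomOn.ofHom ψ W)).toSec
          map_add' := fun φ φ' => HomOn.ext' fun V hV s => map_add (ψ.app V).hom _ _
          map_smul' := fun a φ => HomOn.ext' fun V hV s => Scheme.Modules.Hom.app_smul ψ _ _ }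
      app_res := fun _ _ _ => rfl }

@[simp]
lemma homMap_app_app (ψ : N ⟶ P) (φ : Γ(homMod M N, U)) {W : X.Opens} (hW : W ≤ U)
    (s : Γ(M, W)) :
    (ofSec ((homMap M ψ).app U φ)).app W hW s = ψ.app W ((ofSec φ).app W hW s) := rfl

/-- `𝓗om(M, -)`. -/
def homFunctor (M : X.Modules) : X.Modules ⥤ X.Modules where
  obj N := homMod M N
  map ψ := homMap M ψ
  map_id N := Scheme.Modules.hom_ext _ _ fun U => by
    ext φ
    exact HomOn.ext' fun W hW s => rfl
  map_comp ψ χ := Scheme.Modules.hom_ext _ _ fun U => by
    ext φ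
    exact HomOn.ext' fun W hW s => rfl

section Adjunction

variable (F : X.Modules)

/-- A pairing `F ⊗ H → G` of presheaves as a morphism `H ⟶ 𝓗om(F, G)`. -/
def curryHom {H G : X.Modules} (ψ : (Mod48.pre F : Mod48.PreM X.sheaf) ⊗ Mod48.pre H ⟶ Mod48.pre G) :
    H ⟶ homMod F G :=
  HomOn.toHom
    { app := fun W _ =>
        { toFun := fun h => HomOn.toSec
            { app := fun V hV =>
                { toFun := fun s => (show Γ(G, V) from
                    ψ.app (op V) (Mod48.tp (M := Mod48.pre F) (N := Mod48.pre H) s (res H hV h)))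
                  map_add' := fun s t =>
                    (congrArg (ψ.app (op V)).hom
                      (Mod48.tp_add_left (M := Mod48.pre F) (N := Mod48.pre H) s t _)).trans
                      (map_add (ψ.app (op V)).hom _ _)
                  map_smul' := fun r s =>
                    (congrArg (ψ.app (op V)).hom
                      (Mod48.tp_smul_left (M := Mod48.pre F) (N := Mod48.pre H) r s _)).trans
                      (map_smul (ψ.app (op V)).hom _ _) }
              app_res := fun {V V'} hV hle s => by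
                change ψ.app (op V') (Mod48.tp (res F hle s) (res H (hle.trans hV) h)) =
                  Mod48.res (Mod48.pre G) (homOfLE hle).op (ψ.app (op V) (Mod48.tp s (res H hV h)))
                rw [← Mod48.app_res, ← res_res hV hle h]
                rfl }
          map_add' := fun h h' => HomOn.ext' fun V hV s => by
            change ψ.app (op V) (Mod48.tp s (res H hV (h + h'))) = _
            refine (congrArg (fun y => ψ.app (op V) (Mod48.tp s y)) (res_add hV h h')).trans ?_
            exact (congrArg (ψ.app (op V)).hom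
              (Mod48.tp_add_right (M := Mod48.pre F) (N := Mod48.pre H) s _ _)).trans
              (map_add (ψ.app (op V)).hom _ _)
          map_smul' := fun r h => HomOn.ext' fun V hV s => by
            change ψ.app (op V) (Mod48.tp s (res H hV (r • h))) = _
            refine (congrArg (fun y => ψ.app (op V) (Mod48.tp s y)) (res_smul hV r h)).trans ?_
            exact (congrArg (ψ.app (op V)).hom
              (Mod48.tp_smul_right (M := Mod48.pre F) (N := Mod48.pre H) (resO X hV r) s _)).trans
              (map_smul (ψ.app (op V)).hom _ _) }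
      app_res := fun {W W'} _ hle h => HomOn.ext' fun V hV s => by
        change ψ.app (op V) (Mod48.tp s (res H hV (res H hle h))) =
          ψ.app (op V) (Mod48.tp s (res H (hV.trans hle) h))
        rw [res_res] }

lemma curryHom_app_app {H G : X.Modules}
    (ψ : (Mod48.pre F : Mod48.PreM X.sheaf) ⊗ Mod48.pre H ⟶ Mod48.pre G)
    (h : Γ(H, U)) {W : X.Opens} (hW : W ≤ U) (s : Γ(F, W)) :
    (ofSec ((curryHom F ψ).app U h)).app W hW s = ψ.app (op W) (Mod48.tp s (res H hW h)) := rfl

/-- A morphism `H ⟶ 𝓗om(F, G)` as a pairing `F ⊗ H → G` of presheaves. -/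
def uncurryHom {H G : X.Modules} (θ : H ⟶ homMod F G) :
    (Mod48.pre F : Mod48.PreM X.sheaf) ⊗ Mod48.pre H ⟶ Mod48.pre G where
  app W := ModuleCat.MonoidalCategory.tensorLift (R := X.sheaf.obj.obj W)
    (fun (s : Γ(F, W.unop)) (h : Γ(H, W.unop)) =>
      (show Γ(G, W.unop) from (ofSec (θ.app W.unop h)).app W.unop le_rfl s))
    (fun s t h => map_add _ _ _)
    (fun a s h => map_smul ((ofSec (θ.app W.unop h)).app W.unop le_rfl) _ _)
    (fun s h h' => congrArg (fun x => (ofSec x).app W.unop le_rfl s)
      (map_add (θ.app W.unop).hom h h'))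
    (fun a s h => (congrArg (fun x => (ofSec x).app W.unop le_rfl s)
      (Scheme.Modules.Hom.app_smul θ (show Γ(X, W.unop) from a) h)).trans
      (congrArg (· • (ofSec (θ.app W.unop h)).app W.unop le_rfl s)
        (resO_self (show Γ(X, W.unop) from a))))
  naturality {W W'} g := ModuleCat.MonoidalCategory.tensor_ext fun s h => by
    change (ofSec (θ.app W'.unop (res H g.unop.le h))).app W'.unop le_rfl (res F g.unop.le s) =
      res G g.unop.le ((ofSec (θ.app W.unop h)).app W.unop le_rfl s)
    rw [app_res, homMod_res_app, (ofSec (θ.app W.unop h)).app_res le_rfl g.unop.le]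

lemma uncurryHom_app_tp {H G : X.Modules} (θ : H ⟶ homMod F G) {W : X.Opens} (s : Γ(F, W))
    (h : Γ(H, W)) :
    (uncurryHom F θ).app (op W) (Mod48.tp s h) = (ofSec (θ.app W h)).app W le_rfl s := rfl

/-- Pairings are the same as morphisms into `𝓗om`. -/
def curryEquiv (H G : X.Modules) :
    ((Mod48.pre F : Mod48.PreM X.sheaf) ⊗ Mod48.pre H ⟶ Mod48.pre G) ≃ (H ⟶ homMod F G) where
  toFun := curryHom F
  invFun := uncurryHom F
  left_inv ψ := Mod48.tensor_hom_ext fun W s h => by
    obtain ⟨W⟩ := W
    refine (uncurryHom_app_tp F (curryHom F ψ) s h).trans ?_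
    refine (curryHom_app_app F ψ h le_rfl s).trans ?_
    rw [res_self]
  right_inv θ := Scheme.Modules.hom_ext _ _ fun W => by
    ext h
    refine HomOn.ext' fun V hV s => ?_
    refine (uncurryHom_app_tp F θ s (res H hV h)).trans ?_
    rw [app_res, homMod_res_app]

/-- `Hom(F ⊗ H, G) ≃ Hom(H, 𝓗om(F, G))`. -/
def homModEquiv (H G : X.Modules) : ((Mod48.tL (O := X.sheaf) F).obj H ⟶ G) ≃ (H ⟶ homMod F G) :=
  (Mod48.shfHomEquiv (O := X.sheaf) _ G).trans (curryEquiv F H G)

/-- The adjunction `F ⊗ - ⊣ 𝓗om(F, -)`. -/
def homModAdjL : Mod48.tL (O := X.sheaf) F ⊣ homFunctor F :=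
  Adjunction.mkOfHomEquiv
    { homEquiv := homModEquiv F
      homEquiv_naturality_left_symm := fun {H H' G} f θ => by
        apply (Mod48.shfHomEquiv (O := X.sheaf) _ G).injective
        refine (Equiv.apply_symm_apply _ _).trans ?_
        refine Eq.trans ?_ (Mod48.shfHomEquiv_naturality_left _ _).symm
        refine Eq.trans ?_ (congrArg (_ ≫ ·) (Equiv.apply_symm_apply _ _).symm)
        exact Mod48.tensor_hom_ext fun W s h => rfl
      homEquiv_naturality_right := fun {H G G'} f g => by
        change curryHom F ((Mod48.shfHomEquiv (O := X.sheaf) _ G') (f ≫ g)) =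
          curryHom F ((Mod48.shfHomEquiv (O := X.sheaf) _ G) f) ≫ homMap F g
        rw [Mod48.shfHomEquiv, Adjunction.homEquiv_naturality_right]
        refine Scheme.Modules.hom_ext _ _ fun W => ?_
        ext h
        exact HomOn.ext' fun V hV s => rfl }

/-- The adjunction, for the tensor bifunctor of `DCoh`. -/
def homModAdj : (DCoh.tensorBi (X := X)).obj F ⊣ homFunctor F := homModAdjL F

/-- The adjunction, for the tensor bifunctor of `ModSite`. -/
def homModAdjR : (ModSite.tensorBi X.sheaf).flip.obj F ⊣ homFunctor F :=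
  (homModAdjL F).ofNatIsoLeft (Mod48.tensSymm (O := X.sheaf) F)

theorem hasSheafHom_dCoh : DCoh.HasSheafHom F := (homModAdj F).isLeftAdjoint

theorem hasSheafHom_modSite : ModSite.HasSheafHom (O := X.sheaf) F := (homModAdjR F).isLeftAdjoint

/-- The chosen sheaf Hom is the concrete one. -/
def sheafHomIso [DCoh.HasSheafHom F] : DCoh.sheafHom F ≅ homFunctor F :=
  (DCoh.sheafHomAdj F).rightAdjointUniq (homModAdj F)

/-- The chosen internal Hom is the concrete one. -/
def sheafHomIso' [ModSite.HasSheafHom (O := X.sheaf) F] :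
    ModSite.sheafHom (O := X.sheaf) F ≅ homFunctor F :=
  (ModSite.sheafHomAdj (O := X.sheaf) F).rightAdjointUniq (homModAdjR F)

end Adjunction

end Groth.Agent.QC70
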