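import Mathlib.AlgebraicGeometry.Modules.Tilde

/-!
Restriction of sections of modules on schemes, and the localizing condition on an open.
-/

set_option autoImplicit false

noncomputable section

universe u

open CategoryTheory Limits AlgebraicGeometry TopologicalSpace Opposite

namespace Groth.Agent.QC70

variable {X : Scheme.{u}} {M N : X.Modules} {U V W : X.Opens}

/-- Restriction of a section of a module. -/
abbrev res (M : X.Modules) (h : V ≤ U) (x : Γ(M, U)) : Γ(M, V) :=
  M.presheaf.map (homOfLE h).op x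

/-- Restriction of a function. -/
abbrev resO (X : Scheme.{u}) {U V : X.Opens} (h : V ≤ U) (a : Γ(X, U)) : Γ(X, V) :=
  X.presheaf.map (homOfLE h).op a

lemma res_res (h₁ : V ≤ U) (h₂ : W ≤ V) (x : Γ(M, U)) :
    res M h₂ (res M h₁ x) = res M (h₂.trans h₁) x := by
  simp only [res, ← M.presheaf.map_comp_apply, ← op_comp, homOfLE_comp]

lemma resO_resO (h₁ : V ≤ U) (h₂ : W ≤ V) (x : Γ(X, U)) :
    resO X h₂ (resO X h₁ x) = resO X (h₂.trans h₁) x := by
  simp only [resO, ← X.presheaf.map_comp_apply, ← op_comp, homOfLE_comp]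

lemma res_self (x : Γ(M, U)) : res M le_rfl x = x := by
  simp [res]

lemma resO_self (x : Γ(X, U)) : resO X le_rfl x = x := by
  simp [resO]

lemma res_smul (h : V ≤ U) (a : Γ(X, U)) (x : Γ(M, U)) :
    res M h (a • x) = resO X h a • res M h x :=
  Scheme.Modules.map_smul M (homOfLE h) a x

lemma res_add (h : V ≤ U) (x y : Γ(M, U)) : res M h (x + y) = res M h x + res M h y :=
  map_add _ _ _

lemma res_sub (h : V ≤ U) (x y : Γ(M, U)) : res M h (x - y) = res M h x - res M h y :=
  map_sub _ _ _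

lemma res_zero (h : V ≤ U) : res M h 0 = 0 :=
  map_zero _

lemma resO_pow (h : V ≤ U) (a : Γ(X, U)) (n : ℕ) : resO X h (a ^ n) = resO X h a ^ n :=
  map_pow _ _ _

lemma res_pow_smul (h : V ≤ U) (a : Γ(X, U)) (n : ℕ) (x : Γ(M, U)) :
    res M h (a ^ n • x) = resO X h a ^ n • res M h x := by
  rw [res_smul, resO_pow]

lemma app_res (φ : M ⟶ N) (h : V ≤ U) (x : Γ(M, U)) :
    φ.app V (res M h x) = res N h (φ.app U x) :=
  congr($(φ.mapPresheaf.naturality (homOfLE h).op) x)

lemma section_ext (M : X.Modules) {U : X.Opens} (x y : Γ(M, U))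
    (h : ∀ p ∈ U, ∃ (V : X.Opens) (hV : V ≤ U), p ∈ V ∧ res M hV x = res M hV y) : x = y := by
  apply TopCat.Presheaf.IsSheaf.section_ext (M.isSheaf)
  intro p hp
  obtain ⟨V, hV, hpV, e⟩ := h p hp
  exact ⟨V, hV, hpV, e⟩

lemma section_ext' (M : X.Modules) {U : X.Opens} {ι : Type*} (V : ι → X.Opens) (hV : ∀ i, V i ≤ U)
    (hU : U ≤ ⨆ i, V i) (x y : Γ(M, U)) (h : ∀ i, res M (hV i) x = res M (hV i) y) : x = y :=
  section_ext M x y fun p hp => by
    obtain ⟨i, hi⟩ := Opens.mem_iSup.mp (hU hp)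
    exact ⟨V i, hV i, hi, h i⟩

/-- `M` is localizing on `U`: sections over `D(f)` are the localization of sections over `U`
at `f`, for all `f ∈ Γ(X, U)`. -/
structure IsLocAt (M : X.Modules) (U : X.Opens) : Prop where
  exists_of : ∀ (f : Γ(X, U)) (s : Γ(M, X.basicOpen f)),
    ∃ (n : ℕ) (t : Γ(M, U)),
      res M (X.basicOpen_le f) t = resO X (X.basicOpen_le f) f ^ n • s
  eq_zero_of : ∀ (f : Γ(X, U)) (t : Γ(M, U)),
    res M (X.basicOpen_le f) t = 0 → ∃ n : ℕ, f ^ n • t = 0

end Groth.Agent.QC70
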