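import Groth.Agent.QC70.SubMod
import Groth.Prelude.Def_CxOX
import Mathlib.CategoryTheory.Adjunction.Triple
import Mathlib.CategoryTheory.Preadditive.Injective.Basic

set_option autoImplicit false
set_option backward.isDefEq.respectTransparency.types false

/-! Extension by zero along open immersions: stalks, exactness, injectives. -/

noncomputable section

universe u

open CategoryTheory Limits AlgebraicGeometry TopologicalSpace Opposite

namespace Groth.Agent.QC70

variable {U X : Scheme.{u}} (j : U ⟶ X) [IsOpenImmersion j]

section Restrict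

variable {M N : X.Modules} (φ : M ⟶ N) (u : U)

lemma stalkMapM_restrict_conj (e : (M.restrict j).presheaf.stalk u) :
    (Scheme.Modules.restrictStalkNatIso j u).hom.app N
        (stalkMapM ((Scheme.Modules.restrictFunctor j).map φ) u e) =
      stalkMapM φ (j u) ((Scheme.Modules.restrictStalkNatIso j u).hom.app M e) :=
  congr($((Scheme.Modules.restrictStalkNatIso j u).hom.naturality φ) e)

lemma injective_stalkMapM_restrict_iff :
    Function.Injective (stalkMapM ((Scheme.Modules.restrictFunctor j).map φ) u) ↔
      Function.Injective (stalkMapM φ (j u)) := by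
  have hM := ConcreteCategory.bijective_of_isIso ((Scheme.Modules.restrictStalkNatIso j u).hom.app M)
  have hN := ConcreteCategory.bijective_of_isIso ((Scheme.Modules.restrictStalkNatIso j u).hom.app N)
  constructor
  · intro h a b hab
    obtain ⟨a', rfl⟩ := hM.2 a
    obtain ⟨b', rfl⟩ := hM.2 b
    exact congrArg _ (h (hN.1 ((stalkMapM_restrict_conj j φ u a').trans
      (hab.trans (stalkMapM_restrict_conj j φ u b').symm))))
  · intro h a b hab
    exact hM.1 (h ((stalkMapM_restrict_conj j φ u a).symm.trans
      ((congrArg _ hab).trans (stalkMapM_restrict_conj j φ u b))))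

lemma surjective_stalkMapM_restrict_iff :
    Function.Surjective (stalkMapM ((Scheme.Modules.restrictFunctor j).map φ) u) ↔
      Function.Surjective (stalkMapM φ (j u)) := by
  have hM := ConcreteCategory.bijective_of_isIso ((Scheme.Modules.restrictStalkNatIso j u).hom.app M)
  have hN := ConcreteCategory.bijective_of_isIso ((Scheme.Modules.restrictStalkNatIso j u).hom.app N)
  constructor
  · intro h b
    obtain ⟨b', rfl⟩ := hN.2 b
    obtain ⟨a, rfl⟩ := h b'
    exact ⟨_, (stalkMapM_restrict_conj j φ u a).symm⟩
  · intro h b
    obtain ⟨a', ha'⟩ := h ((Scheme.Modules.restrictStalkNatIso j u).hom.app N b)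
    obtain ⟨a, rfl⟩ := hM.2 a'
    exact ⟨a, hN.1 ((stalkMapM_restrict_conj j φ u a).trans ha')⟩

lemma bijective_stalkMapM_restrict_iff :
    Function.Bijective (stalkMapM ((Scheme.Modules.restrictFunctor j).map φ) u) ↔
      Function.Bijective (stalkMapM φ (j u)) :=
  and_congr (injective_stalkMapM_restrict_iff j φ u) (surjective_stalkMapM_restrict_iff j φ u)

end Restrict

lemma bijective_stalkMapM_of_isIso {M N : X.Modules} (φ : M ⟶ N) [IsIso φ] (x : X) :
    Function.Bijective (stalkMapM φ x) :=
  ⟨injective_stalkMapM_of_mono φ x, surjective_stalkMapM_of_epi φ x⟩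

instance isIso_extZeroAdj_unit : IsIso (CxOX.extZeroAdj j).unit :=
  (Adjunction.Triple.mk (CxOX.extZeroAdj j)
    (Scheme.Modules.restrictAdjunction j)).isIso_unit_iff_isIso_counit.mpr inferInstance

variable (G : U.Modules)

/-- The stalks of an extension by zero outside the open vanish. -/
theorem subsingleton_stalk_extZero {x : X} (hx : x ∉ Set.range j) :
    Subsingleton (((CxOX.extZero j).obj G).presheaf.stalk x) := by
  let M := (CxOX.extZero j).obj G
  let E := offSupport M j.opensRange
  have hiso : IsIso ((Scheme.Modules.restrictFunctor j).map E.ι) := by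
    refine isIso_of_bijective_stalkMapM _ fun u => ⟨?_, fun e => ?_⟩
    · rw [injective_stalkMapM_restrict_iff]
      exact injective_stalkMapM_of_mono _ _
    · obtain ⟨W, huW, s, rfl⟩ := germM_exist e
      have hs : (s : Γ(M, j ''ᵁ W)) ∈ E.obj (j ''ᵁ W) := fun y hy hyU =>
        absurd (j.image_le_opensRange W hy) hyU
      refine ⟨germM _ W u huW (show Γ(E.mod.restrict j, W) from (⟨s, hs⟩ : E.obj (j ''ᵁ W))), ?_⟩
      rw [stalkMapM_germ]
      rfl
  let adj := CxOX.extZeroAdj j
  let s := (adj.homEquiv G E.mod).symm
    (adj.unit.app G ≫ inv ((Scheme.Modules.restrictFunctor j).map E.ι))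
  have hs : s ≫ E.ι = 𝟙 M := by
    apply (adj.homEquiv G M).injective
    rw [Adjunction.homEquiv_naturality_right, Equiv.apply_symm_apply, Category.assoc,
      IsIso.inv_hom_id, Category.comp_id, Adjunction.homEquiv_unit]
    exact ((congrArg (_ ≫ ·) ((Scheme.Modules.restrictFunctor j).map_id M)).trans
      (Category.comp_id _)).symm
  refine subsingleton_of_forall_eq 0 fun e => ?_
  obtain ⟨W, hxW, t, rfl⟩ := germM_exist e
  have ht : t ∈ E.obj W := by
    have h : E.ι.app W (s.app W t) = t := congr((Scheme.Modules.Hom.app $hs W) t)
    rw [← h, LocalSubmod.ι_app]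
    exact (show E.obj W from s.app W t).2
  exact ht x hxW hx

theorem support_extZero_subset : CohB1.support ((CxOX.extZero j).obj G) ⊆ Set.range j :=
  fun _ hx => by_contra fun h => hx (subsingleton_stalk_extZero j G h)

instance preservesMonomorphisms_extZero : (CxOX.extZero j).PreservesMonomorphisms where
  preserves {G H} φ hφ := by
    refine mono_of_injective_stalkMapM _ fun x => ?_
    by_cases hx : x ∈ Set.range j
    · obtain ⟨u, rfl⟩ := hx
      rw [← injective_stalkMapM_restrict_iff]
      have e : (Scheme.Modules.restrictFunctor j).map ((CxOX.extZero j).map φ) =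
          inv ((CxOX.extZeroAdj j).unit.app G) ≫ φ ≫ (CxOX.extZeroAdj j).unit.app H := by
        rw [IsIso.eq_inv_comp]
        exact ((CxOX.extZeroAdj j).unit.naturality φ).symm
      rw [e]
      exact injective_stalkMapM_of_mono _ _
    · have := subsingleton_stalk_extZero j G hx
      exact Function.injective_of_subsingleton _

/-- Restriction to an open preserves injectives. -/
theorem injective_restrict (I : X.Modules) [Injective I] : Injective (I.restrict j) :=
  Injective.injective_of_adjoint (CxOX.extZeroAdj j) I

/-- A module supported in the open is the extension by zero of its restriction. -/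
theorem isIso_extZero_counit (M : X.Modules) (h : CohB1.support M ⊆ Set.range j) :
    IsIso ((CxOX.extZeroAdj j).counit.app M) := by
  refine isIso_of_bijective_stalkMapM _ fun x => ?_
  by_cases hx : x ∈ Set.range j
  · obtain ⟨u, rfl⟩ := hx
    rw [← bijective_stalkMapM_restrict_iff]
    have e : (Scheme.Modules.restrictFunctor j).map ((CxOX.extZeroAdj j).counit.app M) =
        inv ((CxOX.extZeroAdj j).unit.app ((Scheme.Modules.restrictFunctor j).obj M)) := by
      apply IsIso.eq_inv_of_hom_inv_id
      exact (CxOX.extZeroAdj j).right_triangle_components M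
    rw [e]
    exact bijective_stalkMapM_of_isIso _ _
  · have h1 := subsingleton_stalk_extZero j ((Scheme.Modules.restrictFunctor j).obj M) hx
    have h2 : Subsingleton (M.presheaf.stalk x) := notMem_support_iff.mp fun hh => hx (h hh)
    exact ⟨fun a b _ => h1.elim a b, fun _ => ⟨0, h2.elim _ _⟩⟩

section Gen

variable {X : Scheme.{u}}

/-- The morphism from the structure module given by a global section. -/
def unitHom {N : X.Modules} (t : Γ(N, ⊤)) : unitMod X ⟶ N :=
  HomOn.toHom
    { app := fun V _ =>
        { toFun := fun a => (show Γ(X, V) from a) • res N le_top t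
          map_add' := fun a b => add_smul (show Γ(X, V) from a) (show Γ(X, V) from b) _
          map_smul' := fun c a => mul_smul c (show Γ(X, V) from a) _ }
      app_res := fun _ h a => by
        simp only [LinearMap.coe_mk, AddHom.coe_mk]
        rw [res_smul, res_res]
        rfl }

lemma unitHom_app_one {N : X.Modules} (t : Γ(N, ⊤)) :
    (unitHom t).app ⊤ (toUnit 1) = t :=
  (one_smul _ _).trans (res_self t)

variable (V : X.Opens)

/-- The tautological section of the extension by zero of the structure sheaf. -/
def extGen : Γ(CxOX.extZeroUnit V.ι, V) :=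
  res (CxOX.extZeroUnit V.ι) V.ι_image_top.ge
    (((CxOX.extZeroAdj V.ι).unit.app (Coh.structureModule V.toScheme)).app ⊤ (toUnit 1))

/-- The morphism from the extension by zero given by a section. -/
def extHom {M : X.Modules} (s : Γ(M, V)) : CxOX.extZeroUnit V.ι ⟶ M :=
  ((CxOX.extZeroAdj V.ι).homEquiv _ _).symm
    (unitHom (N := M.restrict V.ι) (res M V.ι_image_top.le s))

lemma extHom_app {M : X.Modules} (s : Γ(M, V)) :
    (extHom V s).app V (extGen V) = s := by
  have h : (CxOX.extZeroAdj V.ι).unit.app (Coh.structureModule V.toScheme) ≫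
      (Scheme.Modules.restrictFunctor V.ι).map (extHom V s) =
      unitHom (N := M.restrict V.ι) (res M V.ι_image_top.le s) := by
    exact (Adjunction.homEquiv_unit _ _ _ _).symm.trans (Equiv.apply_symm_apply _ _)
  have h2 := (congr((Scheme.Modules.Hom.app $h ⊤) (toUnit 1))).trans (unitHom_app_one _)
  change (extHom V s).app V (res _ _ _) = s
  rw [app_res]
  refine (congrArg (res M V.ι_image_top.ge) h2).trans ?_
  exact (res_res _ _ _).trans (res_self _)

/-- Morphisms agreeing on all tautological sections are equal. -/
lemma hom_eq_zero_of_extHom {B Q : X.Modules} (π : B ⟶ Q)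
    (h : ∀ (V : X.Opens) (g : CxOX.extZeroUnit V.ι ⟶ B), g ≫ π = 0) : π = 0 := by
  refine Scheme.Modules.hom_ext _ _ fun V => ?_
  ext s
  have := congr((Scheme.Modules.Hom.app $(h V (extHom V s)) V) (extGen V))
  rw [Scheme.Modules.Hom.comp_app, ConcreteCategory.comp_apply, extHom_app] at this
  exact this

lemma support_extZeroUnit_subset : CohB1.support (CxOX.extZeroUnit V.ι) ⊆ (V : Set X) :=
  (support_extZero_subset V.ι _).trans (Scheme.Opens.range_ι V).le

end Gen

end Groth.Agent.QC70
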