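import Groth.Agent.QC70.HomMod
import Groth.Agent.QC70.Stalk
import Groth.Agent.QC70.ExtZero
import Groth.Agent.Props58.LocFree.Basis
import Groth.Agent.Crv77.Twist
import Groth.Agent.SiteMod.UnitExt
import Groth.Prelude.Def_Coh
import Mathlib.Algebra.Homology.ShortComplex.ExactFunctor

set_option autoImplicit false
set_option backward.isDefEq.respectTransparency.types false

/-! `𝓗om` out of a finite locally free module: exactness, injectives, global Ext. -/

noncomputable section

universe u

open CategoryTheory Limits AlgebraicGeometry TopologicalSpace Opposite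

namespace Groth.Agent.QC70

open Props58.LocFree

variable {X : Scheme.{u}} {A : X.Modules}

theorem locally_flat_of_isFinLocFree (hA : FlatMod.IsFinLocFree A) (W : X.Opens) :
    ∃ S ∈ (Opens.grothendieckTopology X) W, ∀ ⦃V : X.Opens⦄ (i : V ⟶ W), S.arrows i →
      Module.Flat (X.sheaf.obj.obj (op V)) ((Mod48.pre (O := X.sheaf) A).obj (op V)) := by
  let S : Sieve W :=
    { arrows := fun V _ => ∃ (U : X.Opens) (n : ℕ) (s : Fin n → Γ(A, U)), V ≤ U ∧ StalkBasis s
      downward_closed := by
        rintro Y Z f ⟨U, n, s, hU, hs⟩ g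
        exact ⟨U, n, s, g.le.trans hU, hs⟩ }
  refine ⟨S, fun x hx => ?_, ?_⟩
  · obtain ⟨U, n, s, hxU, hs⟩ := isFinLocFree_iff.mp hA x
    exact ⟨W ⊓ U, homOfLE inf_le_left, ⟨U, n, s, inf_le_right, hs⟩, hx, hxU⟩
  · rintro V i ⟨U, n, s, hVU, hs⟩
    let g : (Fin n → Γ(X, V)) →ₗ[Γ(X, V)] Γ(A, V) :=
      Fintype.linearCombination Γ(X, V) (fun i => res A hVU (s i))
    have hg : Function.Bijective g := hs.bijective hVU
    have : Module.Flat Γ(X, V) Γ(A, V) :=
      Module.Flat.of_linearEquiv (LinearEquiv.ofBijective g hg).symm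
    exact this

theorem injective_homMod (hA : FlatMod.IsFinLocFree A) (I : X.Modules) [Injective I] :
    Injective (homMod A I) := by
  let R : X.Modules ⥤ X.Modules := Mod48.tR (O := X.sheaf) A
  let L : X.Modules ⥤ X.Modules := (DCoh.tensorBi (X := X)).obj A
  haveI : R.PreservesMonomorphisms := ⟨fun k hk =>
    @Crv77.mono_tR_map_of_locally_flat _ _ _ X.sheaf A (locally_flat_of_isFinLocFree hA) _ _ k hk⟩
  let e : R ≅ L := (Mod48.tensSymm (O := X.sheaf) A).symm
  haveI : L.PreservesMonomorphisms := Functor.preservesMonomorphisms.of_iso e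
  let adj : L ⊣ homFunctor A := homModAdj A
  exact Injective.injective_of_adjoint adj I

/-- Coordinates in a basis. -/
def basisEquiv {U : X.Opens} {n : ℕ} {s : Fin n → Γ(A, U)} (hs : StalkBasis s) {V : X.Opens}
    (hV : V ≤ U) : (Fin n → Γ(X, V)) ≃ₗ[Γ(X, V)] Γ(A, V) :=
  LinearEquiv.ofBijective (Fintype.linearCombination Γ(X, V) (fun i : Fin n => res A hV (s i)))
    (hs.bijective hV)

lemma basisEquiv_apply {U : X.Opens} {n : ℕ} {s : Fin n → Γ(A, U)} (hs : StalkBasis s)
    {V : X.Opens} (hV : V ≤ U) (a : Fin n → Γ(X, V)) :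
    basisEquiv hs hV a = ∑ i, a i • res A hV (s i) := rfl

/-- A local morphism out of a free module from the values on a basis. -/
def HomOn.ofBasis {U : X.Opens} {n : ℕ} {s : Fin n → Γ(A, U)} (hs : StalkBasis s) {P : X.Modules}
    (t : Fin n → Γ(P, U)) : HomOn A P U where
  app V hV := (Fintype.linearCombination Γ(X, V) (fun i : Fin n => res P hV (t i))).comp
    (basisEquiv hs hV).symm.toLinearMap
  app_res {V V'} hV h z := by
    obtain ⟨a, rfl⟩ := (basisEquiv hs hV).surjective z
    have ha : res A h (basisEquiv hs hV a) = basisEquiv hs (h.trans hV) (fun i => resO X h (a i)) := by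
      rw [basisEquiv_apply, basisEquiv_apply, res_sum]
      exact Finset.sum_congr rfl fun i _ => by rw [res_smul, res_res]
    simp only [LinearMap.comp_apply, LinearEquiv.coe_coe]
    rw [ha, LinearEquiv.symm_apply_apply, LinearEquiv.symm_apply_apply]
    rw [Fintype.linearCombination_apply, Fintype.linearCombination_apply, res_sum]
    exact Finset.sum_congr rfl fun i _ => by rw [res_smul, res_res]

lemma HomOn.ofBasis_app_comb {U : X.Opens} {n : ℕ} {s : Fin n → Γ(A, U)} (hs : StalkBasis s)
    {P : X.Modules} (t : Fin n → Γ(P, U)) {V : X.Opens} (hV : V ≤ U) (a : Fin n → Γ(X, V)) :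
    (HomOn.ofBasis hs t).app V hV (∑ i, a i • res A hV (s i)) = ∑ i, a i • res P hV (t i) := by
  change Fintype.linearCombination Γ(X, V) (fun i : Fin n => res P hV (t i))
    ((basisEquiv hs hV).symm (basisEquiv hs hV a)) = _
  rw [LinearEquiv.symm_apply_apply, Fintype.linearCombination_apply]

/-- `𝓗om(A, -)` preserves epimorphisms for finite locally free `A`. -/
theorem epi_homMap (hA : FlatMod.IsFinLocFree A) {N P : X.Modules} (g : N ⟶ P) [Epi g] :
    Epi (homMap A g) := by
  classical
  refine epi_of_surjective_stalkMapM _ fun x e => ?_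
  obtain ⟨W₀, hxW₀, φ, rfl⟩ := germM_exist e
  obtain ⟨U₀, n, s₀, hxU₀, hs₀⟩ := isFinLocFree_iff.mp hA x
  let U : X.Opens := W₀ ⊓ U₀
  let s : Fin n → Γ(A, U) := fun i => res A (inf_le_right : U ≤ U₀) (s₀ i)
  have hs : StalkBasis s := hs₀.restrict inf_le_right
  choose V hV t hxV ht using fun i => exists_local_lift g
    ((ofSec φ).app U inf_le_left (s i)) (show x ∈ U from ⟨hxW₀, hxU₀⟩)
  let W : X.Opens := ⟨(U : Set X) ∩ ⋂ i, (V i : Set X),
    U.2.inter (isOpen_iInter_of_finite fun i => (V i).2)⟩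
  have hxW : x ∈ W := ⟨⟨hxW₀, hxU₀⟩, Set.mem_iInter.mpr hxV⟩
  have hWU : W ≤ U := fun y hy => hy.1
  have hWV : ∀ i, W ≤ V i := fun i y hy => Set.mem_iInter.mp hy.2 i
  let ψ : HomOn A N W := HomOn.ofBasis (hs.restrict hWU) (fun i => res N (hWV i) (t i))
  have hWW : W ≤ W₀ := hWU.trans inf_le_left
  refine ⟨germM (homMod A N) W x hxW ψ.toSec, ?_⟩
  rw [stalkMapM_germ, ← germM_res hWW hxW φ]
  congr 1
  refine HomOn.ext' fun Z hZ z => ?_
  obtain ⟨a, rfl⟩ := (hs.restrict hWU).exists_comb hZ z
  change g.app Z (ψ.app Z hZ _) = (ofSec φ).app Z (hZ.trans hWW) _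
  rw [HomOn.ofBasis_app_comb, map_sum, map_sum]
  refine Finset.sum_congr rfl fun i _ => ?_
  rw [Scheme.Modules.Hom.app_smul, LinearMap.map_smul, res_res (hWV i) hZ, app_res, ht,
    res_res (hV i), res_res hWU hZ, (ofSec φ).app_res inf_le_left (hZ.trans hWU)]

/-- The identity as a section of `𝓗om(A, A)`. -/
def idSec (A : X.Modules) : unitMod X ⟶ homMod A A :=
  unitHom (HomOn.ofHom (𝟙 A) ⊤).toSec

theorem bijective_idSec_comp (A M : X.Modules) :
    Function.Bijective fun φ : A ⟶ M => idSec A ≫ homMap A φ := by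
  have h1 : ∀ φ : A ⟶ M, (idSec A ≫ homMap A φ).app ⊤ (toUnit 1) = (HomOn.ofHom φ ⊤).toSec :=
    fun φ => by
      change (homMap A φ).app ⊤ ((idSec A).app ⊤ (toUnit 1)) = _
      rw [idSec, unitHom_app_one]
      exact HomOn.ext' fun W hW s => rfl
  refine ⟨fun φ φ' h => ?_, fun θ => ?_⟩
  · have h2 : (HomOn.ofHom φ ⊤).toSec = (HomOn.ofHom φ' ⊤).toSec :=
      (h1 φ).symm.trans ((congrArg (fun f : unitMod X ⟶ homMod A M => f.app ⊤ (toUnit 1)) h).trans
        (h1 φ'))
    refine Scheme.Modules.hom_ext _ _ fun W => ?_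
    ext s
    exact congrArg (fun ψ : HomOn A M ⊤ => ψ.app W le_top s) h2
  · refine ⟨(ofSec (θ.app ⊤ (toUnit 1))).toHom, Scheme.Modules.hom_ext _ _ fun W => ?_⟩
    ext a
    let a' : Γ(X, W) := a
    have ha : a = a' • res (unitMod X) (le_top : W ≤ ⊤) (toUnit 1) := by
      rw [res_unit, resO, map_one]
      exact congrArg toUnit (mul_one a').symm
    rw [ha, Scheme.Modules.Hom.app_smul, Scheme.Modules.Hom.app_smul, app_res, app_res, h1]
    exact congrArg (fun y => a' • res (homMod A M) _ y) (HomOn.ext' fun _ _ _ => rfl)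

/-- `Ext^p(A, B) ≅ H^p(X, 𝓗om(A, B))` for finite locally free `A`. -/
theorem nonempty_ext_equiv_HH [HasExt.{u} X.Modules] (hA : FlatMod.IsFinLocFree A)
    (B : X.Modules) (p : ℕ) :
    Nonempty (Abelian.Ext A B p ≃+ Coh.HH X (homMod A B) p) := by
  haveI : (homFunctor A).Additive := (homModAdj A).right_adjoint_additive
  haveI hlim : PreservesLimitsOfSize.{u, u} (homFunctor A) :=
    (homModAdj A).rightAdjoint_preservesLimits
  haveI : PreservesLimitsOfSize.{0, 0} (homFunctor A) := preservesLimitsOfSize_shrink _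
  haveI : PreservesFiniteLimits (homFunctor A) :=
    Limits.PreservesLimitsOfSize0.preservesFiniteLimits _
  haveI : PreservesFiniteColimits (homFunctor A) :=
    (Functor.preservesFiniteColimits_iff_forall_exact_map_and_epi _).mpr fun S hS =>
      ⟨(((Functor.preservesFiniteLimits_iff_forall_exact_map_and_mono _).mp inferInstance) S hS).1,
        @epi_homMap X A hA _ _ S.g hS.epi_g⟩
  let e := SiteCoh.extTransfer (homFunctor A) (idSec A) B p
  have he : Function.Bijective e :=
    SiteCoh.extTransfer_bijective (homFunctor A) (idSec A) (fun M => bijective_idSec_comp A M)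
      (fun J hJ n => by
        haveI : Injective ((homFunctor A).obj J) := @injective_homMod X A hA J hJ
        exact Abelian.Ext.subsingleton_of_injective _ _ n) p B
  exact ⟨(AddEquiv.ofBijective e he).trans
    (SiteMod.unitExtEquiv (J := Opens.grothendieckTopology X) X.ringCatSheaf (homMod A B) p)⟩

end Groth.Agent.QC70
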