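import Groth.Agent.QC70.Colim

set_option autoImplicit false
set_option backward.isDefEq.respectTransparency.types false

/-! Finite products of quasi-coherent modules. -/

noncomputable section

universe u

open CategoryTheory Limits AlgebraicGeometry

namespace Groth.Agent.QC70

variable {X : Scheme.{u}}

theorem isQuasicoherent_finite_product {ι : Type u} [Finite ι] (M : ι → X.Modules)
    (h : ∀ i, (M i).IsQuasicoherent) : (∏ᶜ M).IsQuasicoherent :=
  haveI : HasFiniteBiproducts X.Modules := Abelian.hasFiniteBiproducts
  isQuasicoherent_of_iso ((biproduct.isoCoproduct M).symm ≪≫ biproduct.isoProduct M)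
    (isQuasicoherent_coproduct M h)

end Groth.Agent.QC70
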