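import Groth.Agent.QC70.CoprodStalk
import Mathlib.Algebra.Module.Injective

set_option autoImplicit false
set_option backward.isDefEq.respectTransparency.types false

/-! Stalks of injective modules on locally Noetherian schemes; flasqueness of injectives. -/

noncomputable section

universe u

open CategoryTheory Limits AlgebraicGeometry TopologicalSpace Opposite

namespace Groth.Agent.QC70

variable {X : Scheme.{u}}

/-- The germ of the generator of an extension by zero. -/
abbrev genAt (D : X.Opens) {z : X} (hz : z ∈ D) : (CxOX.extZeroUnit D.ι).presheaf.stalk z :=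
  germM (CxOX.extZeroUnit D.ι) D z hz (extGen D)

lemma stalkMapM_extHom_genAt {M : X.Modules} (D : X.Opens) (s : Γ(M, D)) {z : X} (hz : z ∈ D) :
    stalkMapM (extHom D s) z (genAt D hz) = germM M D z hz s := by
  rw [stalkMapM_germ, extHom_app]

lemma exists_smul_genAt (D : X.Opens) {z : X} (hz : z ∈ D)
    (e : (CxOX.extZeroUnit D.ι).presheaf.stalk z) :
    ∃ c : X.presheaf.stalk z, e = c • genAt D hz := by
  refine ⟨(unitStalkEquiv z).symm (stalkMapM (extOne D) z e), (bijective_stalk_extOne D hz).1 ?_⟩
  change _ = stalkLinear (extOne D) z (_ • _)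
  rw [LinearMap.map_smul]
  change _ = _ • stalkMapM (extHom D (toUnit 1)) z (genAt D hz)
  rw [stalkMapM_extHom_genAt, ← unitStalkEquiv_germ, map_one, ← LinearEquiv.map_smul,
    smul_eq_mul, mul_one, LinearEquiv.apply_symm_apply]

lemma smul_genAt_eq_zero (D : X.Opens) {z : X} (hz : z ∈ D) {c : X.presheaf.stalk z}
    (h : c • genAt D hz = 0) : c = 0 := by
  have h2 := congrArg (stalkLinear (extOne D) z) h
  rw [LinearMap.map_smul, map_zero] at h2
  change c • stalkMapM (extHom D (toUnit 1)) z (genAt D hz) = 0 at h2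
  rw [stalkMapM_extHom_genAt, ← unitStalkEquiv_germ, map_one, ← LinearEquiv.map_smul,
    smul_eq_mul, mul_one] at h2
  exact (LinearEquiv.map_eq_zero_iff _).mp h2

/-- The stalks of an injective module on a locally Noetherian scheme are injective. -/
theorem injective_stalk [IsLocallyNoetherian X] (I : X.Modules) [Injective I] (x : X) :
    Module.Injective (X.presheaf.stalk x) (I.presheaf.stalk x) := by
  classical
  refine Module.Baer.injective fun 𝔞 φ => ?_
  obtain ⟨_, ⟨U, hU, rfl⟩, hxU, -⟩ :=
    X.isBasis_affineOpens.exists_subset_of_mem_open (Set.mem_univ x) isOpen_univ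
  haveI := IsLocallyNoetherian.component_noetherian (⟨U, hU⟩ : X.affineOpens)
  letI algx : Algebra Γ(X, U) (X.presheaf.stalk x) := (X.presheaf.germ U x hxU).hom.toAlgebra
  haveI : IsLocalization.AtPrime (X.presheaf.stalk x) (hU.primeIdealOf ⟨x, hxU⟩).asIdeal :=
    hU.isLocalization_stalk ⟨x, hxU⟩
  haveI : IsNoetherianRing (X.presheaf.stalk x) :=
    IsLocalization.isNoetherianRing (hU.primeIdealOf ⟨x, hxU⟩).asIdeal.primeCompl _ inferInstance
  obtain ⟨k, g, hg⟩ := Submodule.fg_iff_exists_fin_generating_family.mp (IsNoetherian.noetherian 𝔞)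
  choose as has using fun i => IsLocalization.surj
    (hU.primeIdealOf ⟨x, hxU⟩).asIdeal.primeCompl (g i)
  let a : Fin k → Γ(X, U) := fun i => (as i).1
  have hmem : ∀ i, X.presheaf.germ U x hxU (a i) ∈ 𝔞 := fun i => by
    have := 𝔞.mul_mem_right (algebraMap Γ(X, U) (X.presheaf.stalk x) ((as i).2 : Γ(X, U)))
      (hg ▸ Submodule.subset_span ⟨i, rfl⟩ : g i ∈ 𝔞)
    rwa [has i] at this
  have hspan : 𝔞 ≤ Ideal.span (Set.range fun i => X.presheaf.germ U x hxU (a i)) := by
    refine hg.ge.trans (Submodule.span_le.mpr ?_)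
    rintro _ ⟨i, rfl⟩
    have hu : IsUnit (algebraMap Γ(X, U) (X.presheaf.stalk x) ((as i).2 : Γ(X, U))) :=
      IsLocalization.map_units _ (as i).2
    refine (Ideal.mul_unit_mem_iff_mem _ hu).mp ?_
    rw [has i]
    exact Ideal.subset_span ⟨i, rfl⟩
  choose W hxW t ht using fun i => germM_exist (φ ⟨_, hmem i⟩)
  obtain ⟨l, r, hr⟩ := Submodule.fg_iff_exists_fin_generating_family.mp
    (IsNoetherian.noetherian (LinearMap.ker (Fintype.linearCombination Γ(X, U) a)))
  let D₀ : X.Opens := U ⊓ Finset.univ.inf W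
  have hxD₀ : x ∈ D₀ := ⟨hxU, by
    suffices ∀ T : Finset (Fin k), x ∈ T.inf W from this _
    intro T
    induction T using Finset.induction_on with
    | empty => trivial
    | insert i T _ ih => rw [Finset.inf_insert]; exact ⟨hxW i, ih⟩⟩
  have hD₀U : D₀ ≤ U := inf_le_left
  have hD₀W : ∀ i, D₀ ≤ W i := fun i => inf_le_right.trans (Finset.inf_le (Finset.mem_univ i))
  let R : Fin l → Γ(I, D₀) := fun j => ∑ i, resO X hD₀U (r j i) • res I (hD₀W i) (t i)
  have hR : ∀ j, germM I D₀ x hxD₀ (R j) = 0 := by
    intro j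
    have hrj : ∑ i, r j i • a i = 0 := by
      have : r j ∈ LinearMap.ker (Fintype.linearCombination Γ(X, U) a) :=
        hr ▸ Submodule.subset_span ⟨j, rfl⟩
      rwa [LinearMap.mem_ker, Fintype.linearCombination_apply] at this
    refine (map_sum (I.presheaf.germ D₀ x hxD₀).hom _ _).trans ?_
    refine Eq.trans (Finset.sum_congr rfl fun i _ =>
      show germM I D₀ x hxD₀ (resO X hD₀U (r j i) • res I (hD₀W i) (t i)) =
        φ (X.presheaf.germ U x hxU (r j i) • ⟨_, hmem i⟩) by
        rw [germM_smul, germ_resO, germM_res, ht i, map_smul]) ?_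
    rw [← map_sum, show (∑ i, X.presheaf.germ U x hxU (r j i) •
      (⟨X.presheaf.germ U x hxU (a i), hmem i⟩ : 𝔞)) = 0 from Subtype.ext (by
        rw [Submodule.coe_sum, Submodule.coe_zero]
        simp only [Submodule.coe_smul, smul_eq_mul, ← map_mul]
        rw [← map_sum]
        simp only [smul_eq_mul] at hrj
        rw [hrj, map_zero]), map_zero]
  choose W' hW' hxW' hW'0 using fun j => germM_eq_zero (hR j)
  let D : X.Opens := D₀ ⊓ Finset.univ.inf W'
  have hxD : x ∈ D := ⟨hxD₀, by
    suffices ∀ T : Finset (Fin l), x ∈ T.inf W' from this _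
    intro T
    induction T using Finset.induction_on with
    | empty => trivial
    | insert i T _ ih => rw [Finset.inf_insert]; exact ⟨hxW' i, ih⟩⟩
  have hDU : D ≤ U := inf_le_left.trans hD₀U
  have hDW : ∀ i, D ≤ W i := fun i => inf_le_left.trans (hD₀W i)
  have hD0 : ∀ j, (∑ i, resO X hDU (r j i) • res I (hDW i) (t i)) = 0 := fun j => by
    have h1 := congrArg (res I (inf_le_right.trans (Finset.inf_le (Finset.mem_univ j)) : D ≤ W' j))
      (hW'0 j)
    rw [res_res, res_zero, res_sum] at h1
    refine Eq.trans (Finset.sum_congr rfl fun i _ => ?_) h1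
    rw [res_smul, resO_resO, res_res]
  let E := CxOX.extZeroUnit D.ι
  let P : X.Modules := ⨁ fun _ : Fin k => E
  let σ : P ⟶ E := biproduct.desc fun i => extHom D (resO X hDU (a i) • extGen D)
  let θ : P ⟶ I := biproduct.desc fun i => extHom D (res I (hDW i) (t i))
  have hσθ : kernel.ι σ ≫ θ = 0 := by
    refine Scheme.Modules.hom_ext _ _ fun V => ?_
    ext s
    refine section_ext I _ 0 fun z hz => ?_
    suffices h0 : germM I V z hz ((kernel.ι σ ≫ θ).app V s) = 0 by
      obtain ⟨V', hV', hzV', h⟩ := germM_eq_zero h0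
      exact ⟨V', hV', hzV', h.trans (res_zero _).symm⟩
    rw [← stalkMapM_germ, stalkMapM_comp]
    have hw0 : stalkMapM σ z (stalkMapM (kernel.ι σ) z (germM _ V z hz s)) = 0 := by
      rw [← stalkMapM_comp, kernel.condition, stalkMapM_zero]
    generalize stalkMapM (kernel.ι σ) z (germM _ V z hz s) = w at hw0 ⊢
    obtain ⟨v, rfl⟩ := (biproductStalkEquiv (fun _ : Fin k => E) z).symm.surjective w
    by_cases hzD : z ∈ D
    swap
    · haveI := subsingleton_stalk_extZero D.ι (Coh.structureModule D.toScheme) (x := z)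
        (by rwa [Scheme.Opens.range_ι])
      have : Subsingleton ((i : Fin k) → E.presheaf.stalk z) :=
        ⟨fun p q => funext fun i => Subsingleton.elim _ _⟩
      rw [Subsingleton.elim v 0, map_zero]
      exact map_zero (stalkLinear θ z)
    choose c hc using fun i => exists_smul_genAt D hzD (v i)
    have hval : ∀ {N : X.Modules} (f : Fin k → (E ⟶ N)),
        stalkMapM (biproduct.desc f) z ((biproductStalkEquiv (fun _ : Fin k => E) z).symm v) =
          ∑ i, c i • stalkMapM (f i) z (genAt D hzD) := by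
      intro N f
      change stalkLinear (biproduct.desc f) z
        ((∑ i, (stalkLinear (biproduct.ι (fun _ : Fin k => E) i) z).comp (LinearMap.proj i)) v) = _
      rw [LinearMap.sum_apply, map_sum]
      refine Finset.sum_congr rfl fun i _ => ?_
      rw [LinearMap.comp_apply, LinearMap.proj_apply, hc i, LinearMap.map_smul, LinearMap.map_smul]
      refine congrArg (c i • ·) ?_
      change stalkMapM (biproduct.desc f) z (stalkMapM (biproduct.ι _ i) z _) = _
      rw [← stalkMapM_comp, biproduct.ι_desc]
    rw [hval] at hw0 ⊢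
    rw [Finset.sum_congr rfl fun i _ => congrArg (c i • ·)
      ((stalkMapM_extHom_genAt D _ hzD).trans ((germM_smul hzD _ _).trans
        (congrArg (· • _) (germ_resO hDU hzD _))))] at hw0
    simp only [smul_smul] at hw0
    rw [← Finset.sum_smul] at hw0
    have hrel := smul_genAt_eq_zero D hzD hw0
    rw [Finset.sum_congr rfl fun i _ => congrArg (c i • ·) (stalkMapM_extHom_genAt D _ hzD)]
    have hzU : z ∈ U := hDU hzD
    letI : Algebra Γ(X, U) (X.presheaf.stalk z) := (X.presheaf.germ U z hzU).hom.toAlgebra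
    haveI : IsLocalization.AtPrime (X.presheaf.stalk z) (hU.primeIdealOf ⟨z, hzU⟩).asIdeal :=
      hU.isLocalization_stalk ⟨z, hzU⟩
    obtain ⟨⟨q, hq⟩, hq'⟩ := IsLocalization.exist_integer_multiples_of_finite
      (hU.primeIdealOf ⟨z, hzU⟩).asIdeal.primeCompl c
    choose b hb using hq'
    have hb' : ∀ i, X.presheaf.germ U z hzU (b i) = X.presheaf.germ U z hzU q * c i :=
      fun i => (hb i).trans (Algebra.smul_def q (c i))
    have h1 : algebraMap Γ(X, U) (X.presheaf.stalk z) (∑ i, b i * a i) = 0 := by
      change X.presheaf.germ U z hzU (∑ i, b i * a i) = 0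
      rw [map_sum]
      simp only [map_mul, hb', mul_assoc]
      rw [← Finset.mul_sum, hrel, mul_zero]
    obtain ⟨⟨v', hv'⟩, hv'0⟩ := (IsLocalization.map_eq_zero_iff
      (hU.primeIdealOf ⟨z, hzU⟩).asIdeal.primeCompl (X.presheaf.stalk z) _).mp h1
    have hker : (fun i => v' * b i) ∈ LinearMap.ker (Fintype.linearCombination Γ(X, U) a) := by
      rw [LinearMap.mem_ker, Fintype.linearCombination_apply]
      simp only [smul_eq_mul, mul_assoc]
      rw [← Finset.mul_sum]
      exact hv'0
    rw [← hr] at hker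
    obtain ⟨m, hm⟩ := (Submodule.mem_span_range_iff_exists_fun Γ(X, U)).mp hker
    have h2 : ∑ i, X.presheaf.germ U z hzU (v' * b i) • germM I D z hzD (res I (hDW i) (t i)) = 0 := by
      have hmi : ∀ i, v' * b i = ∑ j, m j * r j i := fun i => by
        rw [← congrFun hm i, Finset.sum_apply]
        simp [smul_eq_mul]
      simp only [hmi, map_sum, map_mul, Finset.sum_smul, mul_smul]
      rw [Finset.sum_comm]
      refine Finset.sum_eq_zero fun j _ => ?_
      rw [← Finset.smul_sum]
      have h3 : germM I D z hzD (∑ i, resO X hDU (r j i) • res I (hDW i) (t i)) = 0 := by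
        rw [hD0 j, germM_zero]
      have h4 : germM I D z hzD (∑ i, resO X hDU (r j i) • res I (hDW i) (t i)) =
          ∑ i, X.presheaf.germ U z hzU (r j i) • germM I D z hzD (res I (hDW i) (t i)) :=
        (map_sum (I.presheaf.germ D z hzD).hom _ _).trans
          (Finset.sum_congr rfl fun i _ => (germM_smul hzD _ _).trans
            (congrArg (· • _) (germ_resO hDU hzD _)))
      rw [← h4, h3, smul_zero]
    have hu : IsUnit (X.presheaf.germ U z hzU (v' * q)) := by
      rw [map_mul]
      exact (IsLocalization.map_units (X.presheaf.stalk z)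
        (⟨v', hv'⟩ : (hU.primeIdealOf ⟨z, hzU⟩).asIdeal.primeCompl)).mul
          (IsLocalization.map_units (X.presheaf.stalk z)
            (⟨q, hq⟩ : (hU.primeIdealOf ⟨z, hzU⟩).asIdeal.primeCompl))
    refine hu.smul_eq_zero.mp ?_
    rw [Finset.smul_sum]
    refine Eq.trans (Finset.sum_congr rfl fun i _ => ?_) h2
    rw [map_mul, map_mul, hb', smul_smul, mul_assoc]
  let ψ : E ⟶ I := Injective.factorThru (cokernel.desc (kernel.ι σ) θ hσθ)
    (Abelian.factorThruCoimage σ)
  have hψ : σ ≫ ψ = θ := by
    conv_lhs => rw [← Abelian.coimage.fac σ]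
    rw [Category.assoc, Injective.comp_factorThru, cokernel.π_desc]
  let e : I.presheaf.stalk x := stalkMapM ψ x (genAt D hxD)
  refine ⟨LinearMap.toSpanSingleton _ _ e, fun y hy => ?_⟩
  have key : ∀ y : X.presheaf.stalk x, y ∈ Ideal.span (Set.range fun i => X.presheaf.germ U x hxU (a i)) →
      ∀ hy : y ∈ 𝔞, y • e = φ ⟨y, hy⟩ := by
    intro y hy
    induction hy using Submodule.span_induction with
    | mem y hy =>
      obtain ⟨i, rfl⟩ := hy
      intro hy
      rw [← ht i, ← germM_res (hDW i) hxD (t i)]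
      have h := congr(biproduct.ι (fun _ : Fin k => E) i ≫ $hψ)
      rw [biproduct.ι_desc_assoc, biproduct.ι_desc] at h
      have h2 := congr(stalkMapM $h x (genAt D hxD))
      rw [stalkMapM_comp, stalkMapM_extHom_genAt, stalkMapM_extHom_genAt, germM_smul,
        germ_resO] at h2
      refine Eq.trans ?_ h2
      exact (LinearMap.map_smul (stalkLinear ψ x) _ _).symm
    | zero =>
      intro hy
      rw [zero_smul, show (⟨0, hy⟩ : 𝔞) = 0 from rfl, map_zero]
    | add y z hy' hz' ihy ihz =>
      intro h
      have hy : y ∈ 𝔞 := by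
        refine (Submodule.span_le.mpr ?_) hy'
        rintro _ ⟨i, rfl⟩; exact hmem i
      have hz : z ∈ 𝔞 := by
        refine (Submodule.span_le.mpr ?_) hz'
        rintro _ ⟨i, rfl⟩; exact hmem i
      rw [add_smul, ihy hy, ihz hz, ← map_add]
      rfl
    | smul c y hy' ihy =>
      intro h
      have hy : y ∈ 𝔞 := by
        refine (Submodule.span_le.mpr ?_) hy'
        rintro _ ⟨i, rfl⟩; exact hmem i
      rw [show (⟨c • y, h⟩ : 𝔞) = c • ⟨y, hy⟩ from rfl, map_smul, ← ihy hy, smul_eq_mul, mul_smul]
  exact key y (hspan hy) hy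

/-- Injective modules are flasque. -/
theorem restriction_surjective_of_injective (I : X.Modules) [Injective I] {U V : X.Opens}
    (h : U ≤ V) : Function.Surjective (res I h) := by
  intro s
  let m := extHom U (res (CxOX.extZeroUnit V.ι) h (extGen V))
  haveI : Mono m := by
    refine mono_of_injective_stalkMapM _ fun z => ?_
    by_cases hz : z ∈ U
    · refine (injective_iff_map_eq_zero (stalkLinear m z)).mpr fun e he => ?_
      obtain ⟨c, rfl⟩ := exists_smul_genAt U hz e
      rw [LinearMap.map_smul] at he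
      change c • stalkMapM m z (genAt U hz) = 0 at he
      rw [stalkMapM_extHom_genAt, germM_res] at he
      rw [smul_genAt_eq_zero V (h hz) he, zero_smul]
    · haveI := subsingleton_stalk_extZero U.ι (Coh.structureModule U.toScheme) (x := z)
        (by rwa [Scheme.Opens.range_ι])
      exact Function.injective_of_subsingleton _
  obtain ⟨ψ, hψ⟩ : ∃ ψ : CxOX.extZeroUnit V.ι ⟶ I, m ≫ ψ = extHom U s :=
    ⟨Injective.factorThru (extHom U s) m, Injective.comp_factorThru _ _⟩
  refine ⟨ψ.app V (extGen V), ?_⟩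
  have h2 := congr((Scheme.Modules.Hom.app $hψ U) (extGen U))
  rw [Scheme.Modules.Hom.comp_app, ConcreteCategory.comp_apply, extHom_app, extHom_app] at h2
  rw [← app_res]
  exact h2

end Groth.Agent.QC70
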