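import Groth.Agent.QC70.HomCoh
import Groth.Agent.QC70.StalkLoc

set_option autoImplicit false
set_option backward.isDefEq.respectTransparency.types false

/-! Stalks of `𝓗om` out of finitely presented modules. -/

noncomputable section

universe u

open CategoryTheory Limits AlgebraicGeometry TopologicalSpace Opposite

namespace Groth.Agent.QC70

variable {X : Scheme.{u}} {M N : X.Modules} {U V : X.Opens} {x : X}

/-- The map on the stalk at `x` of a local morphism, as a function. -/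
def HomOn.stalkFun (φ : HomOn M N U) (hx : x ∈ U) (e : M.presheaf.stalk x) : N.presheaf.stalk x :=
  (Scheme.Modules.restrictStalkNatIso U.ι (⟨x, hx⟩ : U)).hom.app N
    (stalkMapM φ.toRestrictHom (⟨x, hx⟩ : U)
      ((Scheme.Modules.restrictStalkNatIso U.ι (⟨x, hx⟩ : U)).inv.app M e))

lemma HomOn.stalkFun_germ (φ : HomOn M N U) (hx : x ∈ U) {W : X.Opens} (hW : W ≤ U) (hxW : x ∈ W)
    (s : Γ(M, W)) : φ.stalkFun hx (germM M W x hxW s) = germM N W x hxW (φ.app W hW s) :=
  stalkMapM_toRestrictHom φ hx hW hxW s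

lemma exists_germ_le (hx : x ∈ U) (e : M.presheaf.stalk x) :
    ∃ (W : X.Opens) (_ : W ≤ U) (hxW : x ∈ W) (s : Γ(M, W)), germM M W x hxW s = e := by
  obtain ⟨W, hxW, s, rfl⟩ := germM_exist e
  exact ⟨W ⊓ U, inf_le_right, ⟨hxW, hx⟩, res M inf_le_left s, germM_res _ _ s⟩

/-- The map on the stalk at `x` of a local morphism. -/
def HomOn.stalkMap (φ : HomOn M N U) (hx : x ∈ U) :
    M.presheaf.stalk x →ₗ[X.presheaf.stalk x] N.presheaf.stalk x where
  toFun := φ.stalkFun hx
  map_add' a b := by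
    obtain ⟨W, hW, hxW, s, rfl⟩ := exists_germ_le hx a
    obtain ⟨W', hW', hxW', t, rfl⟩ := exists_germ_le hx b
    rw [← germM_res (inf_le_left : W ⊓ W' ≤ W) ⟨hxW, hxW'⟩ s,
      ← germM_res (inf_le_right : W ⊓ W' ≤ W') ⟨hxW, hxW'⟩ t, ← germM_add,
      φ.stalkFun_germ hx (inf_le_left.trans hW), φ.stalkFun_germ hx (inf_le_left.trans hW),
      φ.stalkFun_germ hx (inf_le_left.trans hW), map_add, germM_add]
  map_smul' c a := by
    obtain ⟨W, hW, hxW, s, rfl⟩ := exists_germ_le hx a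
    obtain ⟨W', hxW', r, rfl⟩ := TopCat.Presheaf.exists_germ_eq X.presheaf c
    rw [RingHom.id_apply, ← germM_res (inf_le_left : W ⊓ W' ≤ W) ⟨hxW, hxW'⟩ s,
      ← germ_resO (inf_le_right : W ⊓ W' ≤ W') ⟨hxW, hxW'⟩ r, ← germM_smul,
      φ.stalkFun_germ hx (inf_le_left.trans hW), φ.stalkFun_germ hx (inf_le_left.trans hW),
      LinearMap.map_smul, germM_smul]

lemma HomOn.stalkMap_germ (φ : HomOn M N U) (hx : x ∈ U) {W : X.Opens} (hW : W ≤ U) (hxW : x ∈ W)
    (s : Γ(M, W)) : φ.stalkMap hx (germM M W x hxW s) = germM N W x hxW (φ.app W hW s) :=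
  φ.stalkFun_germ hx hW hxW s

lemma HomOn.stalkMap_mono (φ : HomOn M N U) (h : V ≤ U) (hx : x ∈ V) :
    (φ.mono h).stalkMap hx = φ.stalkMap (h hx) := LinearMap.ext fun e => by
  obtain ⟨W, hW, hxW, s, rfl⟩ := exists_germ_le hx e
  rw [HomOn.stalkMap_germ _ hx hW, φ.stalkMap_germ (h hx) (hW.trans h)]
  rfl

lemma HomOn.stalkMap_zero (hx : x ∈ U) : (0 : HomOn M N U).stalkMap hx = 0 :=
  LinearMap.ext fun e => by
    obtain ⟨W, hW, hxW, s, rfl⟩ := exists_germ_le hx e
    rw [HomOn.stalkMap_germ _ hx hW, LinearMap.zero_apply, HomOn.zero_app, LinearMap.zero_apply,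
      germM_zero]

lemma HomOn.stalkMap_add (φ ψ : HomOn M N U) (hx : x ∈ U) :
    (φ + ψ).stalkMap hx = φ.stalkMap hx + ψ.stalkMap hx :=
  LinearMap.ext fun e => by
    obtain ⟨W, hW, hxW, s, rfl⟩ := exists_germ_le hx e
    rw [LinearMap.add_apply, HomOn.stalkMap_germ _ hx hW, φ.stalkMap_germ hx hW,
      ψ.stalkMap_germ hx hW, HomOn.add_app, LinearMap.add_apply, germM_add]

/-- Evaluation at a point, as a cocone. -/
def evalCocone (M N : X.Modules) (x : X) :
    Cocone ((OpenNhds.inclusion x).op ⋙ (homMod M N).presheaf) where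
  pt := AddCommGrpCat.of (M.presheaf.stalk x →ₗ[X.presheaf.stalk x] N.presheaf.stalk x)
  ι :=
    { app := fun V => AddCommGrpCat.ofHom
        { toFun := fun φ => (ofSec (φ : Γ(homMod M N, V.unop.1))).stalkMap V.unop.2
          map_zero' := HomOn.stalkMap_zero V.unop.2
          map_add' := fun φ ψ => HomOn.stalkMap_add (ofSec φ) (ofSec ψ) V.unop.2 }
      naturality := fun V W i => by
        ext φ
        exact HomOn.stalkMap_mono (ofSec φ) (show W.unop.1 ≤ V.unop.1 from i.unop.le) W.unop.2 }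

/-- Evaluation `𝓗om(M, N)_x → Hom(M_x, N_x)`. -/
def evalAdd (M N : X.Modules) (x : X) :
    (homMod M N).presheaf.stalk x ⟶
      AddCommGrpCat.of (M.presheaf.stalk x →ₗ[X.presheaf.stalk x] N.presheaf.stalk x) :=
  colimit.desc _ (evalCocone M N x)

lemma evalAdd_germ (hx : x ∈ U) (φ : Γ(homMod M N, U)) :
    (evalAdd M N x).hom (germM (homMod M N) U x hx φ) = (ofSec φ).stalkMap hx := by
  change ((homMod M N).presheaf.germ U x hx ≫ evalAdd M N x).hom φ = _
  have e : (homMod M N).presheaf.germ U x hx ≫ evalAdd M N x =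
      (evalCocone M N x).ι.app (op ⟨U, hx⟩) :=
    colimit.ι_desc _ _
  rw [e]
  rfl

/-- Evaluation `𝓗om(M, N)_x → Hom(M_x, N_x)`, linear. -/
def evalStalk (M N : X.Modules) (x : X) : (homMod M N).presheaf.stalk x →ₗ[X.presheaf.stalk x]
    (M.presheaf.stalk x →ₗ[X.presheaf.stalk x] N.presheaf.stalk x) where
  toFun := (evalAdd M N x).hom
  map_add' := map_add _
  map_smul' c θ := by
    obtain ⟨U, hxU, φ, rfl⟩ := germM_exist θ
    obtain ⟨U', hxU', r, rfl⟩ := TopCat.Presheaf.exists_germ_eq X.presheaf c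
    rw [RingHom.id_apply, ← germM_res (inf_le_left : U ⊓ U' ≤ U) ⟨hxU, hxU'⟩ φ,
      ← germ_resO (inf_le_right : U ⊓ U' ≤ U') ⟨hxU, hxU'⟩ r, ← germM_smul, evalAdd_germ,
      evalAdd_germ]
    refine LinearMap.ext fun e => ?_
    obtain ⟨W, hW, hxW, s, rfl⟩ := exists_germ_le (U := U ⊓ U') ⟨hxU, hxU'⟩ e
    rw [LinearMap.smul_apply, HomOn.stalkMap_germ _ _ hW, HomOn.stalkMap_germ _ _ hW,
      ← germ_resO hW hxW, ← germM_smul]
    rfl

lemma evalStalk_germ (hx : x ∈ U) (φ : Γ(homMod M N, U)) :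
    evalStalk M N x (germM (homMod M N) U x hx φ) = (ofSec φ).stalkMap hx :=
  evalAdd_germ hx φ

theorem bijective_evalStalk [M.IsQuasicoherent] (hU : IsAffineOpen U) (hx : x ∈ U)
    (hN : IsLocAt N U) [Module.FinitePresentation Γ(X, U) Γ(M, U)] :
    Function.Bijective (evalStalk M N x) := by
  have hM := isLocAt_of_isQuasicoherent M hU
  have hH := isLocAt_homMod (M := M) hN hU
  have hext : ∀ f g : M.presheaf.stalk x →ₗ[X.presheaf.stalk x] N.presheaf.stalk x,
      (∀ m, f (germM M U x hx m) = g (germM M U x hx m)) → f = g := fun f g h =>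
    LinearMap.ext fun e => by
      obtain ⟨a, t, hxa, ht⟩ := stalk_exists_smul hM hU hx e
      refine (isUnit_germ hxa).smul_left_cancel.mp ?_
      rw [← LinearMap.map_smul, ← LinearMap.map_smul, ht, h]
  constructor
  · refine (injective_iff_map_eq_zero _).mpr fun θ hθ => ?_
    obtain ⟨a, φ, hxa, hφ⟩ := stalk_exists_smul hH hU hx θ
    have h0 : (ofSec φ).stalkMap hx = 0 := by
      rw [← evalStalk_germ, ← hφ, map_smul, hθ, smul_zero]
    have h1 : ∀ m : Γ(M, U), ∃ b : Γ(X, U), x ∈ X.basicOpen b ∧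
        b • (ofSec φ).app U le_rfl m = 0 := fun m => by
      refine stalk_exists_smul_eq_zero hN hU hx _ ?_
      rw [← (ofSec φ).stalkMap_germ hx le_rfl hx m, h0]
      rfl
    choose b hb hb0 using h1
    obtain ⟨S, hS⟩ := Module.Finite.fg_top (R := Γ(X, U)) (M := Γ(M, U))
    have hc : (∏ m ∈ S, b m) • φ = 0 := (homSecEquiv hU).injective (by
      rw [map_smul, map_zero]
      refine LinearMap.ext_on hS fun m hm => ?_
      classical
      change (∏ m ∈ S, b m) • (ofSec φ).app U le_rfl m = 0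
      rw [← Finset.prod_erase_mul S b (Finset.mem_coe.mp hm), mul_smul, hb0, smul_zero])
    have hu : IsUnit (X.presheaf.germ U x hx (∏ m ∈ S, b m)) := by
      rw [map_prod]
      exact IsUnit.prod_iff.mpr fun m _ => isUnit_germ (hb m)
    have e := congrArg (germM (homMod M N) U x hx) hc
    rw [germM_smul, germM_zero, hu.smul_eq_zero, ← hφ, (isUnit_germ hxa).smul_eq_zero] at e
    exact e
  · intro ψ
    obtain ⟨s, h, hxs, hh⟩ := exists_lift_stalk hU hx hN ψ
    obtain ⟨v, hv⟩ := isUnit_germ hxs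
    refine ⟨(↑v⁻¹ : X.presheaf.stalk x) • germM (homMod M N) U x hx (HomOn.ofLinear hU h).toSec,
      hext _ _ fun m => ?_⟩
    rw [map_smul, evalStalk_germ, LinearMap.smul_apply, HomOn.stalkMap_germ _ hx le_rfl,
      HomOn.ofLinear_app_self, hh, ← hv, smul_smul, Units.inv_mul, one_smul]

/-- `𝓗om(M, N)_x ≅ Hom(M_x, N_x)` for finitely presented `M`. -/
def evalStalkEquiv [M.IsQuasicoherent] (hU : IsAffineOpen U) (hx : x ∈ U)
    (hN : IsLocAt N U) [Module.FinitePresentation Γ(X, U) Γ(M, U)] :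
    (homMod M N).presheaf.stalk x ≃ₗ[X.presheaf.stalk x]
      (M.presheaf.stalk x →ₗ[X.presheaf.stalk x] N.presheaf.stalk x) :=
  LinearEquiv.ofBijective _ (bijective_evalStalk hU hx hN)

end Groth.Agent.QC70

namespace Groth.Agent.QC70

variable {X : Scheme.{u}}

/-- For coherent modules on a locally Noetherian scheme, the stalks are finite and
`𝓗om(M, N)_x ≅ Hom(M_x, N_x)`. -/
theorem exists_homStalk_coh [IsLocallyNoetherian X] {M N : X.Modules} (hM : Coh.IsCoh M)
    (hN : Coh.IsCoh N) (x : X) :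
    IsNoetherianRing (X.presheaf.stalk x) ∧
    Module.Finite (X.presheaf.stalk x) (M.presheaf.stalk x) ∧
    Module.Finite (X.presheaf.stalk x) (N.presheaf.stalk x) ∧
    Nonempty ((homMod M N).presheaf.stalk x ≃ₗ[X.presheaf.stalk x]
      (M.presheaf.stalk x →ₗ[X.presheaf.stalk x] N.presheaf.stalk x)) := by
  have : M.IsQuasicoherent := hM.1
  have : M.IsFiniteType := hM.2
  have : N.IsQuasicoherent := hN.1
  have : N.IsFiniteType := hN.2
  obtain ⟨_, ⟨U, hU, rfl⟩, hxU, -⟩ :=
    X.isBasis_affineOpens.exists_subset_of_mem_open (Set.mem_univ x) isOpen_univ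
  have := IsLocallyNoetherian.component_noetherian (⟨U, hU⟩ : X.affineOpens)
  have := finite_sections_of_isFiniteType M hU
  have := finite_sections_of_isFiniteType N hU
  have : Module.FinitePresentation Γ(X, U) Γ(M, U) := Module.finitePresentation_of_finite _ _
  letI algx : Algebra Γ(X, U) (X.presheaf.stalk x) := (X.presheaf.germ U x hxU).hom.toAlgebra
  haveI : IsLocalization.AtPrime (X.presheaf.stalk x) (hU.primeIdealOf ⟨x, hxU⟩).asIdeal :=
    hU.isLocalization_stalk ⟨x, hxU⟩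
  have hfin : ∀ (G : X.Modules) [G.IsQuasicoherent] [Module.Finite Γ(X, U) Γ(G, U)],
      Module.Finite (X.presheaf.stalk x) (G.presheaf.stalk x) := fun G _ _ => by
    letI := stalkModule G hxU
    haveI : IsScalarTower Γ(X, U) (X.presheaf.stalk x) (G.presheaf.stalk x) :=
      IsScalarTower.of_algebraMap_smul fun _ _ => rfl
    haveI := isLocalizedModule_germ (isLocAt_of_isQuasicoherent G hU) hU hxU
    exact Module.Finite.of_isLocalizedModule (hU.primeIdealOf ⟨x, hxU⟩).asIdeal.primeCompl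
      (germLinear G hxU)
  exact ⟨IsLocalization.isNoetherianRing (hU.primeIdealOf ⟨x, hxU⟩).asIdeal.primeCompl _ inferInstance,
    hfin M, hfin N, ⟨evalStalkEquiv hU hxU (isLocAt_of_isQuasicoherent N hU)⟩⟩

end Groth.Agent.QC70
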