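import Groth.Agent.QC70.Sky
import Groth.Agent.InjHull18.Basic
import Groth.Agent.InjHull18.Torsion
import Groth.Prelude.Def_Coh

set_option autoImplicit false
set_option backward.isDefEq.respectTransparency.types false

/-! Direct images from the spectrum of a local ring of modules torsion at the closed point. -/

noncomputable section

universe u

open CategoryTheory Limits AlgebraicGeometry TopologicalSpace Opposite

namespace Groth.Agent.QC70

variable {X : Scheme.{u}} (x : X)

/-- A tilde of a module torsion at the closed point of a local ring is a skyscraper. -/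
theorem isSky_tilde_local {R : CommRingCat.{u}} [IsLocalRing R] (T : ModuleCat.{u} R)
    (htors : ∀ r ∈ IsLocalRing.maximalIdeal R, ∀ t : T, ∃ n : ℕ, r ^ n • t = 0) :
    IsSky (tilde T) (IsLocalRing.closedPoint R) := by
  have hsmul : ∀ (a : Γ(Spec R, ⊤)) (e : T),
      a • toTop T e = toTop T ((Scheme.ΓSpecIso R).hom a • e) := fun a e => by
    rw [toTop_smul, resO_self, Iso.hom_inv_id_apply]
  have hmem : ∀ a : Γ(Spec R, ⊤), IsLocalRing.closedPoint R ∈ (Spec R).basicOpen a ↔
      IsUnit ((Scheme.ΓSpecIso R).hom a) := fun a => by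
    rw [basicOpen_eq_of_affine']
    exact IsLocalRing.notMem_maximalIdeal
  have hsurj : Function.Surjective (toTop T) :=
    (ConcreteCategory.bijective_of_isIso (tilde.toOpen T ⊤)).2
  refine isSky_of_isLocAt (isAffineOpen_top _) (isLocAt_of_isQuasicoherent _ (isAffineOpen_top _))
    _ (fun a ha t => ?_) (fun a ha => ?_)
  · obtain ⟨e, rfl⟩ := hsurj t
    obtain ⟨n, hn⟩ := htors _ ((IsLocalRing.mem_maximalIdeal _).mpr fun h => ha ((hmem a).mpr h)) e
    exact ⟨n, by rw [hsmul, map_pow, hn, map_zero]⟩
  · obtain ⟨v, hv⟩ := (hmem a).mp ha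
    have hb : Function.Bijective fun e : T => (v : R) • e := MulAction.bijective v
    refine ⟨fun s t h => ?_, fun t => ?_⟩
    · obtain ⟨s, rfl⟩ := hsurj s
      obtain ⟨t, rfl⟩ := hsurj t
      simp only [hsmul, ← hv] at h
      exact congrArg _ (hb.1 (show (v : R) • s = (v : R) • t from toTop_injective T h))
    · obtain ⟨t, rfl⟩ := hsurj t
      obtain ⟨s, hs⟩ := hb.2 t
      refine ⟨toTop T s, ?_⟩
      change a • toTop T s = toTop T t
      rw [hsmul, ← hv]
      exact congrArg _ (show (v : R) • s = t from hs)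

variable (E : Type u) [AddCommGroup E] [Module (X.presheaf.stalk x) E]

/-- The module on the point `x` with sections `E`. -/
abbrev skyMod : X.Modules :=
  (Scheme.Modules.pushforward (X.fromSpecStalk x)).obj
    (tilde (ModuleCat.of (X.presheaf.stalk x) E))

theorem isSky_skyMod
    (htors : ∀ r ∈ IsLocalRing.maximalIdeal (X.presheaf.stalk x), ∀ t : E, ∃ n : ℕ, r ^ n • t = 0) :
    IsSky (skyMod x E) x := by
  have h := (isSky_tilde_local (ModuleCat.of (X.presheaf.stalk x) E) htors).pushforward
    (X.fromSpecStalk x)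
  rwa [Scheme.fromSpecStalk_closedPoint] at h

/-- The elements of `E` in the stalk. -/
def skyStalkMap : E →ₗ[X.presheaf.stalk x] (skyMod x E).presheaf.stalk x where
  toFun e := germM (skyMod x E) ⊤ x trivial (toTop (ModuleCat.of (X.presheaf.stalk x) E) e)
  map_add' a b := by
    rw [map_add]
    exact germM_add _ _ _
  map_smul' r e := by
    rw [RingHom.id_apply]
    obtain ⟨U, hxU, a, rfl⟩ := TopCat.Presheaf.exists_germ_eq X.presheaf r
    rw [← germM_res (le_top : U ≤ ⊤) hxU, ← germM_res (le_top : U ≤ ⊤) hxU, ← germM_smul]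
    refine congrArg (germM (skyMod x E) U x hxU) ?_
    rw [QCqs72.pushforward_smul, QCqs72.pushforward_res, QCqs72.pushforward_res,
      Scheme.fromSpecStalk_app hxU, toTop_smul]
    refine Eq.trans (res_smul _ _ _) ?_
    exact congrArg (· • _) (resO_resO _ _ _)

theorem bijective_skyStalkMap
    (htors : ∀ r ∈ IsLocalRing.maximalIdeal (X.presheaf.stalk x), ∀ t : E, ∃ n : ℕ, r ^ n • t = 0) :
    Function.Bijective (skyStalkMap x E) :=
  ((isSky_skyMod x E htors).bijective_germ (W := ⊤) trivial).comp
    (ConcreteCategory.bijective_of_isIso (tilde.toOpen (ModuleCat.of (X.presheaf.stalk x) E) ⊤))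

theorem injective_skyMod (hinj : Module.Injective (X.presheaf.stalk x) E)
    (htors : ∀ r ∈ IsLocalRing.maximalIdeal (X.presheaf.stalk x), ∀ t : E, ∃ n : ℕ, r ^ n • t = 0) :
    Injective (skyMod x E) :=
  (isSky_skyMod x E htors).injective (InjHull18.injective_of_equiv hinj
    (LinearEquiv.ofBijective (skyStalkMap x E) (bijective_skyStalkMap x E htors)).symm)

theorem isQuasicoherent_skyMod [IsLocallyNoetherian X] : (skyMod x E).IsQuasicoherent :=
  QCqs72.isQuasicoherent_pushforward (M := tilde (ModuleCat.of (X.presheaf.stalk x) E))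
    (X.fromSpecStalk x)

theorem torsion_of_hull [IsNoetherianRing (X.presheaf.stalk x)]
    {i : IsLocalRing.ResidueField (X.presheaf.stalk x) →ₗ[X.presheaf.stalk x] E}
    (hi : InjHull.IsInjectiveHull i) :
    ∀ r ∈ IsLocalRing.maximalIdeal (X.presheaf.stalk x), ∀ t : E, ∃ n : ℕ, r ^ n • t = 0 := by
  intro r hr t
  have h := InjHull18.hull_isPowerTorsion (J := IsLocalRing.maximalIdeal (X.presheaf.stalk x)) hi
    (fun m => ⟨1, fun a ha => by
      rw [pow_one] at ha
      obtain ⟨y, rfl⟩ := IsLocalRing.residue_surjective m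
      exact (Submodule.Quotient.mk_smul _ a y).symm.trans
        ((Submodule.Quotient.mk_eq_zero _).mpr (Ideal.mul_mem_right y _ ha))⟩)
  obtain ⟨n, hn⟩ := h t
  exact ⟨n, hn _ (Ideal.pow_mem_pow hr n)⟩

end Groth.Agent.QC70
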