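import Groth.Agent.QC70.InjCoprod
import Groth.Agent.QC70.SkyStalk
import Groth.Agent.QC70.StalkLoc
import Groth.Agent.QC70.Colim
import Groth.Agent.InjHull18.Indec
import Mathlib.Algebra.Category.ModuleCat.Products
import Mathlib.RingTheory.LocalProperties.Injective

set_option autoImplicit false
set_option backward.isDefEq.respectTransparency.types false

/-! Quasi-coherent injective modules on locally Noetherian schemes. -/

noncomputable section

universe u

open CategoryTheory Limits AlgebraicGeometry TopologicalSpace Opposite DirectSum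

namespace Groth.Agent.QC70

variable {X : Scheme.{u}}

/-- The stalks of a localizing module with injective sections are injective. -/
theorem injective_stalk_of_sections {M : X.Modules} {U : X.Opens} (hU : IsAffineOpen U)
    [IsNoetherianRing Γ(X, U)] (hM : IsLocAt M U) (hinj : Module.Injective Γ(X, U) Γ(M, U))
    {x : X} (hx : x ∈ U) : Module.Injective (X.presheaf.stalk x) (M.presheaf.stalk x) := by
  letI algx : Algebra Γ(X, U) (X.presheaf.stalk x) := (X.presheaf.germ U x hx).hom.toAlgebra
  haveI : IsLocalization.AtPrime (X.presheaf.stalk x) (hU.primeIdealOf ⟨x, hx⟩).asIdeal :=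
    hU.isLocalization_stalk ⟨x, hx⟩
  letI := stalkModule M hx
  haveI : IsScalarTower Γ(X, U) (X.presheaf.stalk x) (M.presheaf.stalk x) :=
    IsScalarTower.of_algebraMap_smul fun _ _ => rfl
  haveI := isLocalizedModule_germ hM hU hx
  exact Module.injective_of_isLocalizedModule (hU.primeIdealOf ⟨x, hx⟩).asIdeal.primeCompl
    (germLinear M hx)

/-- The sections of a localizing module with injective stalks are injective. -/
theorem injective_sections_of_stalks {M : X.Modules} {U : X.Opens} (hU : IsAffineOpen U)
    [IsNoetherianRing Γ(X, U)] (hM : IsLocAt M U)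
    (hinj : ∀ x ∈ U, Module.Injective (X.presheaf.stalk x) (M.presheaf.stalk x)) :
    Module.Injective Γ(X, U) Γ(M, U) := by
  let pt : ∀ (P : Ideal Γ(X, U)) [P.IsMaximal], U := fun P hP =>
    ⟨hU.fromSpec ⟨P, hP.isPrime⟩, (Set.ext_iff.mp hU.range_fromSpec _).mp ⟨_, rfl⟩⟩
  have hpt : ∀ (P : Ideal Γ(X, U)) [P.IsMaximal], (hU.primeIdealOf (pt P)).asIdeal = P :=
    fun P hP => by
      have : hU.primeIdealOf (pt P) = ⟨P, hP.isPrime⟩ :=
        hU.fromSpec.isOpenEmbedding.injective (hU.fromSpec_primeIdealOf (pt P))
      rw [this]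
  let alg : ∀ (P : Ideal Γ(X, U)) [P.IsMaximal], Algebra Γ(X, U) (X.presheaf.stalk (pt P).1) :=
    fun P _ => (X.presheaf.germ U (pt P).1 (pt P).2).hom.toAlgebra
  have hloc : ∀ (P : Ideal Γ(X, U)) [P.IsMaximal],
      letI := alg P
      IsLocalization.AtPrime (X.presheaf.stalk (pt P).1) P := fun P _ => by
    have key : ∀ (Q : Ideal Γ(X, U)) [Q.IsPrime], (hU.primeIdealOf (pt P)).asIdeal = Q →
        letI := alg P
        IsLocalization.AtPrime (X.presheaf.stalk (pt P).1) Q := by
      rintro Q _ rfl
      exact hU.isLocalization_stalk (pt P)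
    exact key P (hpt P)
  have hlocM : ∀ (P : Ideal Γ(X, U)) [P.IsMaximal],
      letI := stalkModule M (pt P).2
      IsLocalizedModule P.primeCompl (germLinear M (pt P).2) := fun P _ => by
    have key : ∀ (Q : Ideal Γ(X, U)) [Q.IsPrime], (hU.primeIdealOf (pt P)).asIdeal = Q →
        letI := stalkModule M (pt P).2
        IsLocalizedModule Q.primeCompl (germLinear M (pt P).2) := by
      rintro Q _ rfl
      exact isLocalizedModule_germ hM hU (pt P).2
    exact key P (hpt P)
  exact @Module.injective_of_localization_maximal' _ _ _ _ _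
    (fun P _ => X.presheaf.stalk (pt P).1) (fun P _ => inferInstance) (fun P _ => inferInstance)
    (fun P _ => alg P) (fun P _ => hloc P)
    (fun P _ => M.presheaf.stalk (pt P).1) (fun P _ => inferInstance)
    (fun P _ => stalkModule M (pt P).2) (fun P _ => inferInstance)
    (fun P _ => @IsScalarTower.of_algebraMap_smul Γ(X, U) (X.presheaf.stalk (pt P).1)
      (M.presheaf.stalk (pt P).1) _ _ (alg P) _ (stalkModule M (pt P).2).toMulAction.toSemigroupAction.toSMul
      fun _ _ => rfl)
    (fun P _ => germLinear M (pt P).2) (fun P _ => hlocM P) inferInstance inferInstance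
    fun P _ => hinj _ (pt P).2

attribute [local instance] RingHomInvPair.of_ringEquiv in
/-- The tilde of the hull of a prime is a skyscraper. -/
theorem isSky_tilde_hull {R : CommRingCat.{u}} [IsNoetherianRing R] (p : PrimeSpectrum R)
    {T : ModuleCat.{u} R} {f : (R ⧸ p.asIdeal) →ₗ[R] T} (hf : InjHull.IsInjectiveHull f) :
    IsSky (tilde T) (p : Spec R) := by
  haveI := p.2
  have hsmul : ∀ (a : Γ(Spec R, ⊤)) (e : T),
      a • toTop T e = toTop T ((Scheme.ΓSpecIso R).hom a • e) := fun a e => by
    rw [toTop_smul, resO_self, Iso.hom_inv_id_apply]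
  have hmem : ∀ a : Γ(Spec R, ⊤), (p : Spec R) ∈ (Spec R).basicOpen a ↔
      (Scheme.ΓSpecIso R).hom a ∉ p.asIdeal := fun a => by
    rw [basicOpen_eq_of_affine']
    rfl
  have hbij : Function.Bijective (toTop T) :=
    ConcreteCategory.bijective_of_isIso (tilde.toOpen T ⊤)
  refine isSky_of_isLocAt (isAffineOpen_top _) (isLocAt_of_isQuasicoherent _ (isAffineOpen_top _))
    _ (fun a ha t => ?_) (fun a ha => ?_)
  · obtain ⟨e, rfl⟩ := hbij.2 t
    have hp : (Scheme.ΓSpecIso R).hom a ∈ p.asIdeal := not_not.mp fun h => ha ((hmem a).mpr h)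
    have h := InjHull18.hull_isPowerTorsion (J := p.asIdeal) hf (fun m => ⟨1, fun b hb => by
      rw [pow_one] at hb
      obtain ⟨y, rfl⟩ := Ideal.Quotient.mk_surjective m
      exact (Submodule.Quotient.mk_smul _ b y).symm.trans
        ((Submodule.Quotient.mk_eq_zero _).mpr (Ideal.mul_mem_right y _ hb))⟩)
    obtain ⟨n, hn⟩ := h e
    exact ⟨n, by rw [hsmul, map_pow, hn _ (Ideal.pow_mem_pow hp n), map_zero]⟩
  · have hb := InjHull18.smul_bijective_of_notMem hf ((hmem a).mp ha)
    have : (fun t : Γ(tilde T, ⊤) => a • t) ∘ toTop T =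
        toTop T ∘ fun e : T => (Scheme.ΓSpecIso R).hom a • e := funext fun e => hsmul a e
    exact (Function.Bijective.of_comp_iff _ hbij).mp (this ▸ hbij.comp hb)

attribute [local instance] RingHomInvPair.of_ringEquiv in
theorem injective_top_tilde {R : CommRingCat.{u}} (T : ModuleCat.{u} R) [Module.Injective R T] :
    Module.Injective Γ(Spec R, ⊤) Γ(tilde T, ⊤) :=
  Module.Injective.of_ringEquiv (M := T) (Scheme.ΓSpecIso R).symm.commRingCatIsoToRingEquiv
    { toFun := toTop T
      map_add' := map_add _
      map_smul' := fun r e => by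
        rw [toTop_smul, resO_self]
        rfl
      invFun := Function.surjInv
        (ConcreteCategory.bijective_of_isIso (tilde.toOpen T ⊤)).2
      left_inv := Function.leftInverse_surjInv
        (ConcreteCategory.bijective_of_isIso (tilde.toOpen T ⊤))
      right_inv := Function.rightInverse_surjInv
        (ConcreteCategory.bijective_of_isIso (tilde.toOpen T ⊤)).2 }

/-- The tilde of an indecomposable injective is injective. -/
theorem injective_tilde_indecomposable {R : CommRingCat.{u}} [IsNoetherianRing R]
    (T : ModuleCat.{u} R) (hT : InjHull.IsIndecomposable R T) (hinj : Module.Injective R T) :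
    Injective (tilde T) := by
  obtain ⟨p, hp, φ, hφ⟩ := InjHull18.exists_hull_of_indecomposable hT hinj
  haveI := hinj
  refine (isSky_tilde_hull ⟨p, hp⟩ hφ).injective ?_
  haveI : IsNoetherianRing Γ(Spec R, ⊤) :=
    isNoetherianRing_of_ringEquiv R (Scheme.ΓSpecIso R).symm.commRingCatIsoToRingEquiv
  exact injective_stalk_of_sections (isAffineOpen_top _)
    (isLocAt_of_isQuasicoherent _ (isAffineOpen_top _)) (injective_top_tilde T) trivial

/-- The tilde of an injective module over a Noetherian ring is injective. -/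
theorem injective_tilde {R : CommRingCat.{u}} [IsNoetherianRing R] (T : ModuleCat.{u} R)
    (hinj : Module.Injective R T) : Injective (tilde T) := by
  classical
  obtain ⟨ι, E, hE, hE'⟩ := InjHull18.exists_isInternal_indecomposable hinj
  let Z : ι → ModuleCat.{u} R := fun i => ModuleCat.of R (E i)
  have : PreservesColimitsOfShape (Discrete ι) (tilde.functor R) :=
    (tilde.adjunction (R := R)).leftAdjoint_preservesColimits.preservesColimitsOfShape
  let e : tilde T ≅ ∐ fun i => (tilde.functor R).obj (Z i) :=
    (tilde.functor R).mapIso ((LinearEquiv.ofBijective (DirectSum.coeLinearMap E) hE).symm.toModuleIso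
      ≪≫ (ModuleCat.coprodIsoDirectSum Z).symm) ≪≫ PreservesCoproduct.iso (tilde.functor R) Z
  haveI := injective_coproduct (fun i => (tilde.functor R).obj (Z i))
    fun i => injective_tilde_indecomposable (Z i) (hE' i).1 (hE' i).2
  exact Injective.of_iso e.symm inferInstance

/-- Restriction along an isomorphism. -/
def restrictEquiv {X Y : Scheme.{u}} (e : X ≅ Y) : Y.Modules ≌ X.Modules :=
  CategoryTheory.Equivalence.mk (Scheme.Modules.restrictFunctor e.hom)
    (Scheme.Modules.restrictFunctor e.inv)
    ((Scheme.Modules.restrictFunctorId (X := Y)).symm ≪≫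
      Scheme.Modules.restrictFunctorCongr e.inv_hom_id.symm ≪≫
      Scheme.Modules.restrictFunctorComp e.inv e.hom)
    ((Scheme.Modules.restrictFunctorComp e.hom e.inv).symm ≪≫
      Scheme.Modules.restrictFunctorCongr e.hom_inv_id ≪≫
      Scheme.Modules.restrictFunctorId (X := X))

attribute [local instance] RingHomInvPair.of_ringEquiv in
/-- A quasi-coherent module with injective stalks on a locally Noetherian scheme is injective. -/
theorem injective_of_stalks [IsLocallyNoetherian X] (F : X.Modules) [F.IsQuasicoherent]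
    (hinj : ∀ x : X, Module.Injective (X.presheaf.stalk x) (F.presheaf.stalk x)) :
    Injective F := by
  refine injective_of_locally_injective F fun x => ?_
  obtain ⟨_, ⟨U, hU, rfl⟩, hxU, -⟩ :=
    X.isBasis_affineOpens.exists_subset_of_mem_open (Set.mem_univ x) isOpen_univ
  refine ⟨U, hxU, ?_⟩
  haveI := IsLocallyNoetherian.component_noetherian (⟨U, hU⟩ : X.affineOpens)
  have hΓ : Module.Injective Γ(X, U) Γ(F, U) :=
    injective_sections_of_stalks hU (isLocAt_of_isQuasicoherent F hU) fun y _ => hinj y
  have himTop : hU.fromSpec ''ᵁ ⊤ = U := by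
    rw [Scheme.Hom.image_top_eq_opensRange, hU.opensRange_fromSpec]
  let eT : Γ(specRes F hU, ⊤) ≃+ Γ(F, U) :=
    (F.restrictAppIso hU.fromSpec ⊤ ≪≫
      F.presheaf.mapIso (eqToIso himTop.symm).op).addCommGroupIsoToAddEquiv
  have eT_smul : ∀ (r : Γ(X, U)) y, eT (r • y) = r • eT y := fun r y => by
    change res F himTop.ge ((F.restrictAppIso hU.fromSpec ⊤).hom (r • y)) =
      r • res F himTop.ge ((F.restrictAppIso hU.fromSpec ⊤).hom y)
    rw [specRes_smul F hU ⊤ himTop.le, res_smul, resO_resO, resO_self]
  let eL : Γ(F, U) ≃ₗ[Γ(X, U)] (moduleSpecΓFunctor.obj (specRes F hU) : ModuleCat Γ(X, U)) :=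
    (LinearEquiv.symm { eT with map_smul' := eT_smul })
  haveI : Injective (specRes F hU) :=
    Injective.of_iso (tildeIsoSpecRes F hU)
      (injective_tilde _ (InjHull18.injective_of_equiv hΓ eL.symm))
  have h1 : Injective ((restrictEquiv hU.isoSpec).functor.obj (specRes F hU)) :=
    ((restrictEquiv hU.isoSpec).map_injective_iff _).mpr inferInstance
  exact Injective.of_iso (((Scheme.Modules.restrictFunctorComp hU.isoSpec.hom hU.fromSpec).app F).symm
    ≪≫ (Scheme.Modules.restrictFunctorCongr (hU.isoSpec_hom_fromSpec)).app F) h1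

end Groth.Agent.QC70
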