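import Groth.Agent.QC70.HomCoh
import Groth.Agent.QC70.Ideal
import Groth.Agent.QC70.DevissageAux
import Groth.Agent.QC70.InjStalk
import Groth.Agent.QC70.InjQcoh
import Groth.Agent.RD97.LES

set_option autoImplicit false
set_option backward.isDefEq.respectTransparency.types false

/-! Vanishing of `Ext¹` sheaves out of coherent modules forces injectivity. -/

noncomputable section

universe u

open CategoryTheory Limits AlgebraicGeometry TopologicalSpace Opposite

namespace Groth.Agent.QC70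

/-- A left exact functor with vanishing first derived functor on the sub-object preserves the
surjection. -/
theorem epi_map_of_isZero_rightDerived_one {C D : Type*} [Category C] [Category D] [Abelian C]
    [Abelian D] [HasInjectiveResolutions C] (T : C ⥤ D) [T.Additive] [PreservesFiniteLimits T]
    {S : ShortComplex C} (hS : S.ShortExact) (h : IsZero ((T.rightDerived 1).obj S.X₁)) :
    Epi (T.map S.g) := by
  obtain ⟨Δ⟩ := RD97.nonempty_derivedLES T
  have h3 := Δ.exact₃ S hS 0 1 rfl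
  haveI : Epi ((T.rightDerived 0).map S.g) := h3.epi_f (h.eq_of_tgt _ _)
  have e := T.rightDerivedZeroIsoSelf.hom.naturality S.g
  haveI : Epi ((T.rightDerived 0).map S.g ≫ T.rightDerivedZeroIsoSelf.hom.app S.X₃) := epi_comp _ _
  rw [e] at this
  exact epi_of_epi (T.rightDerivedZeroIsoSelf.hom.app S.X₂) _

variable {X : Scheme.{u}}

/-- Every ideal of the functions on an affine open comes from an ideal sheaf on a quasi-separated
scheme. -/
theorem exists_idealSheafData_ideal_eq [QuasiSeparatedSpace X] (U : X.affineOpens)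
    (J : Ideal Γ(X, U.1)) : ∃ I : X.IdealSheafData, I.ideal U = J := by
  let f : Spec (CommRingCat.of (Γ(X, U.1) ⧸ J)) ⟶ X :=
    Spec.map (CommRingCat.ofHom (Ideal.Quotient.mk J)) ≫ U.2.fromSpec
  refine ⟨f.ker, ?_⟩
  have hpre : f ⁻¹ᵁ U.1 = ⊤ := by
    rw [Scheme.Hom.comp_preimage, U.2.fromSpec_preimage_self]
    rfl
  have happ : ∀ r : Γ(X, U.1), f.app U.1 r =
      (Spec (CommRingCat.of (Γ(X, U.1) ⧸ J))).presheaf.map (homOfLE le_top).op
        ((Scheme.ΓSpecIso _).inv (Ideal.Quotient.mk J r)) := fun r => by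
    have h2 := congr($(Scheme.ΓSpecIso_inv_naturality
      (CommRingCat.ofHom (Ideal.Quotient.mk J))) r)
    refine Eq.trans ?_ (congrArg _ h2.symm)
    rw [Scheme.Hom.comp_app, U.2.fromSpec_app_self]
    simp only [CommRingCat.comp_apply]
    exact congr($((Spec.map (CommRingCat.ofHom (Ideal.Quotient.mk J))).naturality
      (eqToHom U.2.fromSpec_preimage_self).op) ((Scheme.ΓSpecIso _).inv r))
  ext r
  rw [Scheme.Hom.ker_apply, RingHom.mem_ker, ← Ideal.Quotient.eq_zero_iff_mem]
  constructor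
  · intro h
    rw [happ] at h
    have h' := (congrArg (resO _ hpre.ge) h).trans (map_zero _)
    have h2 : resO (Spec (CommRingCat.of (Γ(X, U.1) ⧸ J))) le_rfl
        ((Scheme.ΓSpecIso _).inv (Ideal.Quotient.mk J r)) = 0 :=
      (resO_resO (le_top : f ⁻¹ᵁ U.1 ≤ ⊤) hpre.ge _).symm.trans h'
    rw [resO_self] at h2
    exact (ConcreteCategory.bijective_of_isIso (Scheme.ΓSpecIso _).inv).1
      (h2.trans (map_zero _).symm)
  · intro h
    rw [happ, h]
    exact (congrArg _ (map_zero _)).trans (map_zero _)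

/-- If `𝓗om(C, I) ⟶ 𝓗om(C, Q)` is an epimorphism for all coherent `C`, the stalks of `F` are
injective. -/
theorem injective_stalk_of_epi_homMap [IsLocallyNoetherian X] {F I : X.Modules}
    [F.IsQuasicoherent] [Injective I] (ι : F ⟶ I) [Mono ι]
    (h : ∀ C : X.Modules, Coh.IsCoh C → Epi (homMap C (cokernel.π ι))) (x : X) :
    Module.Injective (X.presheaf.stalk x) (F.presheaf.stalk x) := by
  refine Module.Baer.injective fun 𝔞 φ => ?_
  obtain ⟨_, ⟨U, hU, rfl⟩, hxU, -⟩ :=
    X.isBasis_affineOpens.exists_subset_of_mem_open (Set.mem_univ x) isOpen_univ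
  haveI := IsLocallyNoetherian.component_noetherian (⟨U, hU⟩ : X.affineOpens)
  let J : Ideal Γ(X, U) := 𝔞.comap (X.presheaf.germ U x hxU).hom
  obtain ⟨𝒥, h𝒥⟩ := exists_idealSheafData_ideal_eq ⟨U, hU⟩ J
  have hunit : Coh.IsCoh (unitMod X) := isCoh_unit
  haveI : (unitMod X).IsQuasicoherent := hunit.1
  let G : X.Modules := (Dual3.idealMul 𝒥).obj (unitMod X)
  let α : G ⟶ unitMod X := Dual3.idealMulι 𝒥 (unitMod X)
  have hG : Coh.IsCoh G := isCoh_idealMul 𝒥 hunit
  haveI : G.IsQuasicoherent := hG.1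
  haveI : G.IsFiniteType := hG.2
  haveI := finite_sections_of_isFiniteType G hU
  haveI : Module.FinitePresentation Γ(X, U) Γ(G, U) := Module.finitePresentation_of_finite _ _
  haveI hα : Mono α := inferInstanceAs (Mono (Dual3.idealMulι 𝒥 (unitMod X)))
  have hFU := isLocAt_of_isQuasicoherent F hU
  have hGU := isLocAt_of_isQuasicoherent G hU
  have hrange : Set.range (α.app U) =
      (J • (⊤ : Submodule Γ(X, U) Γ(unitMod X, U)) : Submodule Γ(X, U) Γ(unitMod X, U)) := by
    rw [← h𝒥]
    exact range_idealMulι_app 𝒥 (unitMod X) ⟨U, hU⟩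
  have hmem : ∀ g : Γ(G, U), X.presheaf.germ U x hxU (α.app U g : Γ(X, U)) ∈ 𝔞 := by
    intro g
    have hg : α.app U g ∈ (J • (⊤ : Submodule Γ(X, U) Γ(unitMod X, U)) :
        Submodule Γ(X, U) Γ(unitMod X, U)) := (Set.ext_iff.mp hrange _).mp (Set.mem_range_self g)
    refine Submodule.smul_induction_on hg (fun r hr m _ => ?_) (fun a b ha hb => ?_)
    · exact Eq.mpr (congrArg (· ∈ 𝔞) (map_mul (X.presheaf.germ U x hxU).hom r (show Γ(X, U) from m)))
        (𝔞.mul_mem_right _ hr)
    · exact Eq.mpr (congrArg (· ∈ 𝔞) (map_add (X.presheaf.germ U x hxU).hom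
        (show Γ(X, U) from a) (show Γ(X, U) from b))) (add_mem ha hb)
  have hmem' : ∀ e : G.presheaf.stalk x,
      (unitStalkEquiv x).symm (stalkLinear α x e) ∈ 𝔞 := by
    intro e
    obtain ⟨f, t, hxf, ht⟩ := stalk_exists_smul hGU hU hxU e
    refine (Ideal.unit_mul_mem_iff_mem _ (isUnit_germ hxf)).mp ?_
    rw [← smul_eq_mul, ← map_smul, ← map_smul, ht]
    change (unitStalkEquiv x).symm (stalkMapM α x (germM G U x hxU t)) ∈ 𝔞
    rw [stalkMapM_germ, ← show unitStalkEquiv x (X.presheaf.germ U x hxU (α.app U t : Γ(X, U))) =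
      germM (unitMod X) U x hxU (α.app U t) from unitStalkEquiv_germ hxU _,
      LinearEquiv.symm_apply_apply]
    exact hmem t
  let ψ : G.presheaf.stalk x →ₗ[X.presheaf.stalk x] F.presheaf.stalk x :=
    φ.comp (((unitStalkEquiv x).symm.toLinearMap.comp (stalkLinear α x)).codRestrict 𝔞 hmem')
  have hψ : ∀ g : Γ(G, U), ψ (germM G U x hxU g) = φ ⟨_, hmem g⟩ := fun g => by
    refine congrArg φ (Subtype.ext ?_)
    change (unitStalkEquiv x).symm (stalkMapM α x (germM G U x hxU g)) = _
    rw [stalkMapM_germ, ← show unitStalkEquiv x (X.presheaf.germ U x hxU (α.app U g : Γ(X, U))) =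
      germM (unitMod X) U x hxU (α.app U g) from unitStalkEquiv_germ hxU _,
      LinearEquiv.symm_apply_apply]
  obtain ⟨s, l, hxs, hl⟩ := exists_lift_stalk hU hxU hFU ψ
  let V : X.Opens := X.basicOpen s
  have hVU : V ≤ U := X.basicOpen_le s
  have hV : IsAffineOpen V := hU.basicOpen s
  obtain ⟨v, hv⟩ : IsUnit (resO X hVU s) := RingedSpace.isUnit_res_basicOpen _ s
  let σ : HomOn G F V := ((↑v⁻¹ : Γ(X, V)) • (HomOn.ofLinear hU l).mono hVU)
  have hσ : ∀ g : Γ(G, U), germM F V x hxs (σ.app V le_rfl (res G hVU g)) = φ ⟨_, hmem g⟩ := by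
    intro g
    change germM F V x hxs (resO X le_rfl (↑v⁻¹ : Γ(X, V)) •
      (HomOn.ofLinear hU l).app V hVU (res G hVU g)) = _
    rw [(HomOn.ofLinear hU l).app_res le_rfl hVU g, HomOn.ofLinear_app_self, resO_self, germM_smul,
      germM_res, hl, smul_smul, ← germ_resO hVU hxs s, ← map_mul, ← hv, Units.inv_mul, map_one,
      one_smul, hψ]
  haveI : Injective (I.restrict V.ι) := injective_restrict V.ι I
  haveI : Mono ((Scheme.Modules.restrictFunctor V.ι).map α) := inferInstance
  let τ : HomOn G I V := σ.comp (HomOn.ofHom ι V)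
  let β : (unitMod X).restrict V.ι ⟶ I.restrict V.ι :=
    Injective.factorThru τ.toRestrictHom ((Scheme.Modules.restrictFunctor V.ι).map α)
  let B : HomOn (unitMod X) I V := HomOn.ofRestrictHom β
  have hB : ∀ g : Γ(G, V), B.app V le_rfl (α.app V g) = ι.app V (σ.app V le_rfl g) := by
    intro g
    have hVV := HomOn.image_preimage (le_refl V)
    have e1 : (unitMod X).presheaf.map (homOfLE hVV.le).op (α.app V g) =
        α.app _ (res G hVV.le g) := (app_res α hVV.le g).symm
    change res I hVV.ge ((I.restrictAppIso V.ι _).hom (β.app _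
      (((unitMod X).restrictAppIso V.ι _).inv (res (unitMod X) hVV.le (α.app V g))))) = _
    rw [show res (unitMod X) hVV.le (α.app V g) = α.app _ (res G hVV.le g) from e1]
    have e2 : ((unitMod X).restrictAppIso V.ι (V.ι ⁻¹ᵁ V)).inv (α.app _ (res G hVV.le g)) =
        ((Scheme.Modules.restrictFunctor V.ι).map α).app (V.ι ⁻¹ᵁ V)
          ((G.restrictAppIso V.ι (V.ι ⁻¹ᵁ V)).inv (res G hVV.le g)) := rfl
    have e3 : β.app (V.ι ⁻¹ᵁ V) (((Scheme.Modules.restrictFunctor V.ι).map α).app (V.ι ⁻¹ᵁ V)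
        ((G.restrictAppIso V.ι (V.ι ⁻¹ᵁ V)).inv (res G hVV.le g))) =
        τ.toRestrictHom.app (V.ι ⁻¹ᵁ V) ((G.restrictAppIso V.ι (V.ι ⁻¹ᵁ V)).inv (res G hVV.le g)) :=
      congr($(Injective.comp_factorThru τ.toRestrictHom
        ((Scheme.Modules.restrictFunctor V.ι).map α)).app (V.ι ⁻¹ᵁ V)
          ((G.restrictAppIso V.ι (V.ι ⁻¹ᵁ V)).inv (res G hVV.le g)))
    rw [e2, e3, HomOn.toRestrictHom_app, Iso.inv_hom_id_apply, τ.app_res le_rfl hVV.le g, res_res,
      res_self]
    rfl
  -- the obstruction: a section of `𝓗om(C, Q)`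
  let C : X.Modules := cokernel α
  have hC : Coh.IsCoh C := isCoh_cokernel α hG.1 hunit
  haveI : C.IsQuasicoherent := hC.1
  let Q : X.Modules := cokernel ι
  have hSα : (ShortComplex.mk α (cokernel.π α) (cokernel.condition α)).ShortExact :=
    { exact := ShortComplex.exact_cokernel α }
  have hSι : (ShortComplex.mk ι (cokernel.π ι) (cokernel.condition ι)).ShortExact :=
    { exact := ShortComplex.exact_cokernel ι }
  let q : Γ(unitMod X, V) →ₗ[Γ(X, V)] Γ(C, V) := appLinear (cokernel.π α) V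
  have hq : Function.Surjective q :=
    @app_surjective_of_isAffineOpen X _ hSα ‹G.IsQuasicoherent› V hV
  let L : Γ(unitMod X, V) →ₗ[Γ(X, V)] Γ(Q, V) :=
    (appLinear (cokernel.π ι) V).comp (B.app V le_rfl)
  have hle : LinearMap.ker q ≤ LinearMap.ker L := by
    intro a ha
    have ha2 : q a = 0 := LinearMap.mem_ker.mp ha
    have ha' : (cokernel.π α).app V a = 0 := ha2
    obtain ⟨g, hg⟩ := exists_app_eq_of_exact (ShortComplex.mk α (cokernel.π α) (cokernel.condition α))
      hSα.exact V a ha'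
    rw [LinearMap.mem_ker]
    change (cokernel.π ι).app V (B.app V le_rfl a) = 0
    rw [← show α.app V g = a from hg, hB]
    exact app_f_g (ShortComplex.mk ι (cokernel.π ι) (cokernel.condition ι)) V _
  let δ : Γ(C, V) →ₗ[Γ(X, V)] Γ(Q, V) :=
    ((LinearMap.ker q).liftQ L hle).comp (q.quotKerEquivOfSurjective hq).symm.toLinearMap
  have hδ : ∀ a, δ (q a) = L a := fun a => by
    have e : (q.quotKerEquivOfSurjective hq).symm (q a) = Submodule.Quotient.mk a :=
      (LinearEquiv.symm_apply_eq _).mpr rfl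
    change (LinearMap.ker q).liftQ L hle ((q.quotKerEquivOfSurjective hq).symm (q a)) = _
    rw [e]
    rfl
  haveI := h C hC
  obtain ⟨W, hW, χ, hxW, hχ⟩ := exists_local_lift (homMap C (cokernel.π ι))
    ((HomOn.ofLinear hV δ).toSec) hxs
  have hχ' : ∀ e : Γ(C, W), (cokernel.π ι).app W ((ofSec χ).app W le_rfl e) =
      (HomOn.ofLinear hV δ).app W hW e := fun e =>
    congrArg (fun t : Γ(homMod C Q, W) => (ofSec t).app W le_rfl e) hχ
  let one : Γ(unitMod X, W) := toUnit 1
  let e0 : Γ(I, W) := B.app W hW one - (ofSec χ).app W le_rfl ((cokernel.π α).app W one)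
  have he0 : (cokernel.π ι).app W e0 = 0 := by
    have e1 : one = res (unitMod X) hW (toUnit (1 : Γ(X, V))) := by
      rw [res_unit, resO, map_one]
    rw [map_sub, hχ', sub_eq_zero, e1, app_res, B.app_res le_rfl hW,
      (HomOn.ofLinear hV δ).app_res le_rfl hW, HomOn.ofLinear_app_self, app_res]
    exact congrArg (res Q hW) (hδ _).symm
  obtain ⟨t, ht⟩ := exists_app_eq_of_exact _ hSι.exact W e0 he0
  let e : F.presheaf.stalk x := germM F W x hxW t
  refine ⟨LinearMap.toSpanSingleton _ _ e, fun a ha => ?_⟩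
  change a • e = φ ⟨a, ha⟩
  letI algx : Algebra Γ(X, U) (X.presheaf.stalk x) := (X.presheaf.germ U x hxU).hom.toAlgebra
  haveI : IsLocalization.AtPrime (X.presheaf.stalk x) (hU.primeIdealOf ⟨x, hxU⟩).asIdeal :=
    hU.isLocalization_stalk ⟨x, hxU⟩
  obtain ⟨⟨r, w⟩, hrw⟩ := IsLocalization.surj (hU.primeIdealOf ⟨x, hxU⟩).asIdeal.primeCompl a
  have hu : IsUnit (algebraMap Γ(X, U) (X.presheaf.stalk x) (w : Γ(X, U))) :=
    IsLocalization.map_units _ w
  have hr : r ∈ J := by
    change X.presheaf.germ U x hxU r ∈ 𝔞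
    exact hrw ▸ 𝔞.mul_mem_right _ ha
  obtain ⟨g, hg⟩ : toUnit r ∈ Set.range (α.app U) := by
    rw [hrange]
    have := Submodule.smul_mem_smul hr (Submodule.mem_top (x := toUnit (1 : Γ(X, U))))
    rwa [smul_unit, mul_one] at this
  have hWU : W ≤ U := hW.trans hVU
  have key : resO X hWU r • t = σ.app W hW (res G hWU g) := by
    refine app_injective_of_mono ι W ?_
    rw [Scheme.Modules.Hom.app_smul]
    refine (congrArg (resO X hWU r • ·) ht).trans ?_
    have e2 : resO X hWU r • one = α.app W (res G hWU g) := by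
      rw [app_res, hg, res_unit]
      exact congrArg toUnit (mul_one _)
    rw [smul_sub, ← LinearMap.map_smul, ← LinearMap.map_smul, ← Scheme.Modules.Hom.app_smul, e2]
    have e3 : (cokernel.π α).app W (α.app W (res G hWU g)) = 0 :=
      app_f_g (ShortComplex.mk α (cokernel.π α) (cokernel.condition α)) W _
    rw [e3, map_zero, sub_zero, ← res_res hVU hW g, app_res, B.app_res le_rfl hW, hB,
      σ.app_res le_rfl hW, app_res]
  suffices main : algebraMap Γ(X, U) (X.presheaf.stalk x) (w : Γ(X, U)) • (a • e) =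
      algebraMap Γ(X, U) (X.presheaf.stalk x) (w : Γ(X, U)) • φ ⟨a, ha⟩ from
    hu.smul_left_cancel.mp main
  rw [smul_smul, ← φ.map_smul, mul_comm, hrw]
  change X.presheaf.germ U x hxU r • e = φ ⟨_ • a, _⟩
  have e4 : (⟨algebraMap Γ(X, U) (X.presheaf.stalk x) (w : Γ(X, U)) • a, Submodule.smul_mem _ _ ha⟩ :
      𝔞) = ⟨_, hmem g⟩ := by
    refine Subtype.ext ?_
    change _ * a = _
    rw [mul_comm, hrw]
    exact congrArg (X.presheaf.germ U x hxU).hom hg.symm
  rw [show φ ⟨algebraMap Γ(X, U) (X.presheaf.stalk x) (w : Γ(X, U)) • a, _⟩ = φ ⟨_, hmem g⟩ from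
    congrArg φ e4, ← hσ g, ← germ_resO hWU hxW r, ← germM_smul, key, ← res_res hVU hW g,
    σ.app_res le_rfl hW, germM_res]

end Groth.Agent.QC70
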