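import Groth.Agent.QC70.HomLocFree
import Groth.Agent.SiteCoh.ExtRes
import Groth.Prelude.Def_ModSite2

set_option autoImplicit false
set_option backward.isDefEq.respectTransparency.types false

/-! `𝓗om(E, M) ≅ M ⊗ E^∨` for finite locally free `E`; `Ext` sheaves of tensor products. -/

noncomputable section

universe u

open CategoryTheory Limits AlgebraicGeometry TopologicalSpace Opposite MonoidalCategory

namespace Groth.Agent.QC70

open Props58.LocFree

variable {X : Scheme.{u}} {E M : X.Modules} {U V : X.Opens}

/-- A section of the structure module as a function. -/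
def toO (a : Γ(unitMod X, U)) : Γ(X, U) := a

/-- A local linear form times a section. -/
def HomOn.formSmul (φ : HomOn E (unitMod X) U) (m : Γ(M, U)) : HomOn E M U where
  app V hV :=
    { toFun := fun s => (toO (φ.app V hV s)) • res M hV m
      map_add' := fun s t => by
        rw [map_add]
        exact add_smul (toO (φ.app V hV s)) (toO (φ.app V hV t)) _
      map_smul' := fun r s => by
        rw [LinearMap.map_smul]
        exact mul_smul r (toO (φ.app V hV s)) _ }
  app_res {V V'} hV h s := by
    simp only [LinearMap.coe_mk, AddHom.coe_mk]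
    rw [res_smul, res_res, φ.app_res hV h]
    rfl

lemma HomOn.formSmul_app (φ : HomOn E (unitMod X) U) (m : Γ(M, U)) (hV : V ≤ U) (s : Γ(E, V)) :
    (φ.formSmul m).app V hV s = (toO (φ.app V hV s)) • res M hV m := rfl

/-- The dual of `E`. -/
abbrev dualMod (E : X.Modules) : X.Modules := homMod E (unitMod X)

/-- `(m, φ) ↦ φ(-) m`. -/
def dualPair (E M : X.Modules) :
    (Mod48.pre M : Mod48.PreM X.sheaf) ⊗ Mod48.pre (dualMod E) ⟶ Mod48.pre (homMod E M) where
  app W := ModuleCat.MonoidalCategory.tensorLift (R := X.sheaf.obj.obj W)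
    (fun (m : Γ(M, W.unop)) (φ : Γ(dualMod E, W.unop)) =>
      (show Γ(homMod E M, W.unop) from ((ofSec φ).formSmul m).toSec))
    (fun m m' φ => HomOn.ext' fun V hV s =>
      (congrArg ((toO ((ofSec φ).app V hV s)) • ·) (res_add hV m m')).trans
        (smul_add _ _ _))
    (fun a m φ => HomOn.ext' fun V hV s => by
      change (toO ((ofSec φ).app V hV s)) • res M hV ((show Γ(X, W.unop) from a) • m) =
        resO X hV (show Γ(X, W.unop) from a) • ((toO ((ofSec φ).app V hV s)) • res M hV m)
      refine (congrArg ((toO ((ofSec φ).app V hV s)) • ·) (res_smul hV _ m)).trans ?_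
      rw [smul_smul, smul_smul, mul_comm])
    (fun m φ φ' => HomOn.ext' fun V hV s =>
      add_smul (toO ((ofSec φ).app V hV s)) (toO ((ofSec φ').app V hV s)) _)
    (fun a m φ => HomOn.ext' fun V hV s =>
      mul_smul (resO X hV (show Γ(X, W.unop) from a)) (toO ((ofSec φ).app V hV s)) _)
  naturality {W W'} g := ModuleCat.MonoidalCategory.tensor_ext fun m φ =>
    HomOn.ext' fun V hV s => by
      change (toO ((ofSec φ).app V _ s)) • res M hV (res M g.unop.le m) =
        (toO ((ofSec φ).app V _ s)) • res M (hV.trans g.unop.le) m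
      rw [res_res]

lemma dualPair_app_tp {W : X.Opens} (m : Γ(M, W)) (φ : Γ(dualMod E, W)) :
    (dualPair E M).app (op W) (Mod48.tp m φ) = ((ofSec φ).formSmul m).toSec := rfl

/-- Over an open with a basis of `E`, the pairing is bijective. -/
theorem bijective_dualPair {n : ℕ} {s : Fin n → Γ(E, U)} (hs : StalkBasis s) (hV : V ≤ U) :
    Function.Bijective ((dualPair E M).app (op V)) := by
  classical
  let sV : Fin n → Γ(E, V) := fun i => res E hV (s i)
  have hsV : StalkBasis sV := hs.restrict hV
  let d : Fin n → Γ(dualMod E, V) := fun i =>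
    (HomOn.ofBasis (P := unitMod X) hsV (fun j => toUnit (if j = i then 1 else 0))).toSec
  have hd : ∀ i j, (ofSec (d i)).app V le_rfl (sV j) = toUnit (if j = i then 1 else 0) := fun i j => by
    have e := HomOn.ofBasis_app_comb (P := unitMod X) hsV
      (fun k => toUnit (if k = i then 1 else 0)) le_rfl (Pi.single j 1)
    simpa [Pi.single_apply, res_self] using e
  have hext : ∀ {P : X.Modules} (α β : HomOn E P V),
      (∀ j, α.app V le_rfl (sV j) = β.app V le_rfl (sV j)) → α = β := fun {P} α β h =>
    HomOn.ext' fun Z hZ z => by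
      obtain ⟨a, rfl⟩ := hsV.exists_comb hZ z
      rw [map_sum, map_sum]
      refine Finset.sum_congr rfl fun j _ => ?_
      rw [LinearMap.map_smul, LinearMap.map_smul, α.app_res le_rfl hZ, β.app_res le_rfl hZ, h]
  have hd2 : ∀ (a : Γ(X, V)) i j, (a • ofSec (d i)).app V le_rfl (sV j) =
      toUnit (a * if j = i then 1 else 0) := fun a i j => by
    rw [HomOn.smul_app, hd, resO_self, smul_unit]
  let inv : Γ(homMod E M, V) → (Mod48.pre M ⊗ Mod48.pre (dualMod E) : Mod48.PreM X.sheaf).obj (op V) :=
    fun ψ => ∑ j, Mod48.tp (M := Mod48.pre (O := X.sheaf) M) (N := Mod48.pre (dualMod E))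
      ((ofSec ψ).app V le_rfl (sV j)) (d j)
  have hright : ∀ ψ, (dualPair E M).app (op V) (inv ψ) = ψ := fun ψ => by
    refine (map_sum ((dualPair E M).app (op V)).hom _ _).trans ?_
    refine (show ∑ j, ((ofSec (d j)).formSmul ((ofSec ψ).app V le_rfl (sV j))) = ofSec ψ from
      hext _ _ fun k => ?_)
    have hsum : ∀ (f : Fin n → HomOn E M V) (z : Γ(E, V)),
        (∑ j, f j).app V le_rfl z = ∑ j, (f j).app V le_rfl z := fun f z =>
      map_sum ({ toFun := fun φ : HomOn E M V => φ.app V le_rfl z
                 map_zero' := rfl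
                 map_add' := fun _ _ => rfl } : HomOn E M V →+ Γ(M, V)) f _
    rw [hsum, Finset.sum_eq_single k]
    · rw [HomOn.formSmul_app, hd, if_pos rfl, res_self]
      exact one_smul _ _
    · intro j _ hjk
      rw [HomOn.formSmul_app, hd, if_neg (Ne.symm hjk), res_self]
      exact zero_smul _ _
    · simp
  refine ⟨fun z z' h => ?_, fun ψ => ⟨inv ψ, hright ψ⟩⟩
  have hleft : ∀ z, inv ((dualPair E M).app (op V) z) = z := by
    intro z
    induction z using TensorProduct.induction_on with
    | zero =>
      refine (congrArg inv (map_zero ((dualPair E M).app (op V)).hom)).trans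
        (Finset.sum_eq_zero fun j _ => ?_)
      exact TensorProduct.zero_tmul _ _
    | tmul m φ =>
      have hφ : (∑ j, (toO ((ofSec φ).app V le_rfl (sV j))) • d j) = φ := by
        refine hext (∑ j, _ : HomOn E (unitMod X) V) (ofSec φ) fun k => ?_
        have hsum : ∀ (f : Fin n → HomOn E (unitMod X) V) (z : Γ(E, V)),
            (∑ j, f j).app V le_rfl z = ∑ j, (f j).app V le_rfl z := fun f z =>
          map_sum ({ toFun := fun φ : HomOn E (unitMod X) V => φ.app V le_rfl z
                     map_zero' := rfl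
                     map_add' := fun _ _ => rfl } : HomOn E (unitMod X) V →+ Γ(unitMod X, V)) f _
        rw [hsum, Finset.sum_eq_single k]
        · refine (hd2 _ k k).trans ?_
          rw [if_pos rfl, mul_one]
          rfl
        · intro j _ hjk
          refine (hd2 _ j k).trans ?_
          rw [if_neg (Ne.symm hjk), mul_zero]
          rfl
        · simp
      change ∑ j, Mod48.tp (M := Mod48.pre (O := X.sheaf) M) (N := Mod48.pre (dualMod E))
        ((toO ((ofSec φ).app V le_rfl (sV j))) • res M le_rfl m) (d j) = Mod48.tp m φ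
      rw [res_self]
      conv_rhs => rw [← hφ]
      refine Eq.trans ?_ (TensorProduct.tmul_sum _ _ _).symm
      exact Finset.sum_congr rfl fun j _ =>
        (Mod48.tp_smul_left (M := Mod48.pre (O := X.sheaf) M) (N := Mod48.pre (dualMod E))
          (toO ((ofSec φ).app V le_rfl (sV j))) m (d j)).trans
        (Mod48.tp_smul_right (M := Mod48.pre (O := X.sheaf) M) (N := Mod48.pre (dualMod E))
          (toO ((ofSec φ).app V le_rfl (sV j))) m (d j)).symm
    | add z z' hz hz' =>
      refine Eq.trans ((congrArg inv (map_add ((dualPair E M).app (op V)).hom z z')).trans ?_)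
        (congrArg₂ (· + ·) hz hz')
      refine Eq.trans (Finset.sum_congr rfl fun j _ => ?_) Finset.sum_add_distrib
      exact TensorProduct.add_tmul _ _ _
  rw [← hleft z, h, hleft z']

/-- `M ⊗ E^∨ ≅ 𝓗om(E, M)`. -/
theorem nonempty_tensor_dual_iso (hE : FlatMod.IsFinLocFree E) (M : X.Modules) :
    Nonempty (CohB1.tensorMod M (dualMod E) ≅ homMod E M) := by
  let q := dualPair E M
  have hq : Mod48.IsLocalIso q := by
    constructor
    · refine ⟨fun {W} z z' hz => fun x hx => ?_⟩
      obtain ⟨U, n, s, hxU, hs⟩ := isFinLocFree_iff.mp hE x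
      refine ⟨W.unop ⊓ U, homOfLE inf_le_left, ?_, hx, hxU⟩
      refine (bijective_dualPair hs (inf_le_right : W.unop ⊓ U ≤ U)).1 ?_
      exact (PresheafOfModules.naturality_apply q (homOfLE inf_le_left).op z).trans
        ((congrArg (fun w => (Mod48.pre (O := X.sheaf) (homMod E M)).map
          (homOfLE (inf_le_left : W.unop ⊓ U ≤ W.unop)).op w)
          (show (q.app W).hom z = (q.app W).hom z' from hz)).trans
          (PresheafOfModules.naturality_apply q (homOfLE inf_le_left).op z').symm)
    · refine ⟨fun {W} t => fun x hx => ?_⟩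
      obtain ⟨U, n, s, hxU, hs⟩ := isFinLocFree_iff.mp hE x
      refine ⟨W ⊓ U, homOfLE inf_le_left, ?_, hx, hxU⟩
      exact (bijective_dualPair hs (inf_le_right : W ⊓ U ≤ U)).2 _
  have hi := (Mod48.isIso_shf_map_iff_isLocalIso q).mpr hq
  exact ⟨@asIso _ _ _ _ (Mod48.shf.map q) hi ≪≫ Mod48.shfCounitIso.app (homMod E M)⟩

theorem preservesHomology_homFunctor (hA : FlatMod.IsFinLocFree E) :
    haveI := (homModAdj E).right_adjoint_additive
    (homFunctor E).PreservesHomology := by
  haveI : (homFunctor E).Additive := (homModAdj E).right_adjoint_additive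
  haveI hlim : PreservesLimitsOfSize.{u, u} (homFunctor E) :=
    (homModAdj E).rightAdjoint_preservesLimits
  haveI : PreservesLimitsOfSize.{0, 0} (homFunctor E) := preservesLimitsOfSize_shrink _
  haveI : PreservesFiniteLimits (homFunctor E) :=
    Limits.PreservesLimitsOfSize0.preservesFiniteLimits _
  haveI : PreservesFiniteColimits (homFunctor E) :=
    (Functor.preservesFiniteColimits_iff_forall_exact_map_and_epi _).mpr fun S hS =>
      ⟨(((Functor.preservesFiniteLimits_iff_forall_exact_map_and_mono _).mp inferInstance) S hS).1,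
        @epi_homMap X E hA _ _ S.g hS.epi_g⟩
  exact inferInstance

/-- `𝓗om(E ⊗ F, -) ≅ 𝓗om(E, 𝓗om(F, -))`. -/
def homTensorIso (E F : X.Modules) :
    homFunctor (CohB1.tensorMod E F) ≅ homFunctor F ⋙ homFunctor E :=
  (homModAdjR (CohB1.tensorMod E F)).rightAdjointUniq
    (((homModAdjR E).comp (homModAdjR F)).ofNatIsoLeft (Mod48.tensAssocNat (O := X.sheaf) E F))

/-- `𝓗om(F ⊗ E, -) ≅ 𝓗om(E, 𝓗om(F, -))`. -/
def homTensorIso' (E F : X.Modules) :
    homFunctor (CohB1.tensorMod F E) ≅ homFunctor F ⋙ homFunctor E :=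
  (homModAdjR (CohB1.tensorMod F E)).rightAdjointUniq
    (((homModAdjR E).comp (homModAdjR F)).ofNatIsoLeft
      (Mod48.tensAssocNat (O := X.sheaf) E F ≪≫
        (ModSite.tensorBi X.sheaf).flip.mapIso ((Mod48.tensSymm (O := X.sheaf) E).app F)))

theorem nonempty_extSh_tensor (hE : FlatMod.IsFinLocFree E) (F G T D : X.Modules)
    [ModSite.HasSheafHom (O := X.sheaf) F] [ModSite.HasSheafHom (O := X.sheaf) T]
    [HasInjectiveResolutions (ModSite.Mod X.sheaf)]
    (e : homFunctor T ≅ homFunctor F ⋙ homFunctor E) (eD : D ≅ dualMod E) (q : ℕ) :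
    Nonempty ((ModSite.extSh (O := X.sheaf) T q).obj G ≅
      CohB1.tensorMod ((ModSite.extSh (O := X.sheaf) F q).obj G) D) := by
  haveI : HasInjectiveResolutions X.Modules := ‹HasInjectiveResolutions (ModSite.Mod X.sheaf)›
  haveI : EnoughInjectives X.Modules := ⟨fun M => by
    let P := injectiveResolution M
    haveI h : Mono (P.ι.f 0) := by infer_instance
    exact ⟨⟨P.cocomplex.X 0, P.injective 0, P.ι.f 0, h⟩⟩⟩
  let S : X.Modules ⥤ X.Modules := homFunctor E
  haveI : S.Additive := (homModAdj E).right_adjoint_additive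
  haveI : S.PreservesHomology := preservesHomology_homFunctor hE
  let TF : X.Modules ⥤ X.Modules := ModSite.sheafHom (O := X.sheaf) F
  let TT : X.Modules ⥤ X.Modules := ModSite.sheafHom (O := X.sheaf) T
  haveI : TF.Additive := (haveI := (homModAdj F).right_adjoint_additive;
    Functor.additive_of_iso (sheafHomIso' F).symm)
  haveI : TT.Additive := (haveI := (homModAdj T).right_adjoint_additive;
    Functor.additive_of_iso (sheafHomIso' T).symm)
  let e₁ : TT ≅ TF ⋙ S :=
    sheafHomIso' T ≪≫ e ≪≫ Functor.isoWhiskerRight (sheafHomIso' F).symm S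
  obtain ⟨e₂⟩ := nonempty_tensor_dual_iso hE ((TF.rightDerived q).obj G)
  exact ⟨({ hom := (NatTrans.rightDerived e₁.hom q).app G
            inv := (NatTrans.rightDerived e₁.inv q).app G
            hom_inv_id := by
              rw [← NatTrans.comp_app, ← NatTrans.rightDerived_comp, e₁.hom_inv_id,
                NatTrans.rightDerived_id]
              rfl
            inv_hom_id := by
              rw [← NatTrans.comp_app, ← NatTrans.rightDerived_comp, e₁.inv_hom_id,
                NatTrans.rightDerived_id]
              rfl } : (TT.rightDerived q).obj G ≅ ((TF ⋙ S).rightDerived q).obj G) ≪≫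
    (SiteCoh.rightDerivedCompExactIso TF S q).app G ≪≫ e₂.symm ≪≫
    ((ModSite.tensorBi X.sheaf).obj ((TF.rightDerived q).obj G)).mapIso eD.symm⟩

end Groth.Agent.QC70
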