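import Groth.Agent.QC70.HomRestrict
import Groth.Agent.QC70.HomTensor
import Groth.Agent.QC70.HomCoh
import Groth.Agent.QC70.ExtSheafVanish
import Groth.Agent.Amp73.GlobGen
import Groth.Agent.Props58.LocFree.Criteria
import Groth.Agent.Amp73.CounitIff
import Mathlib.Algebra.Homology.HomologySequence
import Mathlib.Algebra.Homology.HomologicalComplexAbelian

set_option autoImplicit false
set_option backward.isDefEq.respectTransparency.types false

/-! The `Ext` sheaves of coherent modules are coherent. -/

noncomputable section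

universe u

open CategoryTheory Limits AlgebraicGeometry TopologicalSpace Opposite

namespace Groth.Agent.QC70

variable {X : Scheme.{u}} {M M' N : X.Modules} {U : X.Opens}

/-- Pre-composition. -/
def homComap (β : M ⟶ M') : homFunctor M' ⟶ homFunctor M where
  app N := HomOn.toHom
    { app := fun W _ =>
        { toFun := fun φ => ((HomOn.ofHom β W).comp (ofSec φ)).toSec
          map_add' := fun _ _ => HomOn.ext' fun _ _ _ => rfl
          map_smul' := fun _ _ => HomOn.ext' fun _ _ _ => rfl }
      app_res := fun _ _ _ => rfl }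
  naturality {N N'} g := Scheme.Modules.hom_ext _ _ fun W => by
    ext φ
    exact HomOn.ext' fun V hV s => rfl

lemma homComap_app_app (β : M ⟶ M') (N : X.Modules) (φ : Γ(homMod M' N, U)) {W : X.Opens}
    (hW : W ≤ U) (s : Γ(M, W)) :
    (ofSec (((homComap β).app N).app U φ)).app W hW s = (ofSec φ).app W hW (β.app W s) := rfl

lemma HomOn.ofRestrictHom_toRestrictHom (φ : HomOn M N U) :
    HomOn.ofRestrictHom φ.toRestrictHom = φ := HomOn.ext' fun W hW s => by
  change res N _ ((N.restrictAppIso U.ι _).hom (φ.toRestrictHom.app _ _)) = _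
  rw [HomOn.toRestrictHom_app, Iso.inv_hom_id_apply, φ.app_res hW (HomOn.image_preimage hW).le,
    res_res, res_self]

lemma HomOn.toRestrictHom_ofRestrictHom (ψ : M.restrict U.ι ⟶ N.restrict U.ι) :
    (HomOn.ofRestrictHom ψ).toRestrictHom = ψ := by
  refine Scheme.Modules.hom_ext _ _ fun W => ?_
  ext s
  have e : U.ι ⁻¹ᵁ (U.ι ''ᵁ W) = W := U.ι.preimage_image_eq W
  change res (N.restrict U.ι) e.ge (ψ.app _ (res (M.restrict U.ι) e.le s)) = ψ.app W s
  rw [QC70.app_res ψ e.le, res_res, res_self]

lemma HomOn.toRestrictHom_comp (β : M ⟶ M') (φ : HomOn M' N U) :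
    ((HomOn.ofHom β U).comp φ).toRestrictHom =
      (Scheme.Modules.restrictFunctor U.ι).map β ≫ φ.toRestrictHom :=
  Scheme.Modules.hom_ext _ _ fun W => by
    ext s
    rfl

lemma HomOn.toRestrictHom_injective :
    Function.Injective (HomOn.toRestrictHom : HomOn M N U → (M.restrict U.ι ⟶ N.restrict U.ι)) :=
  fun φ ψ h => by rw [← φ.ofRestrictHom_toRestrictHom, h, ψ.ofRestrictHom_toRestrictHom]

lemma HomOn.toRestrictHom_zero : (0 : HomOn M N U).toRestrictHom = 0 :=
  Scheme.Modules.hom_ext _ _ fun W => by
    ext s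
    exact map_zero (N.restrictAppIso U.ι W).inv.hom

instance preservesFiniteColimits_restrict_opens (U : X.Opens) :
    PreservesFiniteColimits (Scheme.Modules.restrictFunctor U.ι) := inferInstance

lemma homComap_comp_eq_zero {S : ShortComplex X.Modules} (I : X.Modules) :
    (homComap S.g).app I ≫ (homComap S.f).app I = 0 :=
  Scheme.Modules.hom_ext _ _ fun W => by
    ext φ
    exact HomOn.ext' fun V hV s =>
      (congrArg ((ofSec φ).app V hV) (app_f_g S V s)).trans (map_zero _)

/-- `0 → 𝓗om(C, I) → 𝓗om(B, I) → 𝓗om(A, I) → 0` for injective `I`. -/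
theorem shortExact_homComap {S : ShortComplex X.Modules} (hS : S.ShortExact) (I : X.Modules)
    [Injective I] :
    (ShortComplex.mk ((homComap S.g).app I) ((homComap S.f).app I)
      (homComap_comp_eq_zero I)).ShortExact := by
  have := hS.mono_f
  have := hS.epi_g
  let R := fun U : X.Opens => Scheme.Modules.restrictFunctor U.ι
  have hinj : ∀ (U : X.Opens), Function.Injective (((homComap S.g).app I).app U) := fun U φ ψ h => by
    haveI : Epi ((R U).map S.g) := inferInstance
    refine HomOn.toRestrictHom_injective ((cancel_epi ((R U).map S.g)).mp ?_)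
    rw [← HomOn.toRestrictHom_comp, ← HomOn.toRestrictHom_comp]
    exact congrArg HomOn.toRestrictHom h
  have hsurj : ∀ (U : X.Opens), Function.Surjective (((homComap S.f).app I).app U) := fun U φ => by
    haveI : Injective (I.restrict U.ι) := injective_restrict U.ι I
    haveI : Mono ((R U).map S.f) := inferInstance
    refine ⟨(HomOn.ofRestrictHom (Injective.factorThru (ofSec φ).toRestrictHom ((R U).map S.f))).toSec,
      HomOn.toRestrictHom_injective ?_⟩
    refine (HomOn.toRestrictHom_comp _ _).trans ?_
    rw [HomOn.toRestrictHom_ofRestrictHom]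
    exact Injective.comp_factorThru _ _
  have hex : ∀ (U : X.Opens) (φ : Γ(homMod S.X₂ I, U)),
      ((homComap S.f).app I).app U φ = 0 → ∃ ψ, ((homComap S.g).app I).app U ψ = φ := fun U φ h => by
    have hmap : (S.map (R U)).Exact := hS.exact.map (R U)
    haveI : Epi (S.map (R U)).g := inferInstanceAs (Epi ((R U).map S.g))
    have h0 : (R U).map S.f ≫ (ofSec φ).toRestrictHom = 0 := by
      rw [← HomOn.toRestrictHom_comp, ← HomOn.toRestrictHom_zero (M := S.X₁) (N := I) (U := U)]
      exact congrArg HomOn.toRestrictHom h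
    refine ⟨(HomOn.ofRestrictHom (hmap.desc (ofSec φ).toRestrictHom h0)).toSec,
      HomOn.toRestrictHom_injective ?_⟩
    refine (HomOn.toRestrictHom_comp _ _).trans ?_
    rw [HomOn.toRestrictHom_ofRestrictHom]
    exact hmap.g_desc _ h0
  have hmono : Mono ((homComap S.g).app I) := mono_of_app_injective _ hinj
  have hepi : Epi ((homComap S.f).app I) := epi_of_locally_surjective _ fun U s p hp => by
    obtain ⟨t, ht⟩ := hsurj U s
    exact ⟨U, le_rfl, t, hp, by rw [ht, res_self]⟩
  refine { exact := ?_, mono_f := hmono, epi_g := hepi }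
  rw [ShortComplex.exact_iff_epi_kernel_lift]
  refine epi_of_locally_surjective _ fun U s p hp => ?_
  obtain ⟨ψ, hψ⟩ := hex U ((kernel.ι ((homComap S.f).app I)).app U s) (by
    have := congr((Scheme.Modules.Hom.app $(kernel.condition ((homComap S.f).app I)) U) s)
    exact this)
  refine ⟨U, le_rfl, ψ, hp, ?_⟩
  rw [res_self]
  refine app_injective_of_mono (kernel.ι ((homComap S.f).app I)) U (Eq.trans ?_ hψ)
  exact congr((Scheme.Modules.Hom.app $(kernel.lift_ι ((homComap S.f).app I)
    ((homComap S.g).app I) _) U) ψ)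

/-- Finite free modules are finite locally free. -/
theorem isFinLocFree_freeMod (X : Scheme.{u}) (n : ℕ) :
    FlatMod.IsFinLocFree (FlatMod.freeMod X n) := by
  refine Props58.LocFree.isFinLocFree_iff.mpr fun x =>
    ⟨⊤, n, Props58.LocFree.unitVec X n, trivial, fun y hy => ⟨fun c c' h => ?_, fun e => ?_⟩⟩
  · obtain ⟨W, hW, hyW, a, ha⟩ := Props58.LocFree.exists_common_lift hy c
    obtain ⟨W', hW', hyW', b, hb⟩ := Props58.LocFree.exists_common_lift hyW c'
    have e : Props58.LocFree.germComb (Props58.LocFree.unitVec X n) y hy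
        (fun i => X.presheaf.germ W' y hyW' (resO X hW' (a i))) =
        germM _ W' y hyW' (∑ i, b i • res _ (le_top) (Props58.LocFree.unitVec X n i)) := by
      rw [Props58.LocFree.germ_comb _ _ b y hyW']
      refine Eq.trans ?_ (h.trans (congrArg _ (funext hb).symm))
      refine congrArg _ (funext fun i => ?_)
      rw [germ_resO]
      exact ha i
    obtain ⟨W'', hW'', hyW'', e'⟩ :=
      Props58.LocFree.exists_comb_eq (le_top : W' ≤ ⊤) (fun i => resO X hW' (a i)) _ hyW' e
    rw [res_sum] at e'
    have e'' := Props58.LocFree.free_eq_of_comb (e'.trans (Finset.sum_congr rfl fun i _ => by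
      rw [res_smul, res_res]))
    funext i
    rw [← ha i, ← hb i, ← germ_resO hW' hyW' (a i), ← germ_resO hW'' hyW'' (resO X hW' (a i)),
      ← germ_resO hW'' hyW'' (b i), congrFun e'' i]
  · obtain ⟨W, hyW, z, rfl⟩ := germM_exist e
    obtain ⟨a, rfl⟩ := Props58.LocFree.free_exists_comb z
    exact ⟨fun i => X.presheaf.germ W y hyW (a i),
      (Props58.LocFree.germ_comb (Props58.LocFree.unitVec X n) (le_top : W ≤ ⊤) a y hyW).symm⟩

theorem additive_homFunctor (M : X.Modules) : (homFunctor M).Additive :=
  (homModAdj M).right_adjoint_additive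

theorem preservesFiniteLimits_homFunctor (M : X.Modules) : PreservesFiniteLimits (homFunctor M) := by
  haveI hlim : PreservesLimitsOfSize.{u, u} (homFunctor M) :=
    (homModAdj M).rightAdjoint_preservesLimits
  haveI : PreservesLimitsOfSize.{0, 0} (homFunctor M) := preservesLimitsOfSize_shrink _
  exact Limits.PreservesLimitsOfSize0.preservesFiniteLimits _

/-- Coherence of the derived functors of `𝓗om(F, -)` on affine schemes. -/
theorem isCoh_rightDerived_homFunctor_affine [IsAffine X] [IsLocallyNoetherian X]
    [HasInjectiveResolutions X.Modules] (i : ℕ) :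
    ∀ (F G : X.Modules), Coh.IsCoh F → Coh.IsCoh G →
      haveI := additive_homFunctor F
      Coh.IsCoh (((homFunctor F).rightDerived i).obj G) := by
  induction i with
  | zero =>
    intro F G hF hG
    haveI := additive_homFunctor F
    haveI := preservesFiniteLimits_homFunctor F
    exact isCoh_of_iso ((homFunctor F).rightDerivedZeroIsoSelf.app G).symm (isCoh_homMod hF hG)
  | succ i ih =>
    intro F G hF hG
    haveI : CompactSpace X := inferInstance
    obtain ⟨n, p, hp⟩ := Amp73.exists_epi_freeMod hF.1 hF.2 fun x =>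
      ⟨⊤, trivial, isAffineOpen_top X, by
        exact eq_top_iff.mpr fun t _ => Submodule.subset_span ⟨t, res_self t⟩⟩
    let P := FlatMod.freeMod X n
    have hP : FlatMod.IsFinLocFree P := isFinLocFree_freeMod X n
    have hPcoh : Coh.IsCoh P :=
      ⟨Props58.LocFree.isQuasicoherent_of_isFinLocFree hP, Props58.LocFree.isFiniteType_of_isFinLocFree hP⟩
    let S : ShortComplex X.Modules := ShortComplex.mk (kernel.ι p) p (kernel.condition p)
    have hS : S.ShortExact := { exact := ShortComplex.exact_kernel p }
    have hK : Coh.IsCoh (kernel p) := isCoh_kernel p hPcoh hF.1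
    haveI := additive_homFunctor F
    haveI := additive_homFunctor P
    haveI := additive_homFunctor (kernel p)
    let R := injectiveResolution G
    let c := ComplexShape.up ℕ
    let CF := ((homFunctor F).mapHomologicalComplex c).obj R.cocomplex
    let CP := ((homFunctor P).mapHomologicalComplex c).obj R.cocomplex
    let CK := ((homFunctor (kernel p)).mapHomologicalComplex c).obj R.cocomplex
    let α : CF ⟶ CP := (NatTrans.mapHomologicalComplex (homComap p) c).app R.cocomplex
    let β : CP ⟶ CK := (NatTrans.mapHomologicalComplex (homComap (kernel.ι p)) c).app R.cocomplex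
    have hd : ∀ n, (ShortComplex.mk ((homComap p).app (R.cocomplex.X n))
        ((homComap (kernel.ι p)).app (R.cocomplex.X n))
        (homComap_comp_eq_zero (S := S) (R.cocomplex.X n))).ShortExact := fun n =>
      @shortExact_homComap X S hS _ (R.injective n)
    let T : ShortComplex (HomologicalComplex X.Modules c) := ShortComplex.mk α β
      (HomologicalComplex.hom_ext _ _ fun n => homComap_comp_eq_zero (S := S) (R.cocomplex.X n))
    have hT : T.ShortExact := HomologicalComplex.shortExact_of_degreewise_shortExact _ hd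
    have hij : c.Rel i (i + 1) := rfl
    have e3 := hT.homology_exact₃ i (i + 1) hij
    have h1 := hT.homology_exact₁ i (i + 1) hij
    haveI := preservesHomology_homFunctor hP
    have hz : IsZero (CP.homology (i + 1)) := IsZero.of_iso
      (isZero_rightDerived_of_preservesHomology (homFunctor P) G i)
      (R.isoRightDerivedObj (homFunctor P) (i + 1)).symm
    haveI : Epi (hT.δ i (i + 1) hij) := h1.epi_f (hz.eq_of_tgt _ _)
    have hiso : cokernel (HomologicalComplex.homologyMap β i) ≅ CF.homology (i + 1) :=
      (cokernelIsCokernel _).coconePointUniqueUpToIso e3.gIsCokernel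
    have h1' : Coh.IsCoh (CP.homology i) :=
      isCoh_of_iso (R.isoRightDerivedObj (homFunctor P) i) (ih P G hPcoh hG)
    have h2' : Coh.IsCoh (CK.homology i) :=
      isCoh_of_iso (R.isoRightDerivedObj (homFunctor (kernel p)) i) (ih (kernel p) G hK hG)
    exact isCoh_of_iso (R.isoRightDerivedObj (homFunctor F) (i + 1)).symm
      (isCoh_of_iso hiso (isCoh_cokernel _ h1'.1 h2'))

/-- Coherence is local. -/
theorem isCoh_of_restrict_affine [IsLocallyNoetherian X] (M : X.Modules)
    (h : ∀ U : X.affineOpens, Coh.IsCoh (M.restrict U.1.ι)) : Coh.IsCoh M := by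
  haveI : M.IsQuasicoherent := isQuasicoherent_of_isOpenCover M (fun U : X.affineOpens => U.1)
    (iSup_affineOpens_eq_top X) fun U => (h U).1
  refine ⟨inferInstance, isFiniteType_of_finite_sections M (fun U : X.affineOpens => U.1)
    (iSup_affineOpens_eq_top X) (fun U => U.2) fun U => ?_⟩
  haveI : IsAffine U.1 := U.2
  haveI := (h U).1
  haveI := (h U).2
  haveI := finite_sections_of_isFiniteType (M.restrict U.1.ι) (isAffineOpen_top U.1.toScheme)
  obtain ⟨n, s, hs⟩ := Module.Finite.exists_fin (R := Γ(U.1.toScheme, ⊤))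
    (M := Γ(M.restrict U.1.ι, ⊤))
  have htop : U.1.ι ''ᵁ ⊤ = U.1 := by simp
  let e : Γ(M.restrict U.1.ι, ⊤) → Γ(M, U.1) := fun z =>
    res M htop.ge ((M.restrictAppIso U.1.ι ⊤).hom z)
  refine Module.Finite.of_fg_top ⟨(Set.finite_range (e ∘ s)).toFinset, ?_⟩
  rw [Set.Finite.coe_toFinset, eq_top_iff]
  rintro z -
  let z' : Γ(M.restrict U.1.ι, ⊤) := (M.restrictAppIso U.1.ι ⊤).inv (res M htop.le z)
  have hz : z' ∈ Submodule.span Γ(U.1.toScheme, ⊤) (Set.range s) := hs ▸ trivial
  have key : ∀ y ∈ Submodule.span Γ(U.1.toScheme, ⊤) (Set.range s),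
      e y ∈ Submodule.span Γ(X, U.1) (Set.range (e ∘ s)) := by
    intro y hy
    induction hy using Submodule.span_induction with
    | mem w hw =>
      obtain ⟨k, rfl⟩ := hw
      exact Submodule.subset_span ⟨k, rfl⟩
    | zero =>
      simp only [e, map_zero, res_zero]
      exact zero_mem _
    | add a b _ _ ha hb =>
      simp only [e, map_add, res_add] at ha hb ⊢
      exact add_mem ha hb
    | smul r a _ ha =>
      simp only [e] at ha ⊢
      rw [Scheme.Modules.smul_restrictAppIso_hom_apply, res_smul]
      exact Submodule.smul_mem _ _ ha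
  have : e z' = z := by simp only [e, z', Iso.inv_hom_id_apply, res_res, res_self]
  exact this ▸ key z' hz

theorem isCoh_extSh [IsLocallyNoetherian X] (F G : X.Modules) (hF : Coh.IsCoh F) (hG : Coh.IsCoh G)
    [ModSite.HasSheafHom (O := X.sheaf) F] [HasInjectiveResolutions (ModSite.Mod X.sheaf)] (i : ℕ) :
    Coh.IsCoh ((ModSite.extSh (O := X.sheaf) F i).obj G) := by
  refine isCoh_of_restrict_affine _ fun U => ?_
  haveI : IsAffine U.1 := U.2
  haveI : IsLocallyNoetherian U.1.toScheme := inferInstance
  haveI : HasInjectiveResolutions U.1.toScheme.Modules := inferInstance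
  haveI : HasInjectiveResolutions (ModSite.Mod U.1.toScheme.sheaf) :=
    ‹HasInjectiveResolutions U.1.toScheme.Modules›
  haveI := hasSheafHom_modSite (F.restrict U.1.ι)
  obtain ⟨e⟩ := nonempty_extSh_restrict U.1.ι F G i
  refine isCoh_of_iso e.symm ?_
  haveI := additive_homFunctor (F.restrict U.1.ι)
  let T : U.1.toScheme.Modules ⥤ U.1.toScheme.Modules :=
    ModSite.sheafHom (O := U.1.toScheme.sheaf) (F.restrict U.1.ι)
  haveI : T.Additive := Functor.additive_of_iso (sheafHomIso' (F.restrict U.1.ι)).symm
  let eT : T ≅ homFunctor (F.restrict U.1.ι) := sheafHomIso' _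
  exact isCoh_of_iso
    ({ hom := (NatTrans.rightDerived eT.inv i).app (G.restrict U.1.ι)
       inv := (NatTrans.rightDerived eT.hom i).app (G.restrict U.1.ι)
       hom_inv_id := by
        rw [← NatTrans.comp_app, ← NatTrans.rightDerived_comp, eT.inv_hom_id, NatTrans.rightDerived_id]
        rfl
       inv_hom_id := by
        rw [← NatTrans.comp_app, ← NatTrans.rightDerived_comp, eT.hom_inv_id, NatTrans.rightDerived_id]
        rfl } : ((homFunctor (F.restrict U.1.ι)).rightDerived i).obj (G.restrict U.1.ι) ≅
          (T.rightDerived i).obj (G.restrict U.1.ι))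
    (isCoh_rightDerived_homFunctor_affine i _ _ (Amp73.isCoh_restrict hF U.1)
      (Amp73.isCoh_restrict hG U.1))

end Groth.Agent.QC70
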