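import Mathlib.CategoryTheory.Abelian.GrothendieckCategory.EnoughInjectives

set_option autoImplicit false

/-! Baer's criterion for a generating family in a Grothendieck abelian category. -/

set_option maxHeartbeats 800000

noncomputable section

universe w v u

open CategoryTheory Limits

namespace Groth.Agent.QC70

variable {C : Type u} [Category.{v} C] [Abelian C] [IsGrothendieckAbelian.{w} C]

/-- A partial extension. -/
structure PartialExt {A B : C} (f : A ⟶ B) (F : C) (φ : A ⟶ F) where
  /-- the subobject -/
  sub : Subobject B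
  /-- the inclusion of the source -/
  incl : A ⟶ (sub : C)
  incl_arrow : incl ≫ sub.arrow = f
  /-- the extension -/
  ext : (sub : C) ⟶ F
  incl_ext : incl ≫ ext = φ

/-- A wrapper for index types, without order instances. -/
structure Idx (α : Type w) where
  /-- the value -/
  val : α

/-- Baer's criterion relative to a generating family. -/
theorem injective_of_generators {κ : Type*} (G : κ → C) (F : C)
    (hsep : ∀ {B Q : C} (π : B ⟶ Q), (∀ (k : κ) (g : G k ⟶ B), g ≫ π = 0) → π = 0)
    (hlift : ∀ (k : κ) {K : C} (i : K ⟶ G k) [Mono i] (φ : K ⟶ F), ∃ ψ : G k ⟶ F, i ≫ ψ = φ) :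
    Injective F := by
  refine ⟨fun {A B} φ f _ => ?_⟩
  let S := PartialExt f F φ
  let r : S → S → Prop := fun a b => ∃ h : a.sub ≤ b.sub, Subobject.ofLE _ _ h ≫ b.ext = a.ext
  have hr : ∀ {a b c : S}, r a b → r b c → r a c := by
    rintro a b c ⟨h, e⟩ ⟨h', e'⟩
    exact ⟨h.trans h', by rw [← Subobject.ofLE_comp_ofLE _ _ _ h h', Category.assoc, e', e]⟩
  haveI : Nonempty S := ⟨⟨Subobject.mk f, (Subobject.underlyingIso f).inv, by simp,
    (Subobject.underlyingIso f).hom ≫ φ, by simp⟩⟩
  obtain ⟨m, hm⟩ := exists_maximal_of_nonempty_chains_bounded (α := S) (r := r) (fun c hc hne => by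
    have hrefl : ∀ a : S, r a a := fun a => ⟨le_rfl, by simp⟩
    let D := Idx (Shrink.{w} {A' : Subobject B // ∃ a ∈ c, a.sub = A'})
    let rep : D → S := fun a => ((equivShrink _).symm a.val).2.choose
    have hrep : ∀ a, rep a ∈ c := fun a => ((equivShrink _).symm a.val).2.choose_spec.1
    letI : Preorder D :=
      { le := fun a b => r (rep a) (rep b)
        le_refl := fun a => hrefl _
        le_trans := fun _ _ _ => hr }
    have hcof : ∀ a ∈ c, ∃ j : D, r a (rep j) := fun a ha => by
      let j : D := ⟨equivShrink _ ⟨a.sub, a, ha, rfl⟩⟩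
      have hs : (rep j).sub = a.sub := by
        have := ((equivShrink _).symm j.val).2.choose_spec.2
        simpa [rep, j] using this
      refine ⟨j, ?_⟩
      by_cases h : a = rep j
      · exact h ▸ hrefl a
      rcases hc ha (hrep j) h with h' | ⟨h', e⟩
      · exact h'
      · refine ⟨hs.ge, ?_⟩
        rw [← e, ← Category.assoc, Subobject.ofLE_comp_ofLE, Subobject.ofLE_refl, Category.id_comp]
    haveI : Nonempty D := hne.elim fun a ha => ⟨(hcof a ha).choose⟩
    haveI : IsDirectedOrder D := ⟨fun a b => by
      by_cases h : rep a = rep b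
      · exact ⟨a, hrefl _, show r (rep b) (rep a) from h ▸ hrefl _⟩
      · rcases hc (hrep a) (hrep b) h with h | h
        · exact ⟨b, h, hrefl _⟩
        · exact ⟨a, hrefl _, h⟩⟩
    let Φ : D ⥤ MonoOver B :=
      { obj := fun a => MonoOver.mk (rep a).sub.arrow
        map := fun {a b} g => MonoOver.homMk (Subobject.ofLE _ _ (leOfHom g).fst)
          (Subobject.ofLE_arrow _)
        map_id := fun _ => Subsingleton.elim _ _
        map_comp := fun _ _ => Subsingleton.elim _ _ }
    let T : Subobject B := ⨆ a : D, (rep a).sub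
    have hle : ∀ a : D, (rep a).sub ≤ T := fun a => le_iSup (fun a : D => (rep a).sub) a
    let cc : Cocone (Φ ⋙ MonoOver.forget B) :=
      Cocone.mk (Over.mk T.arrow)
        { app := fun a => Over.homMk (Subobject.ofLE _ _ (hle a)) (Subobject.ofLE_arrow (hle a))
          naturality := fun a b g => by
            ext
            exact (Subobject.ofLE_comp_ofLE _ _ _ (leOfHom g).fst (hle b)).trans
              (Category.comp_id _).symm }
    haveI : Mono cc.pt.hom := inferInstanceAs (Mono T.arrow)
    have hcol := IsGrothendieckAbelian.isColimitMapCoconeOfSubobjectMkEqISup Φ cc (by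
      dsimp [cc, Φ]
      simp only [Subobject.mk_arrow]
      rfl)
    let d : Cocone ((Φ ⋙ MonoOver.forget B) ⋙ Over.forget B) :=
      Cocone.mk F
        { app := fun a => (rep a).ext
          naturality := fun a b g => (leOfHom g).snd.trans (Category.comp_id _).symm }
    let e : (T : C) ⟶ F := hcol.desc d
    have he : ∀ a : D, Subobject.ofLE _ _ (hle a) ≫ e = (rep a).ext := fun a => hcol.fac d a
    obtain ⟨a₀⟩ := ‹Nonempty D›
    refine ⟨⟨T, (rep a₀).incl ≫ Subobject.ofLE _ _ (hle a₀), ?_, e, ?_⟩, fun a ha => ?_⟩
    · rw [Category.assoc, Subobject.ofLE_arrow, (rep a₀).incl_arrow]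
    · rw [Category.assoc, he, (rep a₀).incl_ext]
    · obtain ⟨j, hj⟩ := hcof a ha
      exact hr hj ⟨hle j, he j⟩) hr
  have htop : IsIso m.sub.arrow := by
    by_contra hniso
    have hexists : ∃ (k : κ) (g : G k ⟶ B), ¬ m.sub.Factors g := by
      by_contra hall
      simp only [not_exists, not_not] at hall
      have hπ : cokernel.π m.sub.arrow = 0 := hsep _ fun k g => by
        rw [← Subobject.factorThru_arrow _ g (hall k g), Category.assoc, cokernel.condition,
          comp_zero]
      haveI : Epi m.sub.arrow := Preadditive.epi_of_cokernel_zero hπ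
      exact hniso (isIso_of_mono_of_epi _)
    obtain ⟨k, g, hg⟩ := hexists
    obtain ⟨χ, hχ⟩ := hlift k (pullback.snd m.sub.arrow g) (pullback.fst m.sub.arrow g ≫ m.ext)
    let p := pushout.desc (f := pullback.fst m.sub.arrow g) (g := pullback.snd m.sub.arrow g)
      m.sub.arrow g pullback.condition
    haveI : Mono p := (IsPushout.of_hasPushout _ _).mono_of_isPullback_of_mono
      (IsPullback.of_hasPullback m.sub.arrow g) p (pushout.inl_desc _ _ _) (pushout.inr_desc _ _ _)
    let ι := (Subobject.underlyingIso p).inv
    let m' : S :=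
      { sub := Subobject.mk p
        incl := m.incl ≫ pushout.inl _ _ ≫ ι
        incl_arrow := by
          rw [Category.assoc, Category.assoc, Subobject.underlyingIso_arrow,
            show pushout.inl _ _ ≫ p = m.sub.arrow from pushout.inl_desc _ _ _, m.incl_arrow]
        ext := (Subobject.underlyingIso p).hom ≫
          pushout.desc (f := pullback.fst m.sub.arrow g) (g := pullback.snd m.sub.arrow g)
            m.ext χ hχ.symm
        incl_ext := by
          rw [Category.assoc, Category.assoc, Iso.inv_hom_id_assoc]
          exact (congrArg (m.incl ≫ ·) (pushout.inl_desc _ _ _)).trans m.incl_ext }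
    have hle : m.sub ≤ m'.sub :=
      Subobject.le_mk_of_comm (pushout.inl _ _) (pushout.inl_desc _ _ _)
    have hrm : r m m' := by
      refine ⟨hle, ?_⟩
      have : Subobject.ofLE m.sub m'.sub hle = pushout.inl _ _ ≫ ι := by
        rw [← cancel_mono m'.sub.arrow]
        simp only [m', ι, Category.assoc, Subobject.ofLE_arrow, Subobject.underlyingIso_arrow]
        exact (pushout.inl_desc _ _ _).symm
      rw [this]
      change (pushout.inl _ _ ≫ ι) ≫ (Subobject.underlyingIso p).hom ≫ _ = _
      rw [Category.assoc, Iso.inv_hom_id_assoc]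
      exact pushout.inl_desc _ _ _
    obtain ⟨h', -⟩ := hm m' hrm
    refine hg (Subobject.factors_of_le g h' ?_)
    exact (Subobject.mk_factors_iff p g).mpr ⟨pushout.inr _ _, pushout.inr_desc _ _ _⟩
  refine ⟨inv m.sub.arrow ≫ m.ext, ?_⟩
  refine (congrArg (· ≫ _) m.incl_arrow.symm).trans ?_
  rw [Category.assoc, IsIso.hom_inv_id_assoc, m.incl_ext]

end Groth.Agent.QC70
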