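import Groth.Agent.QC70.ExtZero
import Groth.Agent.QC70.Baer
import Groth.Agent.Coh69.Grothendieck

set_option autoImplicit false
set_option backward.isDefEq.respectTransparency.types false

/-! Injectivity is local; lifting criterion on extensions by zero of small opens. -/

noncomputable section

universe u

open CategoryTheory Limits AlgebraicGeometry TopologicalSpace Opposite

namespace Groth.Agent.QC70

variable {X : Scheme.{u}}

/-- Baer's criterion with the extensions by zero of a basis-like family of opens. -/
theorem injective_of_lift_extZeroUnit {κ : Type*} (V : κ → X.Opens)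
    (hV : ∀ (W : X.Opens) (p : X), p ∈ W → ∃ k, p ∈ V k ∧ V k ≤ W) (F : X.Modules)
    (hlift : ∀ (k : κ) {K : X.Modules} (i : K ⟶ CxOX.extZeroUnit (V k).ι) [Mono i] (φ : K ⟶ F),
      ∃ ψ : CxOX.extZeroUnit (V k).ι ⟶ F, i ≫ ψ = φ) :
    Injective F := by
  refine injective_of_generators (fun k => CxOX.extZeroUnit (V k).ι) F (fun {B Q} π h => ?_) hlift
  refine Scheme.Modules.hom_ext _ _ fun W => ?_
  ext s
  refine section_ext Q _ 0 fun p hp => ?_
  obtain ⟨k, hpk, hk⟩ := hV W p hp
  refine ⟨V k, hk, hpk, ?_⟩
  rw [res_zero, ← app_res]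
  have := congr((Scheme.Modules.Hom.app $(h k (extHom (V k) (res B hk s))) (V k)) (extGen (V k)))
  rw [Scheme.Modules.Hom.comp_app, ConcreteCategory.comp_apply, extHom_app] at this
  exact this

/-- Homs out of a module supported in an open extend from the open. -/
theorem exists_extension_of_restrict {U : X.Opens} (F : X.Modules)
    [Injective (F.restrict U.ι)] {K M : X.Modules} (i : K ⟶ M) [Mono i]
    (hM : CohB1.support M ⊆ (U : Set X)) (φ : K ⟶ F) : ∃ ψ : M ⟶ F, i ≫ ψ = φ := by
  let R := Scheme.Modules.restrictFunctor U.ι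
  let adj := CxOX.extZeroAdj U.ι
  haveI : Injective (R.obj F) := ‹Injective (F.restrict U.ι)›
  haveI : Mono (R.map i) := inferInstance
  have hK : IsIso (adj.counit.app K) := isIso_extZero_counit U.ι K
    (((mem_support_of_mono i).trans hM).trans (Scheme.Opens.range_ι U).ge)
  have hM' : IsIso (adj.counit.app M) := isIso_extZero_counit U.ι M
    (hM.trans (Scheme.Opens.range_ι U).ge)
  let ψ₀ := Injective.factorThru (R.map φ) (R.map i)
  refine ⟨inv (adj.counit.app M) ≫ (adj.homEquiv _ _).symm ψ₀, ?_⟩
  rw [← cancel_epi (adj.counit.app K), ← adj.counit_naturality_assoc i, IsIso.hom_inv_id_assoc,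
    Adjunction.homEquiv_counit, ← Functor.map_comp_assoc, Injective.comp_factorThru,
    adj.counit_naturality φ]

/-- Injectivity is a local property. -/
theorem injective_of_locally_injective (F : X.Modules)
    (hF : ∀ x : X, ∃ U : X.Opens, x ∈ U ∧ Injective (F.restrict U.ι)) : Injective F := by
  choose U hxU hU using hF
  refine injective_of_lift_extZeroUnit
    (fun k : {V : X.Opens // ∃ x, V ≤ U x} => k.1) (fun W p hp => ?_) F ?_
  · exact ⟨⟨W ⊓ U p, p, inf_le_right⟩, ⟨hp, hxU p⟩, inf_le_left⟩
  · rintro ⟨V, x, hVx⟩ K i _ φ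
    haveI := hU x
    exact exists_extension_of_restrict F i ((support_extZeroUnit_subset V).trans hVx) φ

end Groth.Agent.QC70
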