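import Groth.Agent.QC70.InjQcoh
import Groth.Agent.QC70.ExtZero
import Groth.Agent.InjHull18.Local

set_option autoImplicit false
set_option backward.isDefEq.respectTransparency.types false

/-! Injective envelopes of quasi-coherent modules on locally Noetherian schemes. -/

noncomputable section

universe u

open CategoryTheory Limits AlgebraicGeometry TopologicalSpace Opposite

namespace Groth.Agent.QC70

section Fam

variable {X : Scheme.{u}} {I : X.Modules}

/-- A family of submodules of the stalks is open if germs in it spread out inside it. -/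
def IsOpenFam (S : ∀ x : X, Submodule (X.presheaf.stalk x) (I.presheaf.stalk x)) : Prop :=
  ∀ (x : X), ∀ e ∈ S x, ∃ (V : X.Opens) (hx : x ∈ V) (s : Γ(I, V)),
    germM I V x hx s = e ∧ ∀ (y : X) (hy : y ∈ V), germM I V y hy s ∈ S y

/-- The submodule of the sections with germs in a family. -/
def famMod (S : ∀ x : X, Submodule (X.presheaf.stalk x) (I.presheaf.stalk x)) : LocalSubmod I where
  obj V :=
    { carrier := {s | ∀ (y : X) (hy : y ∈ V), germM I V y hy s ∈ S y}
      add_mem' := fun {a b} ha hb y hy => by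
        rw [germM_add]; exact add_mem (ha y hy) (hb y hy)
      zero_mem' := fun y hy => by rw [germM_zero]; exact zero_mem _
      smul_mem' := fun c s hs y hy => by rw [germM_smul]; exact Submodule.smul_mem _ _ (hs y hy) }
  res_mem {V W} h s hs y hy := by rw [germM_res]; exact hs y (h hy)
  of_locally {V} s h y hy := by
    obtain ⟨W, hW, hyW, hs⟩ := h y hy
    rw [← germM_res hW hyW s]
    exact hs y hyW

lemma range_stalk_famMod {S : ∀ x : X, Submodule (X.presheaf.stalk x) (I.presheaf.stalk x)}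
    (hS : IsOpenFam S) (x : X) : LinearMap.range (stalkLinear (famMod S).ι x) = S x := by
  refine le_antisymm ?_ fun e he => ?_
  · rintro _ ⟨e, rfl⟩
    obtain ⟨V, hx, s, rfl⟩ := germM_exist e
    change stalkMapM (famMod S).ι x (germM _ V x hx s) ∈ S x
    rw [stalkMapM_germ, LocalSubmod.ι_app]
    exact (show (famMod S).obj V from s).2 x hx
  · obtain ⟨V, hx, s, rfl, hs⟩ := hS x e he
    exact ⟨germM (famMod S).mod V x hx (⟨s, hs⟩ : (famMod S).obj V), stalkMapM_germ _ _ _⟩

lemma isOpenFam_range {A : X.Modules} (φ : A ⟶ I) :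
    IsOpenFam fun x => LinearMap.range (stalkLinear φ x) := by
  rintro x _ ⟨e, rfl⟩
  obtain ⟨V, hx, s, rfl⟩ := germM_exist e
  exact ⟨V, hx, φ.app V s, (stalkMapM_germ φ hx s).symm,
    fun y hy => ⟨germM A V y hy s, stalkMapM_germ φ hy s⟩⟩

lemma isOpenFam_sup {S T : ∀ x : X, Submodule (X.presheaf.stalk x) (I.presheaf.stalk x)}
    (hS : IsOpenFam S) (hT : IsOpenFam T) : IsOpenFam fun x => S x ⊔ T x := by
  intro x e he
  obtain ⟨a, ha, b, hb, rfl⟩ := Submodule.mem_sup.mp he
  obtain ⟨V, hxV, s, rfl, hs⟩ := hS x a ha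
  obtain ⟨W, hxW, t, rfl, ht⟩ := hT x b hb
  refine ⟨V ⊓ W, ⟨hxV, hxW⟩, res I inf_le_left s + res I inf_le_right t, ?_, fun y hy => ?_⟩
  · rw [germM_add, germM_res, germM_res]
  · rw [germM_add, germM_res, germM_res]
    exact Submodule.add_mem_sup (hs y hy.1) (ht y hy.2)

/-- Every element of the family has a nonzero multiple coming from `J`. -/
def IsEssFam {J : X.Modules} (φ : J ⟶ I)
    (S : ∀ x : X, Submodule (X.presheaf.stalk x) (I.presheaf.stalk x)) : Prop :=
  ∀ (x : X), ∀ e ∈ S x, e ≠ 0 →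
    ∃ c : X.presheaf.stalk x, c • e ∈ LinearMap.range (stalkLinear φ x) ∧ c • e ≠ 0

theorem exists_maximal_essFam {J : X.Modules} (φ : J ⟶ I) :
    ∃ S : ∀ x : X, Submodule (X.presheaf.stalk x) (I.presheaf.stalk x),
      (IsOpenFam S ∧ (∀ x, LinearMap.range (stalkLinear φ x) ≤ S x) ∧ IsEssFam φ S) ∧
        ∀ T, IsOpenFam T → IsEssFam φ T → (∀ x, S x ≤ T x) → ∀ x, T x ≤ S x := by
  let S₀ : ∀ x : X, Submodule (X.presheaf.stalk x) (I.presheaf.stalk x) :=
    fun x => LinearMap.range (stalkLinear φ x)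
  let P : Set (∀ x : X, Submodule (X.presheaf.stalk x) (I.presheaf.stalk x)) :=
    {S | IsOpenFam S ∧ S₀ ≤ S ∧ IsEssFam φ S}
  have h0 : S₀ ∈ P := ⟨isOpenFam_range φ, le_rfl,
    fun x e he hne => ⟨1, by rwa [one_smul], by rwa [one_smul]⟩⟩
  have hchainbd : ∀ c ⊆ P, IsChain (· ≤ ·) c → ∀ y ∈ c, ∃ ub ∈ P, ∀ z ∈ c, z ≤ ub := by
    intro c hc hchain y hy
    haveI : Nonempty c := ⟨⟨y, hy⟩⟩
    let T : ∀ x : X, Submodule (X.presheaf.stalk x) (I.presheaf.stalk x) :=
      fun x => ⨆ S : c, S.1 x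
    have hmem : ∀ (x : X) (e), e ∈ T x ↔ ∃ S : c, e ∈ S.1 x := fun x e =>
      Submodule.mem_iSup_of_directed _ (fun a b => by
        rcases hchain.total a.2 b.2 with h | h
        exacts [⟨b, h x, le_rfl⟩, ⟨a, le_rfl, h x⟩])
    refine ⟨T, ⟨fun x e he => ?_, fun x => ?_, fun x e he hne => ?_⟩,
      fun S hS x => le_iSup (fun S : c => S.1 x) ⟨S, hS⟩⟩
    · obtain ⟨S, hS⟩ := (hmem x e).mp he
      obtain ⟨V, hx, s, hs, hs'⟩ := (hc S.2).1 x e hS
      exact ⟨V, hx, s, hs, fun z hz => (hmem z _).mpr ⟨S, hs' z hz⟩⟩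
    · exact ((hc hy).2.1 x).trans (le_iSup (fun S : c => S.1 x) ⟨y, hy⟩)
    · obtain ⟨S, hS⟩ := (hmem x e).mp he
      exact (hc S.2).2.2 x e hS hne
  obtain ⟨S, -, hS⟩ := zorn_le_nonempty₀ P hchainbd S₀ h0
  exact ⟨S, ⟨hS.1.1, fun x => hS.1.2.1 x, hS.1.2.2⟩, fun T h1 h2 h3 x =>
    hS.2 (y := T) ⟨h1, hS.1.2.1.trans h3, h2⟩ h3 x⟩

end Fam

section RestrictStalk

variable {U X : Scheme.{u}} (j : U ⟶ X) [IsOpenImmersion j]

/-- The stalk of a restriction as the stalk of the module. -/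
abbrev σM (M : X.Modules) (u : U) :
    (M.restrict j).presheaf.stalk u →+ M.presheaf.stalk (j u) :=
  ((Scheme.Modules.restrictStalkNatIso j u).hom.app M).hom

lemma exists_smul_restrictStalk' (M : X.Modules) (u : U) (c : X.presheaf.stalk (j u))
    (e : (M.restrict j).presheaf.stalk u) :
    ∃ c₀ : U.presheaf.stalk u, σM j M u (c₀ • e) = c • σM j M u e := by
  obtain ⟨V, huV, s, rfl⟩ := germM_exist e
  obtain ⟨W, hjW, a, rfl⟩ := TopCat.Presheaf.exists_germ_eq X.presheaf c
  let V' := V ⊓ j ⁻¹ᵁ W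
  have hu : u ∈ V' := ⟨huV, hjW⟩
  have hju : j u ∈ j ''ᵁ V' := ⟨u, hu, rfl⟩
  have hle : j ''ᵁ V' ≤ W := by rintro _ ⟨z, hz, rfl⟩; exact hz.2
  have hσ' : ∀ t : Γ(M.restrict j, V'),
      σM j M u (germM _ V' u hu t) = germM M _ (j u) hju ((M.restrictAppIso j V').hom t) := fun t =>
    congr($(Scheme.Modules.germ_restrictStalkNatIso_hom_app j u M hu) t)
  refine ⟨U.presheaf.germ V' u hu ((j.appIso V').hom (resO X hle a)), ?_⟩
  rw [← germM_res (inf_le_left : V' ≤ V) hu s, ← germM_smul, hσ', hσ',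
    Scheme.Modules.smul_restrictAppIso_hom_apply, germM_smul, Iso.hom_inv_id_apply, germ_resO]

lemma exists_smul_restrictStalk (M : X.Modules) (u : U) (c : U.presheaf.stalk u)
    (e : (M.restrict j).presheaf.stalk u) :
    ∃ c' : X.presheaf.stalk (j u), σM j M u (c • e) = c' • σM j M u e := by
  obtain ⟨W, huW, s, rfl⟩ := germM_exist e
  obtain ⟨W', huW', a, rfl⟩ := TopCat.Presheaf.exists_germ_eq U.presheaf c
  have hu : u ∈ W ⊓ W' := ⟨huW, huW'⟩
  have hju : j u ∈ j ''ᵁ (W ⊓ W') := ⟨u, hu, rfl⟩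
  have hσ : ∀ t : Γ(M.restrict j, W ⊓ W'),
      σM j M u (germM _ (W ⊓ W') u hu t) =
        germM M _ (j u) hju ((M.restrictAppIso j (W ⊓ W')).hom t) := fun t =>
    congr($(Scheme.Modules.germ_restrictStalkNatIso_hom_app j u M hu) t)
  rw [← germ_resO (inf_le_right : W ⊓ W' ≤ W') hu a, ← germM_res (inf_le_left : W ⊓ W' ≤ W) hu s,
    ← germM_smul, hσ, hσ, Scheme.Modules.smul_restrictAppIso_hom_apply]
  exact ⟨_, germM_smul hju _ _⟩

end RestrictStalk

section TildeEss

variable {R : CommRingCat.{u}}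

lemma germ_toTop_smul (T : ModuleCat.{u} R) (p : Spec R) (r : R) (t : T) :
    germM (tilde T) ⊤ p trivial (toTop T (r • t)) =
      (Spec R).presheaf.germ ⊤ p trivial ((Scheme.ΓSpecIso R).inv r) •
        germM (tilde T) ⊤ p trivial (toTop T t) := by
  rw [toTop_smul, resO_self, germM_smul]

lemma mem_basicOpen_ΓSpecIso (p : Spec R) (a : Γ(Spec R, ⊤)) :
    p ∈ (Spec R).basicOpen a ↔ (Scheme.ΓSpecIso R).hom a ∉ p.asIdeal := by
  rw [basicOpen_eq_of_affine']
  rfl

lemma germ_toTop_eq_zero_iff (T : ModuleCat.{u} R) (p : Spec R) (t : T) :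
    germM (tilde T) ⊤ p trivial (toTop T t) = 0 ↔ ∃ r : R, r ∉ p.asIdeal ∧ r • t = 0 := by
  constructor
  · intro h
    obtain ⟨a, ha, h0⟩ := stalk_exists_smul_eq_zero (isLocAt_of_isQuasicoherent _ (isAffineOpen_top _))
      (isAffineOpen_top _) (x := p) trivial (toTop T t) h
    refine ⟨_, (mem_basicOpen_ΓSpecIso p a).mp ha, toTop_injective T ?_⟩
    rw [toTop_smul, resO_self, Iso.hom_inv_id_apply, h0, map_zero]
  · rintro ⟨r, hr, h⟩
    have hu : IsUnit ((Spec R).presheaf.germ ⊤ p trivial ((Scheme.ΓSpecIso R).inv r)) :=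
      isUnit_germ (f := (Scheme.ΓSpecIso R).inv r)
        ((mem_basicOpen_ΓSpecIso p _).mpr (by rwa [Iso.inv_hom_id_apply]))
    refine hu.smul_eq_zero.mp ?_
    rw [← germ_toTop_smul, h, map_zero, germM_zero]

lemma exists_germ_toTop (T : ModuleCat.{u} R) (p : Spec R) (e : (tilde T).presheaf.stalk p) :
    ∃ (c : (Spec R).presheaf.stalk p) (t : T),
      IsUnit c ∧ c • e = germM (tilde T) ⊤ p trivial (toTop T t) := by
  obtain ⟨a, t, ha, ht⟩ := stalk_exists_smul (isLocAt_of_isQuasicoherent _ (isAffineOpen_top _))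
    (isAffineOpen_top _) (x := p) trivial e
  obtain ⟨t', rfl⟩ := (ConcreteCategory.bijective_of_isIso (tilde.toOpen T ⊤)).2 t
  exact ⟨_, t', isUnit_germ ha, ht⟩

lemma stalkMapM_tilde_map {T E : ModuleCat.{u} R} (f : T ⟶ E) (p : Spec R) (t : T) :
    stalkMapM (tilde.map f) p (germM (tilde T) ⊤ p trivial (toTop T t)) =
      germM (tilde E) ⊤ p trivial (toTop E (f t)) := by
  rw [stalkMapM_germ]
  exact congrArg _ (congr($(tilde.toOpen_map_app f ⊤) t))

/-- The stalks of the tilde of an essential extension. -/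
theorem tilde_map_essential [IsNoetherianRing R] {T E : ModuleCat.{u} R} (f : T ⟶ E)
    (hf : InjHull.IsEssentialInj f.hom) (p : Spec R) :
    Function.Injective (stalkMapM (tilde.map f) p) ∧
      ∀ e : (tilde E).presheaf.stalk p, e ≠ 0 → ∃ c : (Spec R).presheaf.stalk p,
        c • e ∈ LinearMap.range (stalkLinear (tilde.map f) p) ∧ c • e ≠ 0 := by
  constructor
  · refine (injective_iff_map_eq_zero (stalkLinear (tilde.map f) p)).mpr fun e he => ?_
    obtain ⟨c, t, hc, ht⟩ := exists_germ_toTop T p e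
    have h : stalkLinear (tilde.map f) p (c • e) = 0 := by rw [map_smul, he, smul_zero]
    rw [ht] at h
    obtain ⟨r, hr, h0⟩ := (germ_toTop_eq_zero_iff E p _).mp ((stalkMapM_tilde_map f p t).symm.trans h)
    refine hc.smul_eq_zero.mp (ht.trans ((germ_toTop_eq_zero_iff T p t).mpr ⟨r, hr, hf.injective ?_⟩))
    rw [map_smul, map_zero]
    exact h0
  · intro e he
    obtain ⟨c, x, hc, hx⟩ := exists_germ_toTop E p e
    have hx0 : germM (tilde E) ⊤ p trivial (toTop E x) ≠ 0 := fun h =>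
      he (hc.smul_eq_zero.mp (hx.trans h))
    obtain ⟨s, hs, hstab⟩ := InjHull18.exists_stable_smul p.asIdeal.primeCompl x
    have hsx : s • x ≠ 0 := fun h => hx0 ((germ_toTop_eq_zero_iff E p x).mpr ⟨s, hs, h⟩)
    obtain ⟨r, ⟨d, hd⟩, hr0⟩ := InjHull18.exists_smul_mem_range hf hsx
    refine ⟨(Spec R).presheaf.germ ⊤ p trivial ((Scheme.ΓSpecIso R).inv (r * s)) * c, ?_, ?_⟩
    · rw [mul_smul, hx, ← germ_toTop_smul, mul_smul, ← hd]
      exact ⟨_, stalkMapM_tilde_map f p d⟩
    · rw [mul_smul, hx, ← germ_toTop_smul, mul_smul]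
      intro h
      obtain ⟨v, hv, h0⟩ := (germ_toTop_eq_zero_iff E p _).mp h
      exact hr0 (hstab v r hv h0)

end TildeEss

section Envelope

variable {X : Scheme.{u}} {J I : X.Modules} [Injective I] (φ : J ⟶ I) [Mono φ]
  (S : ∀ x : X, Submodule (X.presheaf.stalk x) (I.presheaf.stalk x))
  (hS : IsOpenFam S) (hJS : ∀ x, LinearMap.range (stalkLinear φ x) ≤ S x) (hess : IsEssFam φ S)
  (hmax : ∀ T, IsOpenFam T → IsEssFam φ T → (∀ x, S x ≤ T x) → ∀ x, T x ≤ S x)

include hS hJS hess hmax in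
theorem exists_iso_tilde_injective [J.IsQuasicoherent] {R : CommRingCat.{u}} [IsNoetherianRing R]
    (j : Spec R ⟶ X) [IsOpenImmersion j] :
    ∃ E : ModuleCat.{u} R, Module.Injective R E ∧
      Nonempty ((famMod S).mod.restrict j ≅ tilde E) := by
  let F := Scheme.Modules.restrictFunctor j
  let N := famMod S
  let i : J ⟶ N.mod := N.lift φ fun V s y hy => hJS y ⟨germM J V y hy s, stalkMapM_germ φ hy s⟩
  have hi : i ≫ N.ι = φ := N.lift_ι φ _
  haveI : (J.restrict j).IsQuasicoherent := inferInstance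
  haveI : IsIso (J.restrict j).fromTildeΓ := (isQuasicoherent_iff_isIso_fromTildeΓ _).mp inferInstance
  obtain ⟨T, ⟨eT⟩⟩ : ∃ T : ModuleCat.{u} R, Nonempty (tilde T ≅ F.obj J) :=
    ⟨_, ⟨@asIso _ _ _ _ (J.restrict j).fromTildeΓ inferInstance⟩⟩
  obtain ⟨E, _, _, f, hf⟩ := InjHull18.exists_hull (R := R) T
  haveI : Injective (tilde (ModuleCat.of R E)) := injective_tilde _ hf.isInjective
  refine ⟨ModuleCat.of R E, hf.isInjective, ?_⟩
  let f' : T ⟶ ModuleCat.of R E := ModuleCat.ofHom f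
  let a : F.obj J ⟶ tilde (ModuleCat.of R E) := eT.inv ≫ tilde.map f'
  have ha : ∀ u, Function.Injective (stalkMapM a u) := fun u => by
    intro s t h
    rw [stalkMapM_comp, stalkMapM_comp] at h
    exact (bijective_stalkMapM_of_isIso (eT.inv) u).1
      ((tilde_map_essential f' hf.toIsEssentialInj u).1 h)
  have ha' : ∀ u (e : (tilde (ModuleCat.of R E)).presheaf.stalk u), e ≠ 0 →
      ∃ c, ∃ d, c • e = stalkMapM a u d ∧ c • e ≠ 0 := fun u e he => by
    obtain ⟨c, ⟨d, hd⟩, hc⟩ := (tilde_map_essential f' hf.toIsEssentialInj u).2 e he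
    obtain ⟨d', rfl⟩ := (bijective_stalkMapM_of_isIso (eT.inv) u).2 d
    exact ⟨c, d', by rw [stalkMapM_comp]; exact hd.symm, hc⟩
  haveI : Mono (F.map i) := by
    haveI : Mono i := mono_of_mono_fac hi
    infer_instance
  let g : F.obj N.mod ⟶ tilde (ModuleCat.of R E) := Injective.factorThru a (F.map i)
  have hg : F.map i ≫ g = a := Injective.comp_factorThru _ _
  let σ := fun (u : Spec R) (M : X.Modules) => σM j M u
  have hσ : ∀ u M, Function.Bijective (σ u M) := fun u M => ConcreteCategory.bijective_of_isIso _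
  haveI : Mono g := by
    refine mono_of_injective_stalkMapM _ fun u =>
      (injective_iff_map_eq_zero (stalkLinear g u)).mpr fun e he => by_contra fun hne => ?_
    have hι : Function.Injective (stalkMapM (F.map N.ι) u) := injective_stalkMapM_of_mono _ _
    let e' := σ u I (stalkMapM (F.map N.ι) u e)
    have he' : e' ∈ S (j u) := by
      rw [← range_stalk_famMod hS]
      exact ⟨σ u N.mod e, (stalkMapM_restrict_conj j N.ι u e).symm⟩
    have he0 : e' ≠ 0 := fun h => hne (hι (((hσ u I).1 (h.trans (map_zero (σ u I)).symm)).trans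
      (map_zero (stalkLinear (F.map N.ι) u)).symm))
    obtain ⟨c, ⟨d, hd⟩, hc⟩ := hess _ e' he' he0
    obtain ⟨d', rfl⟩ := (hσ u J).2 d
    obtain ⟨c₀, hc₀'⟩ := exists_smul_restrictStalk' j I u c (stalkMapM (F.map N.ι) u e)
    have hc₀ := hc₀'.symm
    have h1 : c₀ • stalkMapM (F.map N.ι) u e = stalkMapM (F.map φ) u d' := by
      refine (hσ u I).1 (hc₀.symm.trans (hd.symm.trans ?_))
      exact (stalkMapM_restrict_conj j φ u d').symm
    have h2 : c₀ • e = stalkMapM (F.map i) u d' := hι (by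
      rw [← stalkMapM_comp, ← F.map_comp, hi, ← h1]
      exact map_smul (stalkLinear (F.map N.ι) u) c₀ e)
    have h3 : stalkMapM a u d' = 0 := by
      rw [← hg, stalkMapM_comp, ← h2]
      exact (map_smul (stalkLinear g u) c₀ e).trans (by rw [he, smul_zero])
    refine hc (hc₀.trans ?_)
    rw [h1, ha u (h3.trans (map_zero (stalkLinear a u)).symm)]
    exact (congrArg (σ u I) (map_zero (stalkLinear (F.map φ) u))).trans (map_zero (σ u I))
  haveI := injective_restrict j I
  let h : tilde (ModuleCat.of R E) ⟶ F.obj I := Injective.factorThru (F.map N.ι) g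
  have hh : g ≫ h = F.map N.ι := Injective.comp_factorThru _ _
  have hah : a ≫ h = F.map φ := by rw [← hg, Category.assoc, hh, ← F.map_comp, hi]
  have hhinj : ∀ u, Function.Injective (stalkMapM h u) := fun u =>
    (injective_iff_map_eq_zero (stalkLinear h u)).mpr fun e he => by_contra fun hne => by
      obtain ⟨c, d, hd, hc⟩ := ha' u e hne
      have h1 : stalkMapM (F.map φ) u d = 0 := by
        rw [← hah, stalkMapM_comp, ← hd]
        exact (map_smul (stalkLinear h u) c e).trans (by rw [he, smul_zero])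
      rw [injective_stalkMapM_of_mono (F.map φ) u
        (h1.trans (map_zero (stalkLinear (F.map φ) u)).symm)] at hd
      exact hc (hd.trans (map_zero (stalkLinear a u)))
  let adj := CxOX.extZeroAdj j
  let h' := (adj.homEquiv _ _).symm h
  have hh' : adj.unit.app _ ≫ F.map h' = h := by
    exact (Adjunction.homEquiv_unit _ _ _ _).symm.trans (Equiv.apply_symm_apply _ _)
  have hrange : ∀ (u : Spec R) (e : I.presheaf.stalk (j u)),
      e ∈ LinearMap.range (stalkLinear h' (j u)) ↔ ∃ w, e = σ u I (stalkMapM h u w) := fun u e => by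
    constructor
    · rintro ⟨v, rfl⟩
      obtain ⟨w', rfl⟩ := (hσ u _).2 v
      obtain ⟨w, rfl⟩ := (bijective_stalkMapM_of_isIso (adj.unit.app _) u).2 w'
      refine ⟨w, ?_⟩
      rw [← hh', stalkMapM_comp]
      exact (stalkMapM_restrict_conj j h' u _).symm
    · rintro ⟨w, rfl⟩
      refine ⟨σ u _ (stalkMapM (adj.unit.app _) u w), ?_⟩
      conv_rhs => rw [← hh', stalkMapM_comp]
      exact (stalkMapM_restrict_conj j h' u _).symm
  have hSle : ∀ u : Spec R, S (j u) ≤ LinearMap.range (stalkLinear h' (j u)) := fun u e he => by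
    rw [← range_stalk_famMod hS] at he
    obtain ⟨v, rfl⟩ := he
    obtain ⟨v', rfl⟩ := (hσ u N.mod).2 v
    refine (hrange u _).mpr ⟨stalkMapM g u v', ?_⟩
    rw [← stalkMapM_comp, hh]
    exact (stalkMapM_restrict_conj j N.ι u v').symm
  have hTle := hmax _ (isOpenFam_sup hS (isOpenFam_range h')) (fun x e he hne => by
    by_cases hx : x ∈ Set.range j
    · obtain ⟨u, rfl⟩ := hx
      rw [sup_eq_right.mpr (hSle u)] at he
      obtain ⟨w, rfl⟩ := (hrange u e).mp he
      have hw : w ≠ 0 := fun h0 => hne (by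
        rw [h0, show stalkMapM h u 0 = 0 from map_zero (stalkLinear h u)]
        exact map_zero (σ u I))
      obtain ⟨c, d, hd, hc⟩ := ha' u w hw
      obtain ⟨c', hc'⟩ := exists_smul_restrictStalk j I u c (stalkMapM h u w)
      have h1 : c • stalkMapM h u w = stalkMapM (F.map φ) u d := by
        rw [← hah, stalkMapM_comp, ← hd]
        exact (map_smul (stalkLinear h u) c w).symm
      refine ⟨c', ⟨σ u J d, ?_⟩, fun h0 => hc ?_⟩
      · rw [← hc', h1]
        exact (stalkMapM_restrict_conj j φ u d).symm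
      · refine hhinj u ?_
        refine ((map_smul (stalkLinear h u) c w).trans ?_).trans (map_zero (stalkLinear h u)).symm
        exact (hσ u I).1 (hc'.trans (h0.trans (map_zero (σ u I)).symm))
    · haveI := subsingleton_stalk_extZero j (tilde (ModuleCat.of R E)) hx
      have h0 : LinearMap.range (stalkLinear h' x) = ⊥ := by
        rw [LinearMap.range_eq_bot]
        exact LinearMap.ext fun v => by rw [Subsingleton.elim v 0, map_zero, map_zero]
      rw [h0, sup_bot_eq] at he
      exact hess x e he hne) (fun x => le_sup_left)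
  have hgsurj : ∀ u, Function.Surjective (stalkMapM g u) := fun u w => by
    have hw : σ u I (stalkMapM h u w) ∈ S (j u) :=
      hTle (j u) (Submodule.mem_sup_right ((hrange u _).mpr ⟨w, rfl⟩))
    rw [← range_stalk_famMod hS] at hw
    obtain ⟨v, hv⟩ := hw
    obtain ⟨v', rfl⟩ := (hσ u N.mod).2 v
    refine ⟨v', hhinj u ((hσ u I).1 ?_)⟩
    rw [← stalkMapM_comp, hh]
    exact (stalkMapM_restrict_conj j N.ι u v').trans hv
  haveI : IsIso g := isIso_of_bijective_stalkMapM _ fun u =>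
    ⟨injective_stalkMapM_of_mono g u, hgsurj u⟩
  exact ⟨asIso g⟩

end Envelope

/-- Quasi-coherent modules on locally Noetherian schemes embed in quasi-coherent injective modules. -/
theorem exists_qcoh_injective_hull {X : Scheme.{u}} [IsLocallyNoetherian X] (J : X.Modules)
    [J.IsQuasicoherent] :
    ∃ (H : X.Modules) (i : J ⟶ H), Mono i ∧ H.IsQuasicoherent ∧ Injective H := by
  haveI : EnoughInjectives X.Modules := inferInstance
  let φ : J ⟶ Injective.under J := Injective.ι J
  obtain ⟨S, ⟨hS, hJS, hess⟩, hmax⟩ := exists_maximal_essFam φ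
  let i : J ⟶ (famMod S).mod :=
    (famMod S).lift φ fun V s y hy => hJS y ⟨germM J V y hy s, stalkMapM_germ φ hy s⟩
  have key : ∀ U : X.affineOpens, ∃ E : ModuleCat.{u} Γ(X, U.1), Module.Injective Γ(X, U.1) E ∧
      Nonempty ((famMod S).mod.restrict U.2.fromSpec ≅ tilde E) := fun U => by
    haveI := IsLocallyNoetherian.component_noetherian U
    exact exists_iso_tilde_injective φ S hS hJS hess hmax U.2.fromSpec
  refine ⟨(famMod S).mod, i, mono_of_mono_fac ((famMod S).lift_ι φ _), ?_, ?_⟩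
  · refine isQuasicoherent_of_forall_isLocAt _ fun U hU => ?_
    obtain ⟨E, -, ⟨e⟩⟩ := key ⟨U, hU⟩
    exact (isLocAt_iff_isIso_fromTildeΓ _ hU).mpr (isIso_fromTildeΓ_iff.mpr ⟨E, ⟨e.symm⟩⟩)
  · refine injective_of_locally_injective _ fun x => ?_
    obtain ⟨_, ⟨U, hU, rfl⟩, hxU, -⟩ :=
      X.isBasis_affineOpens.exists_subset_of_mem_open (Set.mem_univ x) isOpen_univ
    refine ⟨U, hxU, ?_⟩
    haveI := IsLocallyNoetherian.component_noetherian (⟨U, hU⟩ : X.affineOpens)
    obtain ⟨E, hE, ⟨e⟩⟩ := key ⟨U, hU⟩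
    haveI : Injective ((famMod S).mod.restrict hU.fromSpec) :=
      Injective.of_iso e.symm (injective_tilde E hE)
    exact Injective.of_iso (((Scheme.Modules.restrictFunctorComp hU.isoSpec.hom hU.fromSpec).app _).symm
      ≪≫ (Scheme.Modules.restrictFunctorCongr hU.isoSpec_hom_fromSpec).app _)
      (((restrictEquiv hU.isoSpec).map_injective_iff _).mpr inferInstance)

end Groth.Agent.QC70
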