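import Mathlib.CategoryTheory.Abelian.RightDerived
import Mathlib.Algebra.Homology.ShortComplex.ExactFunctor
import Mathlib.CategoryTheory.Preadditive.Injective.Basic

set_option autoImplicit false
set_option backward.isDefEq.respectTransparency.types false

/-! Composite of a left exact functor preserving injectives, on acyclic objects, with a second functor. -/

universe v u v' u' v'' u''

open CategoryTheory Limits

namespace Groth.Agent.QC70

variable {A : Type u} [Category.{v} A] [Abelian A] [HasInjectiveResolutions A]
  {B : Type u'} [Category.{v'} B] [Abelian B] [HasInjectiveResolutions B]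
  {C : Type u''} [Category.{v''} C] [Abelian C]
  (G : A ⥤ B) [G.Additive] [PreservesFiniteLimits G]

/-- The image of an injective resolution of an acyclic object. -/
noncomputable def mapRes (hG : ∀ I : A, Injective I → Injective (G.obj I)) {X : A}
    (R : InjectiveResolution X) (h : ∀ n : ℕ, IsZero ((G.rightDerived (n + 1)).obj X)) :
    InjectiveResolution (G.obj X) where
  cocomplex := (G.mapHomologicalComplex _).obj R.cocomplex
  injective n := hG _ (R.injective n)
  ι := (HomologicalComplex.singleMapHomologicalComplex G (ComplexShape.up ℕ) 0).inv.app X ≫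
    (G.mapHomologicalComplex _).map R.ι
  quasiIso := by
    haveI : QuasiIso ((G.mapHomologicalComplex _).map R.ι) := ⟨fun i => by
      cases i with
      | zero =>
        rw [CochainComplex.quasiIsoAt₀_iff, ShortComplex.quasiIso_iff_of_zeros]
        · have hk := KernelFork.mapIsLimit _ R.isLimitKernelFork G
          haveI : Mono (G.map (R.ι.f 0)) := mono_of_isLimit_fork hk
          refine ⟨?_, ?_⟩
          · exact ShortComplex.exact_of_f_is_kernel _ hk
          · exact inferInstanceAs (Mono (G.map (R.ι.f 0)))
        all_goals first | (simp; done) | (simp; rfl) | exact G.map_zero _ _ | (simp; exact G.map_zero _ _)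
      | succ n =>
        rw [quasiIsoAt_iff_exactAt]
        · rw [HomologicalComplex.exactAt_iff_isZero_homology]
          exact IsZero.of_iso (h n) (R.isoRightDerivedObj G (n + 1)).symm
        · rw [HomologicalComplex.exactAt_iff]
          refine ShortComplex.exact_of_isZero_X₂ _ (G.map_isZero ?_)
          exact HomologicalComplex.isZero_single_obj_X _ 0 X (n + 1) (by simp)⟩
    infer_instance

/-- `R^p(H ∘ G) X ≅ R^p H (G X)` for `G`-acyclic `X`. -/
theorem nonempty_rightDerived_comp_iso (H : B ⥤ C) [H.Additive]
    (hG : ∀ I : A, Injective I → Injective (G.obj I)) (X : A)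
    (h : ∀ n : ℕ, IsZero ((G.rightDerived (n + 1)).obj X)) (p : ℕ) :
    Nonempty ((H.rightDerived p).obj (G.obj X) ≅ ((G ⋙ H).rightDerived p).obj X) :=
  let R := injectiveResolution X
  ⟨(mapRes G hG R h).isoRightDerivedObj H p ≪≫ (R.isoRightDerivedObj (G ⋙ H) p).symm⟩

end Groth.Agent.QC70
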