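import Groth.Agent.QC70.HomMod
import Groth.Agent.QC70.ExtZero
import Groth.Agent.QC70.CompDerived
import Groth.Agent.SiteCoh.ExtRes
import Groth.Prelude.Def_ModSite2

set_option autoImplicit false
set_option backward.isDefEq.respectTransparency.types false

/-! Restriction of `𝓗om` and of the `Ext` sheaves to opens. -/

noncomputable section

universe u

open CategoryTheory Limits AlgebraicGeometry TopologicalSpace Opposite

namespace Groth.Agent.QC70

variable {X Y : Scheme.{u}} (j : Y ⟶ X) [IsOpenImmersion j] (F : X.Modules) {G : X.Modules}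
  {W : Y.Opens}

lemma image_preimage_of_le_image {V : X.Opens} (hV : V ≤ j ''ᵁ W) : j ''ᵁ (j ⁻¹ᵁ V) = V := by
  rw [Scheme.Hom.image_preimage_eq_opensRange_inf, inf_eq_right]
  exact hV.trans (by rintro _ ⟨y, -, rfl⟩; exact ⟨y, rfl⟩)

lemma preimage_le_of_le_image {V : X.Opens} (hV : V ≤ j ''ᵁ W) : j ⁻¹ᵁ V ≤ W := fun y hy => by
  obtain ⟨z, hz, e⟩ := hV hy
  exact j.isOpenEmbedding.injective e ▸ hz

/-- A local morphism on an image open, as a local morphism of restricted modules. -/
def HomOn.restrictJ (φ : HomOn F G (j ''ᵁ W)) : HomOn (F.restrict j) (G.restrict j) W where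
  app W' hW' :=
    { toFun := fun s => (G.restrictAppIso j W').inv
        (φ.app _ (j.image_mono hW') ((F.restrictAppIso j W').hom s))
      map_add' := fun s t => by rw [map_add, map_add, map_add]
      map_smul' := fun r s => by
        refine (congrArg (G.restrictAppIso j W').inv
          ((congrArg (φ.app _ (j.image_mono hW'))
            (Scheme.Modules.smul_restrictAppIso_hom_apply j F W' r s)).trans
              (map_smul _ _ _))).trans ?_
        apply (G.restrictAppIso j W').addCommGroupIsoToAddEquiv.injective
        exact (Scheme.Modules.smul_restrictAppIso_hom_apply j G W' r _).symm }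
  app_res hW h s := φ.app_res (j.image_mono hW) (j.image_mono h) _

lemma HomOn.restrictJ_app (φ : HomOn F G (j ''ᵁ W)) {W' : Y.Opens} (hW' : W' ≤ W)
    (s : Γ(F.restrict j, W')) :
    (G.restrictAppIso j W').hom ((φ.restrictJ j F).app W' hW' s) =
      φ.app _ (j.image_mono hW') ((F.restrictAppIso j W').hom s) := rfl

/-- A local morphism of restricted modules, as a local morphism on an image open. -/
def HomOn.extendJ (ψ : HomOn (F.restrict j) (G.restrict j) W) : HomOn F G (j ''ᵁ W) where
  app V hV :=
    { toFun := fun s => res G (image_preimage_of_le_image j hV).ge ((G.restrictAppIso j _).hom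
        (ψ.app _ (preimage_le_of_le_image j hV)
          ((F.restrictAppIso j _).inv (res F (image_preimage_of_le_image j hV).le s))))
      map_add' := fun s t => by rw [res_add, map_add, map_add, map_add, res_add]
      map_smul' := fun r s => by
        rw [res_smul, Scheme.Modules.smul_restrictAppIso_inv_apply, LinearMap.map_smul,
          Scheme.Modules.smul_restrictAppIso_hom_apply, res_smul, Iso.hom_inv_id_apply, resO_resO,
          resO_self]
        rfl }
  app_res {V V'} hV h s := by
    simp only [LinearMap.coe_mk, AddHom.coe_mk]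
    have h' : j ⁻¹ᵁ V' ≤ j ⁻¹ᵁ V := fun x hx => h hx
    rw [res_res, ← res_res (image_preimage_of_le_image j hV).le (j.image_mono h') s]
    change res G _ ((G.restrictAppIso j _).hom (ψ.app _ _ (res (F.restrict j) h'
      ((F.restrictAppIso j _).inv (res F (image_preimage_of_le_image j hV).le s))))) = _
    rw [ψ.app_res (preimage_le_of_le_image j hV) h']
    change res G _ (res G (j.image_mono h') ((G.restrictAppIso j _).hom _)) = _
    rw [res_res, res_res]
    rfl

lemma HomOn.extendJ_restrictJ (φ : HomOn F G (j ''ᵁ W)) : (φ.restrictJ j F).extendJ j F = φ := by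
  refine HomOn.ext' fun V hV s => ?_
  change res G _ ((G.restrictAppIso j _).hom ((φ.restrictJ j F).app _ _ _)) = _
  rw [HomOn.restrictJ_app, Iso.inv_hom_id_apply,
    φ.app_res hV (image_preimage_of_le_image j hV).le, res_res, res_self]

lemma HomOn.restrictJ_extendJ (ψ : HomOn (F.restrict j) (G.restrict j) W) :
    (ψ.extendJ j F).restrictJ j F = ψ := by
  refine HomOn.ext' fun W' hW' s => ?_
  have e : j ⁻¹ᵁ (j ''ᵁ W') = W' := j.preimage_image_eq W'
  change res (G.restrict j) e.ge (ψ.app _ _ (res (F.restrict j) e.le s)) = _
  rw [ψ.app_res hW' e.le, res_res, res_self]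

/-- Restriction of `𝓗om`, on one argument. -/
def homRestrictApp (G : X.Modules) : (homMod F G).restrict j ≅ homMod (F.restrict j) (G.restrict j) where
  hom := HomOn.toHom
    { app := fun W _ =>
        { toFun := fun φ => ((ofSec ((homMod F G).restrictAppIso j W |>.hom φ)).restrictJ j F).toSec
          map_add' := fun φ φ' => HomOn.ext' fun W' hW' s => map_add (G.restrictAppIso j W').inv.hom _ _
          map_smul' := fun r φ => HomOn.ext' fun W' hW' s => by
            apply (G.restrictAppIso j W').addCommGroupIsoToAddEquiv.injective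
            refine Eq.trans ?_ (Scheme.Modules.smul_restrictAppIso_hom_apply j G W' _ _).symm
            exact congrArg (fun t : Γ(X, j ''ᵁ W') => t • (show Γ(G, j ''ᵁ W') from
              (ofSec ((homMod F G).restrictAppIso j W |>.hom φ)).app _ (j.image_mono hW')
                ((F.restrictAppIso j W').hom s)))
              (congr($(j.appIso_inv_naturality (homOfLE hW').op) r)).symm }
      app_res := fun _ _ _ => HomOn.ext' fun _ _ _ => rfl }
  inv := HomOn.toHom
    { app := fun W _ =>
        { toFun := fun ψ => ((homMod F G).restrictAppIso j W).inv (((ofSec ψ).extendJ j F).toSec)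
          map_add' := fun ψ ψ' => HomOn.ext' fun V hV s => by
            change res G _ ((G.restrictAppIso j _).hom (_ + _)) = res G _ _ + res G _ _
            rw [map_add, res_add]
          map_smul' := fun r ψ => HomOn.ext' fun V hV s => by
            have hV' := preimage_le_of_le_image j hV
            change res G (image_preimage_of_le_image j hV).ge ((G.restrictAppIso j _).hom
              (resO Y hV' r • _)) = resO X hV ((j.appIso W).inv r) • _
            rw [Scheme.Modules.smul_restrictAppIso_hom_apply, res_smul]
            congr 1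
            refine (congrArg (resO X (image_preimage_of_le_image j hV).ge)
              (congr($(j.appIso_inv_naturality (homOfLE hV').op) r))).trans ?_
            exact resO_resO (j.image_mono hV') _ _ }
      app_res := fun {W W'} _ hle ψ => HomOn.ext' fun V hV s => rfl }
  hom_inv_id := Scheme.Modules.hom_ext _ _ fun W => by
    ext φ
    exact HomOn.extendJ_restrictJ j F (ofSec φ)
  inv_hom_id := Scheme.Modules.hom_ext _ _ fun W => by
    ext ψ
    exact HomOn.restrictJ_extendJ j F (ofSec ψ)

/-- Restriction commutes with `𝓗om`. -/
def homRestrictIso : homFunctor F ⋙ Scheme.Modules.restrictFunctor j ≅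
    Scheme.Modules.restrictFunctor j ⋙ homFunctor (F.restrict j) :=
  NatIso.ofComponents (homRestrictApp j F) fun {G G'} g => Scheme.Modules.hom_ext _ _ fun W => by
    ext φ
    exact HomOn.ext' fun W' hW' s => rfl

/-- The higher derived functors of an exact functor vanish. -/
theorem isZero_rightDerived_of_preservesHomology {C D : Type*} [Category C] [Category D]
    [Abelian C] [Abelian D] [HasInjectiveResolutions C] (T : C ⥤ D) [T.Additive]
    [T.PreservesHomology] (M : C) (n : ℕ) : IsZero ((T.rightDerived (n + 1)).obj M) := by
  let R := injectiveResolution M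
  refine IsZero.of_iso ?_ (R.isoRightDerivedObj T (n + 1))
  refine IsZero.of_iso ?_ ((R.cocomplex.sc (n + 1)).mapHomologyIso T)
  exact T.map_isZero ((R.cocomplex_exactAt_succ n).isZero_homology)

theorem nonempty_extSh_restrict [ModSite.HasSheafHom (O := X.sheaf) F]
    [HasInjectiveResolutions (ModSite.Mod X.sheaf)]
    [ModSite.HasSheafHom (O := Y.sheaf) (F.restrict j)]
    [HasInjectiveResolutions (ModSite.Mod Y.sheaf)] (G : X.Modules) (i : ℕ) :
    Nonempty ((Scheme.Modules.restrictFunctor j).obj ((ModSite.extSh (O := X.sheaf) F i).obj G) ≅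
      (ModSite.extSh (O := Y.sheaf) (F.restrict j) i).obj (G.restrict j)) := by
  let R := Scheme.Modules.restrictFunctor j
  haveI : HasInjectiveResolutions X.Modules := ‹HasInjectiveResolutions (ModSite.Mod X.sheaf)›
  haveI : HasInjectiveResolutions Y.Modules := ‹HasInjectiveResolutions (ModSite.Mod Y.sheaf)›
  haveI : EnoughInjectives X.Modules := ⟨fun M => by
    let P := injectiveResolution M
    haveI h : Mono (P.ι.f 0) := by infer_instance
    exact ⟨⟨P.cocomplex.X 0, P.injective 0, P.ι.f 0, h⟩⟩⟩
  let T : X.Modules ⥤ X.Modules := ModSite.sheafHom (O := X.sheaf) F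
  let T' : Y.Modules ⥤ Y.Modules := ModSite.sheafHom (O := Y.sheaf) (F.restrict j)
  haveI : T.Additive := (haveI := (homModAdj F).right_adjoint_additive;
    Functor.additive_of_iso (sheafHomIso' F).symm)
  haveI : T'.Additive := (haveI := (homModAdj (F.restrict j)).right_adjoint_additive;
    Functor.additive_of_iso (sheafHomIso' (F.restrict j)).symm)
  let e : T ⋙ R ≅ R ⋙ T' :=
    Functor.isoWhiskerRight (sheafHomIso' F) R ≪≫ homRestrictIso j F ≪≫
      Functor.isoWhiskerLeft R (sheafHomIso' (F.restrict j)).symm
  obtain ⟨e'⟩ := nonempty_rightDerived_comp_iso R T' (fun I hI => @injective_restrict _ _ j _ I hI) G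
    (fun n => isZero_rightDerived_of_preservesHomology R G n) i
  exact ⟨((SiteCoh.rightDerivedCompExactIso T R i).app G).symm ≪≫
    ({ hom := (NatTrans.rightDerived e.hom i).app G
       inv := (NatTrans.rightDerived e.inv i).app G
       hom_inv_id := by
        rw [← NatTrans.comp_app, ← NatTrans.rightDerived_comp, e.hom_inv_id,
          NatTrans.rightDerived_id]
        rfl
       inv_hom_id := by
        rw [← NatTrans.comp_app, ← NatTrans.rightDerived_comp, e.inv_hom_id,
          NatTrans.rightDerived_id]
        rfl } : ((T ⋙ R).rightDerived i).obj G ≅ ((R ⋙ T').rightDerived i).obj G) ≪≫ e'.symm⟩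

end Groth.Agent.QC70
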