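import Groth.Agent.QC70.PushFinite
import Groth.Agent.QC70.SkyStalk
import Groth.Agent.QC70.UnitSub
import Groth.Agent.QC70.GenIso
import Groth.Agent.QC70.DevissageAux
import Mathlib.RingTheory.Algebraic.Integral

set_option autoImplicit false
set_option backward.isDefEq.respectTransparency.types false

/-! Finite surjective morphisms of integral schemes at the generic points. -/

noncomputable section

universe u

open CategoryTheory Limits AlgebraicGeometry TopologicalSpace Opposite

namespace Groth.Agent.QC70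

section UnitDesc

variable {X : Scheme.{u}}

lemma unitHom_comp {N N' : X.Modules} (t : Γ(N, ⊤)) (φ : N ⟶ N') :
    unitHom t ≫ φ = unitHom (φ.app ⊤ t) := by
  refine Scheme.Modules.hom_ext _ _ fun V => ?_
  ext a
  change φ.app V ((show Γ(X, V) from a) • res N le_top t) =
    (show Γ(X, V) from a) • res N' le_top (φ.app ⊤ t)
  rw [Scheme.Modules.Hom.app_smul, app_res]

lemma stalkMapM_desc_unitHom {N : X.Modules} {n : ℕ} (s : Fin n → Γ(N, ⊤)) (x : X)
    (c : Fin n → X.presheaf.stalk x) :
    stalkMapM (biproduct.desc fun i => unitHom (s i)) x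
        ((biproductStalkEquiv (fun _ : Fin n => unitMod X) x).symm
          fun i => unitStalkEquiv x (c i)) =
      ∑ i, c i • germM N ⊤ x trivial (s i) := by
  change stalkLinear (biproduct.desc fun i => unitHom (s i)) x
    ((∑ i, (stalkLinear (biproduct.ι (fun _ : Fin n => unitMod X) i) x).comp
      (LinearMap.proj i)) fun i => unitStalkEquiv x (c i)) = _
  rw [LinearMap.sum_apply, map_sum]
  refine Finset.sum_congr rfl fun i _ => ?_
  rw [LinearMap.comp_apply, LinearMap.proj_apply]
  change stalkMapM _ x (stalkMapM (biproduct.ι _ i) x _) = _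
  rw [← stalkMapM_comp, biproduct.ι_desc,
    show unitStalkEquiv x (c i) = c i • germM (unitMod X) ⊤ x trivial (toUnit 1) from rfl]
  refine ((stalkLinear (unitHom (s i)) x).map_smul _ _).trans (congrArg (c i • ·) ?_)
  change stalkMapM (unitHom (s i)) x (germM _ ⊤ x trivial (toUnit 1)) = _
  rw [stalkMapM_germ, unitHom_app_one]

lemma bijective_stalk_desc_unitHom {N : X.Modules} {n : ℕ} (s : Fin n → Γ(N, ⊤)) (x : X)
    (h : Function.Bijective fun c : Fin n → X.presheaf.stalk x =>
      ∑ i, c i • germM N ⊤ x trivial (s i)) :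
    Function.Bijective (stalkMapM (biproduct.desc fun i => unitHom (s i)) x) := by
  let e : (Fin n → X.presheaf.stalk x) → (⨁ fun _ : Fin n => unitMod X).presheaf.stalk x :=
    fun c => (biproductStalkEquiv (fun _ : Fin n => unitMod X) x).symm fun i => unitStalkEquiv x (c i)
  have he : Function.Bijective e :=
    (biproductStalkEquiv (fun _ : Fin n => unitMod X) x).symm.bijective.comp
      (Function.Bijective.piMap fun _ => (unitStalkEquiv x).bijective)
  refine (Function.Bijective.of_comp_iff _ he).mp ?_
  convert h using 1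
  exact funext fun c => stalkMapM_desc_unitHom s x c

end UnitDesc

variable {X Y : Scheme.{u}} [IsIntegral X] [IsIntegral Y] (f : X ⟶ Y)

lemma apply_genericPoint [Surjective f] : f (genericPoint X) = genericPoint Y := by
  have h : IsGenericPoint (f (genericPoint X)) (Set.univ : Set Y) := by
    have h' := (genericPoint_spec X).image f.continuous
    rwa [Set.image_univ, f.surjective.range_eq, closure_univ] at h'
  exact (genericPoint_spec Y).eq h |>.symm

/-- A sheaf of rational functions. -/
abbrev ratMod (X : Scheme.{u}) [IsIntegral X] : X.Modules :=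
  skyMod (genericPoint X) (X.presheaf.stalk (genericPoint X))

lemma torsion_rat : ∀ r ∈ IsLocalRing.maximalIdeal (X.presheaf.stalk (genericPoint X)),
    ∀ t : X.presheaf.stalk (genericPoint X), ∃ n : ℕ, r ^ n • t = 0 := fun r hr t => by
  have hm := IsLocalRing.isField_iff_maximalIdeal_eq.mp
    (Field.toIsField X.functionField)
  have hr0 : r = 0 := by rwa [show IsLocalRing.maximalIdeal (X.presheaf.stalk (genericPoint X)) = ⊥
    from hm, Ideal.mem_bot] at hr
  exact ⟨1, by rw [hr0, pow_one, zero_smul]⟩

lemma isSky_ratMod : IsSky (ratMod X) (genericPoint X) := isSky_skyMod _ _ torsion_rat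

theorem isSky_push_ratMod : IsSky ((Scheme.Modules.pushforward f).obj (ratMod X)) (f (genericPoint X)) :=
  isSky_ratMod.pushforward f

/-- Rational functions upstairs have a basis of global sections over rational functions downstairs. -/
theorem exists_basis [IsFinite f] [Surjective f] :
    ∃ (r : ℕ) (s : Fin r → Γ((Scheme.Modules.pushforward f).obj (ratMod X), ⊤)), 0 < r ∧
      Function.Bijective fun c : Fin r → Y.presheaf.stalk (f (genericPoint X)) =>
        ∑ i, c i • germM ((Scheme.Modules.pushforward f).obj (ratMod X)) ⊤ (f (genericPoint X))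
          trivial (s i) := by
  classical
  let ξ := genericPoint X
  let T := (Scheme.Modules.pushforward f).obj (ratMod X)
  have hη : IsField (Y.presheaf.stalk (f ξ)) :=
    (apply_genericPoint f).symm ▸ Field.toIsField Y.functionField
  obtain ⟨_, ⟨V, hV, rfl⟩, hηV, -⟩ :=
    Y.isBasis_affineOpens.exists_subset_of_mem_open (Set.mem_univ (f ξ)) isOpen_univ
  let U := f ⁻¹ᵁ V
  have hξU : ξ ∈ U := hηV
  haveI : Nonempty U := ⟨⟨ξ, hξU⟩⟩
  haveI : Nonempty V := ⟨⟨f ξ, hηV⟩⟩
  letI := (f.app V).hom.toAlgebra
  haveI : Module.Finite Γ(Y, V) Γ(X, U) := f.finite_app V hV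
  haveI : IsFractionRing Γ(X, U) X.functionField :=
    functionField_isFractionRing_of_isAffineOpen X U (hV.preimage f)
  obtain ⟨G, hG⟩ := (inferInstance : Module.Finite Γ(Y, V) Γ(X, U)).fg_top
  let H := ratMod X
  obtain ⟨o, ho⟩ := (isSky_ratMod.bijective_germ hξU).2
    (skyStalkMap ξ (X.presheaf.stalk ξ) 1)
  let φ : Γ(X, U) → T.presheaf.stalk (f ξ) := fun b =>
    germM T V (f ξ) hηV ((b • o : Γ(H, U)) : Γ(T, V))
  let P : Submodule (Y.presheaf.stalk (f ξ)) (T.presheaf.stalk (f ξ)) :=
    Submodule.span _ ((G.image φ : Finset _) : Set (T.presheaf.stalk (f ξ)))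
  have hsmul : ∀ (a : Γ(Y, V)) (y : Γ(H, U)),
      germM T V (f ξ) hηV (((f.app V a) • y : Γ(H, U)) : Γ(T, V)) =
        Y.presheaf.germ V (f ξ) hηV a • germM T V (f ξ) hηV (y : Γ(T, V)) := fun a y =>
    (congrArg (germM T V (f ξ) hηV) (QCqs72.pushforward_smul (M := H) f a (y : Γ(T, V))).symm).trans
      (germM_smul hηV _ _)
  have hφ : ∀ b, φ b ∈ P := fun b => by
    have hb : b ∈ Submodule.span Γ(Y, V) (G : Set Γ(X, U)) := hG ▸ trivial
    induction hb using Submodule.span_induction with
    | mem g hg => exact Submodule.subset_span (Finset.mem_coe.mpr (Finset.mem_image_of_mem φ hg))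
    | zero =>
      change germM T V (f ξ) hηV (((0 : Γ(X, U)) • o : Γ(H, U)) : Γ(T, V)) ∈ P
      rw [zero_smul]
      exact (show germM T V (f ξ) hηV 0 = 0 from germM_zero hηV) ▸ P.zero_mem
    | add b b' _ _ hb hb' =>
      change germM T V (f ξ) hηV (((b + b' : Γ(X, U)) • o : Γ(H, U)) : Γ(T, V)) ∈ P
      rw [add_smul]
      exact (germM_add (M := T) hηV _ _) ▸ P.add_mem hb hb'
    | smul a b _ hb =>
      change germM T V (f ξ) hηV (((a • b : Γ(X, U)) • o : Γ(H, U)) : Γ(T, V)) ∈ P
      rw [show a • b = f.app V a * b from Algebra.smul_def a b, mul_smul, hsmul]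
      exact P.smul_mem _ hb
  have htop : P = ⊤ := by
    refine eq_top_iff.mpr fun e _ => ?_
    obtain ⟨t, rfl⟩ := ((isSky_push_ratMod f).bijective_germ hηV).2 e
    obtain ⟨l, hl⟩ := (bijective_skyStalkMap ξ _ torsion_rat).2 (germM H U ξ hξU t)
    obtain ⟨b, c, hc, hbc⟩ := IsFractionRing.div_surjective (A := Γ(X, U)) (K := X.functionField) l
    have halg : IsAlgebraic Γ(Y, V) c :=
      haveI := Algebra.IsIntegral.of_finite Γ(Y, V) Γ(X, U)
      haveI : Nontrivial Γ(Y, V) := inferInstance
      (Algebra.IsIntegral.isIntegral c).isAlgebraic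
    obtain ⟨a, ha, d, hd⟩ := halg.exists_nonzero_dvd hc
    have hcne : X.presheaf.germ U ξ hξU c ≠ 0 :=
      IsFractionRing.to_map_ne_zero_of_mem_nonZeroDivisors (K := X.functionField) hc
    have hl' : X.presheaf.germ U ξ hξU c * l = X.presheaf.germ U ξ hξU b := by
      rw [← hbc]
      change algebraMap Γ(X, U) X.functionField c *
        (algebraMap Γ(X, U) X.functionField b / algebraMap Γ(X, U) X.functionField c) = _
      rw [mul_div_cancel₀ _ (show algebraMap Γ(X, U) X.functionField c ≠ 0 from hcne)]
      rfl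
    let t' : Γ(H, U) := t
    have hta : (f.app V a) • t' = (b * d) • o := by
      refine (isSky_ratMod.bijective_germ hξU).1 ?_
      rw [germM_smul, germM_smul, ho, ← hl, ← map_smul, ← map_smul]
      refine congrArg _ ?_
      rw [smul_eq_mul, smul_eq_mul, mul_one, map_mul, ← hl',
        show f.app V a = c * d from hd, map_mul]
      ring
    have hua : IsUnit (Y.presheaf.germ V (f ξ) hηV a) := by
      obtain ⟨a', ha'⟩ := hη.mul_inv_cancel
        (a := Y.presheaf.germ V (f ξ) hηV a) (fun h0 => ha (germ_injective_of_isIntegral Y (f ξ) hηV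
          (h0.trans (map_zero _).symm)))
      exact IsUnit.of_mul_eq_one a' ha'
    have := hφ (b * d)
    change germM T V (f ξ) hηV (((b * d : Γ(X, U)) • o : Γ(H, U)) : Γ(T, V)) ∈ P at this
    rw [← hta, hsmul] at this
    exact (Submodule.smul_mem_iff_of_isUnit P hua).mp this
  haveI : Module.Finite (Y.presheaf.stalk (f ξ)) (T.presheaf.stalk (f ξ)) :=
    ⟨⟨_, htop⟩⟩
  haveI : Nontrivial (T.presheaf.stalk (f ξ)) := by
    haveI : Nontrivial Γ(H, U) := by
      haveI : Nontrivial ((ratMod X).presheaf.stalk ξ) :=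
        (bijective_skyStalkMap ξ (X.presheaf.stalk ξ) torsion_rat).1.nontrivial
      exact (isSky_ratMod.bijective_germ hξU).2.nontrivial
    haveI : Nontrivial Γ(T, V) := ‹Nontrivial Γ(H, U)›
    exact (show Function.Injective (germM T V (f ξ) hηV) from
      ((isSky_push_ratMod f).bijective_germ hηV).1).nontrivial
  letI : Field (Y.presheaf.stalk (f ξ)) := hη.toField
  let bs := Module.finBasis (Y.presheaf.stalk (f ξ)) (T.presheaf.stalk (f ξ))
  choose s hs using fun i => ((isSky_push_ratMod f).bijective_germ (W := ⊤) trivial).2 (bs i)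
  refine ⟨_, s, Module.finrank_pos, ?_⟩
  simp only [hs]
  convert bs.equivFun.symm.bijective using 1
  exact funext fun c => (bs.equivFun_symm_apply c).symm

/-- Coherent module upstairs with a map from a free module, bijective at the generic point. -/
theorem exists_coh_basis [IsFinite f] [Surjective f] [IsLocallyNoetherian X] :
    ∃ (r : ℕ) (M : X.Modules) (m : Fin r → Γ((Scheme.Modules.pushforward f).obj M, ⊤)),
      0 < r ∧ Coh.IsCoh M ∧ Function.Bijective
        (stalkMapM (biproduct.desc fun i => unitHom (m i)) (f (genericPoint X))) := by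
  obtain ⟨r, s, hr, hs⟩ := exists_basis f
  let φ : (⨁ fun _ : Fin r => unitMod X) ⟶ ratMod X :=
    biproduct.desc fun i => unitHom (N := ratMod X) (s i)
  let M := Abelian.image φ
  have hfree : Coh.IsCoh (⨁ fun _ : Fin r => unitMod X) :=
    isCoh_biproduct _ fun _ => isCoh_unit
  haveI := hfree.1
  haveI := hfree.2
  haveI : (ratMod X).IsQuasicoherent := isQuasicoherent_skyMod _ _
  haveI hM₁ : M.IsQuasicoherent := isQuasicoherent_abelianImage φ
  have hM : Coh.IsCoh M := ⟨hM₁, isFiniteType_of_epi (Abelian.factorThruImage φ)⟩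
  let m : Fin r → Γ((Scheme.Modules.pushforward f).obj M, ⊤) := fun i =>
    (biproduct.ι (fun _ : Fin r => unitMod X) i ≫ Abelian.factorThruImage φ).app ⊤ (toUnit 1)
  refine ⟨r, M, m, hr, hM, ?_⟩
  let P := Scheme.Modules.pushforward f
  haveI := (Scheme.Modules.pullbackPushforwardAdjunction f).rightAdjoint_preservesLimits
  haveI : Mono (P.map (Abelian.image.ι φ)) := inferInstance
  have hm : ∀ i, (P.map (Abelian.image.ι φ)).app ⊤ (m i) = s i := fun i => by
    have h := congr((Scheme.Modules.Hom.app
      $(show (biproduct.ι (fun _ : Fin r => unitMod X) i ≫ Abelian.factorThruImage φ) ≫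
        Abelian.image.ι φ = unitHom (N := ratMod X) (s i) by
          rw [Category.assoc, Abelian.image.fac, biproduct.ι_desc]) ⊤) (toUnit 1))
    rw [Scheme.Modules.Hom.comp_app, ConcreteCategory.comp_apply, unitHom_app_one] at h
    exact h
  have hcomp : biproduct.desc (fun i => unitHom (m i)) ≫ P.map (Abelian.image.ι φ) =
      biproduct.desc fun i => unitHom (N := P.obj (ratMod X)) (s i) := by
    refine biproduct.hom_ext' _ _ fun i => ?_
    rw [biproduct.ι_desc_assoc, biproduct.ι_desc, unitHom_comp, hm]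
  have hb := bijective_stalk_desc_unitHom (N := P.obj (ratMod X)) s _ hs
  rw [← hcomp] at hb
  have hinj := injective_stalkMapM_of_mono (P.map (Abelian.image.ι φ)) (f (genericPoint X))
  refine ⟨fun a b h => hb.1 ?_, fun y => ?_⟩
  · rw [stalkMapM_comp, stalkMapM_comp, h]
  · obtain ⟨a, ha⟩ := hb.2 (stalkMapM (P.map (Abelian.image.ι φ)) _ y)
    exact ⟨a, hinj (by rw [← stalkMapM_comp, ha])⟩

end Groth.Agent.QC70
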