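import Groth.Agent.QC70.UnitSub
import Mathlib.LinearAlgebra.DirectSum.Finsupp
import Mathlib.RingTheory.Flat.Basic

set_option autoImplicit false
set_option backward.isDefEq.respectTransparency.types false

/-! Stalks of arbitrary coproducts. -/

noncomputable section

universe u

open CategoryTheory Limits AlgebraicGeometry TopologicalSpace Opposite DirectSum

namespace Groth.Agent.QC70

variable {X : Scheme.{u}} {κ : Type u} (M : κ → X.Modules) (x : X)

open scoped Classical in
/-- The projection of a coproduct onto a summand. -/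
def coprojection (j : κ) : (∐ M) ⟶ M j :=
  Sigma.desc fun i => if h : i = j then eqToHom (congrArg M h) else 0

lemma ι_coprojection_self (j : κ) : Sigma.ι M j ≫ coprojection M j = 𝟙 (M j) := by
  rw [coprojection, Sigma.ι_desc, dif_pos rfl, eqToHom_refl]

lemma ι_coprojection_ne {i j : κ} (h : i ≠ j) : Sigma.ι M i ≫ coprojection M j = 0 := by
  rw [coprojection, Sigma.ι_desc, dif_neg h]

open scoped Classical in
/-- The map from the direct sum of stalks to the stalk of the coproduct. -/
def coprodStalkMap :
    (⨁ j, (M j).presheaf.stalk x) →ₗ[X.presheaf.stalk x] (∐ M).presheaf.stalk x :=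
  DirectSum.toModule _ _ _ fun j => stalkLinear (Sigma.ι M j) x

open scoped Classical in
lemma coprodStalkMap_lof (j : κ) (e : (M j).presheaf.stalk x) :
    coprodStalkMap M x (DirectSum.lof (X.presheaf.stalk x) κ (fun j => (M j).presheaf.stalk x) j e) =
      stalkMapM (Sigma.ι M j) x e :=
  DirectSum.toModule_lof _ _ _

open scoped Classical in
lemma stalkMapM_coprojection_coprodStalkMap (j : κ) (v : ⨁ j, (M j).presheaf.stalk x) :
    stalkMapM (coprojection M j) x (coprodStalkMap M x v) = v j := by
  change ((stalkLinear (coprojection M j) x).comp (coprodStalkMap M x)) v =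
    DirectSum.component (X.presheaf.stalk x) κ (fun j => (M j).presheaf.stalk x) j v
  refine LinearMap.congr_fun (DirectSum.linearMap_ext _ fun i => LinearMap.ext fun e => ?_) v
  simp only [LinearMap.comp_apply, DirectSum.component.of, coprodStalkMap_lof]
  change stalkMapM (coprojection M j) x (stalkMapM (Sigma.ι M i) x e) = _
  rw [← stalkMapM_comp]
  by_cases h : i = j
  · subst h
    rw [dif_pos rfl, ι_coprojection_self]
    exact stalkMapM_id x e
  · rw [dif_neg h, ι_coprojection_ne M h]
    exact stalkMapM_zero x e

theorem surjective_coprodStalkMap : Function.Surjective (coprodStalkMap M x) := by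
  classical
  let E : LocalSubmod (∐ M) :=
    { obj := fun V =>
        { carrier := {s | ∀ (y : X) (hy : y ∈ V),
            germM (∐ M) V y hy s ∈ LinearMap.range (coprodStalkMap M y)}
          add_mem' := fun {a b} ha hb y hy => by rw [germM_add]; exact add_mem (ha y hy) (hb y hy)
          zero_mem' := fun y hy => by rw [germM_zero]; exact zero_mem _
          smul_mem' := fun c s hs y hy => by
            rw [germM_smul]; exact Submodule.smul_mem _ _ (hs y hy) }
      res_mem := fun {V W} h s hs y hy => by rw [germM_res]; exact hs y (h hy)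
      of_locally := fun {V} s h y hy => by
        obtain ⟨W, hW, hyW, hs⟩ := h y hy
        rw [← germM_res hW hyW s]
        exact hs y hyW }
  let l : (∐ M) ⟶ E.mod := Sigma.desc fun j => E.lift (Sigma.ι M j) fun V s y hy =>
    ⟨DirectSum.lof (X.presheaf.stalk y) κ (fun j => (M j).presheaf.stalk y) j (germM (M j) V y hy s),
      (coprodStalkMap_lof M y j _).trans (stalkMapM_germ _ hy s)⟩
  have hl : l ≫ E.ι = 𝟙 _ := Sigma.hom_ext _ _ fun j => by
    rw [Sigma.ι_desc_assoc, E.lift_ι, Category.comp_id]
  intro e
  obtain ⟨V, hxV, s, rfl⟩ := germM_exist e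
  have hs : s ∈ E.obj V := by
    have h : E.ι.app V (l.app V s) = s := congr((Scheme.Modules.Hom.app $hl V) s)
    rw [← h, LocalSubmod.ι_app]
    exact (show E.obj V from l.app V s).2
  exact hs x hxV

/-- The stalk of a coproduct is the direct sum of the stalks. -/
def coprodStalkEquiv :
    (⨁ j, (M j).presheaf.stalk x) ≃ₗ[X.presheaf.stalk x] (∐ M).presheaf.stalk x :=
  LinearEquiv.ofBijective (coprodStalkMap M x)
    ⟨fun a b h => DirectSum.ext_component (X.presheaf.stalk x) fun j => by
      change a j = b j
      rw [← stalkMapM_coprojection_coprodStalkMap M x j a,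
        ← stalkMapM_coprojection_coprodStalkMap M x j b, h],
      surjective_coprodStalkMap M x⟩

theorem exists_finset_stalk (e : (∐ M).presheaf.stalk x) :
    ∃ s : Finset κ, e = stalkMapM (∑ j ∈ s, coprojection M j ≫ Sigma.ι M j) x e := by
  classical
  obtain ⟨v, rfl⟩ := surjective_coprodStalkMap M x e
  refine ⟨v.support, ?_⟩
  rw [stalkMapM_sum]
  conv_lhs => rw [← DirectSum.sum_support_of v, map_sum]
  refine Finset.sum_congr rfl fun j _ => ?_
  rw [stalkMapM_comp, stalkMapM_coprojection_coprodStalkMap]
  exact coprodStalkMap_lof M x j (v j)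

section ExtZeroStalk

variable {X : Scheme.{u}} (V : X.Opens)

/-- The map from the extension by zero of the structure sheaf to the structure sheaf. -/
def extOne : CxOX.extZeroUnit V.ι ⟶ unitMod X := extHom V (toUnit (1 : Γ(X, V)))

theorem bijective_stalk_extOne {x : X} (hx : x ∈ V) :
    Function.Bijective (stalkMapM (extOne V) x) := by
  refine (bijective_stalkMapM_restrict_iff V.ι (extOne V) ⟨x, hx⟩).mp ?_
  have hh : (Scheme.Modules.restrictFunctor V.ι).map (extOne V) =
      inv ((CxOX.extZeroAdj V.ι).unit.app (Coh.structureModule V.toScheme)) ≫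
        unitHom (N := (unitMod X).restrict V.ι) (res (unitMod X) V.ι_image_top.le (toUnit 1)) := by
    rw [IsIso.eq_inv_comp]
    exact (Adjunction.homEquiv_unit _ _ _ _).symm.trans (Equiv.apply_symm_apply _ _)
  rw [hh]
  haveI : IsIso (unitHom (N := (unitMod X).restrict V.ι)
      (res (unitMod X) V.ι_image_top.le (toUnit (1 : Γ(X, V))))) := by
    refine isIso_of_bijective_stalkMapM _ fun u => ⟨?_, fun e => ?_⟩
    · refine (injective_iff_map_eq_zero (stalkLinear _ u)).mpr fun e he => ?_
      obtain ⟨W, huW, a, rfl⟩ := germM_exist e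
      obtain ⟨W', hW, huW', h0⟩ := germM_eq_zero ((stalkMapM_germ _ huW a).symm.trans he)
      rw [← germM_res hW huW' a]
      have h1 : (V.ι.appIso W').inv (show Γ(V.toScheme, W') from res (unitMod V.toScheme) hW a) *
          resO X (V.ι.image_mono (le_top : W' ≤ ⊤)) (resO X V.ι_image_top.le (1 : Γ(X, V))) = 0 := by
        rw [← app_res] at h0
        exact h0
      rw [show resO X (V.ι.image_mono (le_top : W' ≤ ⊤)) (resO X V.ι_image_top.le (1 : Γ(X, V))) = 1
        from by rw [resO_resO]; exact map_one (X.presheaf.map _).hom, mul_one] at h1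
      have h2 : res (unitMod V.toScheme) hW a = 0 := by
        have h3 := congrArg (V.ι.appIso W').hom h1
        rw [Iso.inv_hom_id_apply, map_zero] at h3
        exact h3
      rw [h2]
      exact germM_zero huW'
    · obtain ⟨W, huW, b, rfl⟩ := germM_exist e
      refine ⟨germM _ W u huW (toUnit ((V.ι.appIso W).hom (show Γ(X, V.ι ''ᵁ W) from b))), ?_⟩
      rw [stalkMapM_germ]
      refine congrArg (germM _ W u huW) ?_
      change (V.ι.appIso W).inv ((V.ι.appIso W).hom (show Γ(X, V.ι ''ᵁ W) from b)) *
        resO X (V.ι.image_mono (le_top : W ≤ ⊤)) (resO X V.ι_image_top.le (1 : Γ(X, V))) =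
          (show Γ(X, V.ι ''ᵁ W) from b)
      rw [Iso.hom_inv_id_apply, resO_resO, show resO X _ (1 : Γ(X, V)) = 1 from
        map_one (X.presheaf.map _).hom, mul_one]
  exact bijective_stalkMapM_of_isIso _ _

theorem flat_stalk_extZeroUnit (x : X) :
    Module.Flat (X.presheaf.stalk x) ((CxOX.extZeroUnit V.ι).presheaf.stalk x) := by
  by_cases hx : x ∈ V
  · exact Module.Flat.of_linearEquiv
      ((LinearEquiv.ofBijective (stalkLinear (extOne V) x) (bijective_stalk_extOne V hx)).trans
        (unitStalkEquiv x).symm)
  · haveI := subsingleton_stalk_extZero V.ι (Coh.structureModule V.toScheme) (x := x)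
      (by rwa [Scheme.Opens.range_ι])
    infer_instance

end ExtZeroStalk

end Groth.Agent.QC70
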