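import Groth.Agent.QC70.Ideal

set_option autoImplicit false
set_option backward.isDefEq.respectTransparency.types false

/-! Intersections of subobjects of modules on a scheme. -/

noncomputable section

universe u

open CategoryTheory Limits AlgebraicGeometry TopologicalSpace Opposite

namespace Groth.Agent.QC70

variable {X : Scheme.{u}} {A B C : X.Modules} (f : A ⟶ B) (g : C ⟶ B) [Mono f] [Mono g]

lemma subobject_inf_mk :
    Subobject.mk f ⊓ Subobject.mk g =
      Subobject.mk (kernel.ι (f ≫ cokernel.π g) ≫ f) := by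
  refine le_antisymm ?_ (le_inf ?_ ?_)
  · let a := (Subobject.mk f).factorThru _ (Subobject.inf_arrow_factors_left (Subobject.mk f) (Subobject.mk g))
    let b := (Subobject.mk g).factorThru _ (Subobject.inf_arrow_factors_right (Subobject.mk f) (Subobject.mk g))
    let a' := a ≫ (Subobject.underlyingIso f).hom
    let b' := b ≫ (Subobject.underlyingIso g).hom
    have ha : a' ≫ f = (Subobject.mk f ⊓ Subobject.mk g).arrow := by
      simp [a', a]
    have hb : b' ≫ g = (Subobject.mk f ⊓ Subobject.mk g).arrow := by
      simp [b', b]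
    refine Subobject.le_mk_of_comm (kernel.lift _ a' ?_) ?_
    · rw [reassoc_of% ha, ← hb, Category.assoc, cokernel.condition, comp_zero]
    · rw [kernel.lift_ι_assoc, ha]
  · exact Subobject.mk_le_mk_of_comm (kernel.ι _) rfl
  · refine Subobject.mk_le_mk_of_comm (Abelian.monoLift g (kernel.ι (f ≫ cokernel.π g) ≫ f) ?_)
      (Abelian.monoLift_comp g _ _)
    rw [Category.assoc, kernel.condition]

lemma range_kernel_comp (U : X.Opens) :
    Set.range ((kernel.ι (f ≫ cokernel.π g) ≫ f).app U) =
      Set.range (f.app U) ∩ Set.range (g.app U) := by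
  ext x
  constructor
  · rintro ⟨k, rfl⟩
    refine ⟨⟨(kernel.ι (f ≫ cokernel.π g)).app U k, rfl⟩, ?_⟩
    obtain ⟨c, hc⟩ := exists_app_eq_of_exact (ShortComplex.mk g (cokernel.π g) (cokernel.condition g))
      (ShortComplex.exact_of_g_is_cokernel _ (cokernelIsCokernel g)) U
      ((kernel.ι (f ≫ cokernel.π g) ≫ f).app U k) (by
        change (cokernel.π g).app U ((kernel.ι (f ≫ cokernel.π g) ≫ f).app U k) = 0
        rw [← ConcreteCategory.comp_apply, ← Scheme.Modules.Hom.comp_app, Category.assoc,
          kernel.condition, Scheme.Modules.Hom.zero_app]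
        rfl)
    exact ⟨c, hc⟩
  · rintro ⟨⟨a, rfl⟩, c, hc⟩
    obtain ⟨k, hk⟩ := exists_kernel_app_eq (f ≫ cokernel.π g) U a (by
      rw [Scheme.Modules.Hom.comp_app, ConcreteCategory.comp_apply, ← hc,
        ← ConcreteCategory.comp_apply, ← Scheme.Modules.Hom.comp_app, cokernel.condition,
        Scheme.Modules.Hom.zero_app]
      rfl)
    exact ⟨k, by rw [Scheme.Modules.Hom.comp_app, ConcreteCategory.comp_apply, hk]⟩

lemma range_inf_arrow (U : X.Opens) :
    Set.range ((Subobject.mk f ⊓ Subobject.mk g).arrow.app U) =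
      Set.range (f.app U) ∩ Set.range (g.app U) := by
  rw [subobject_inf_mk, ← range_kernel_comp]
  conv_lhs => rw [← Subobject.underlyingIso_hom_comp_eq_mk]
  rw [Scheme.Modules.Hom.comp_app, CategoryTheory.ConcreteCategory.coe_comp]
  refine Function.Surjective.range_comp ?_ _
  exact (ConcreteCategory.bijective_of_isIso _).2

lemma isQuasicoherent_inf [A.IsQuasicoherent] [B.IsQuasicoherent] [C.IsQuasicoherent] :
    (Subobject.underlying.obj (Subobject.mk f ⊓ Subobject.mk g) : X.Modules).IsQuasicoherent := by
  rw [subobject_inf_mk]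
  have := isQuasicoherent_cokernel g
  exact isQuasicoherent_of_iso (Subobject.underlyingIso _).symm
    (isQuasicoherent_kernel (f ≫ cokernel.π g))

end Groth.Agent.QC70
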