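import Groth.Agent.QC70.DevissageAux
import Mathlib.LinearAlgebra.Dimension.Free

set_option autoImplicit false
set_option backward.isDefEq.respectTransparency.types false

/-! The stalk at the generic point of a direct image from an integral closed subscheme. -/

noncomputable section

universe u

open CategoryTheory Limits AlgebraicGeometry TopologicalSpace Opposite

namespace Groth.Agent.QC70

/-- A module killed by the maximal ideal is a power of a nonzero cyclic one. -/
theorem exists_pi_equiv {R : Type*} [CommRing R] [IsLocalRing R] {A B : Type*}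
    [AddCommGroup A] [Module R A] [AddCommGroup B] [Module R B] [Module.Finite R B]
    (a : A) (ha : Function.Surjective fun r : R => r • a) (hnt : a ≠ 0)
    (hA : ∀ r ∈ IsLocalRing.maximalIdeal R, ∀ m : A, r • m = 0)
    (hB : ∀ r ∈ IsLocalRing.maximalIdeal R, ∀ m : B, r • m = 0) :
    ∃ r : ℕ, Nonempty ((Fin r → A) ≃ₗ[R] B) := by
  let m := IsLocalRing.maximalIdeal R
  letI : Field (R ⧸ m) := Ideal.Quotient.field m
  have hker : LinearMap.ker (LinearMap.toSpanSingleton R A a) = m := by
    refine le_antisymm ?_ fun r hr => hA r hr a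
    exact IsLocalRing.le_maximalIdeal fun h => hnt (by
      simpa [LinearMap.toSpanSingleton_apply] using
        (h.ge (trivial : (1 : R) ∈ (⊤ : Ideal R)) :
          (1 : R) ∈ LinearMap.ker (LinearMap.toSpanSingleton R A a)))
  let eA : (R ⧸ m) ≃ₗ[R] A :=
    (Submodule.quotEquivOfEq _ _ hker.symm).trans
      ((LinearMap.toSpanSingleton R A a).quotKerEquivOfSurjective ha)
  have hB' : Module.IsTorsionBySet R B (m : Set R) := fun x a => hB a.1 a.2 x
  letI : Module (R ⧸ m) B := hB'.module
  haveI : IsScalarTower R (R ⧸ m) B := hB'.isScalarTower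
  haveI : Module.Finite (R ⧸ m) B := Module.Finite.of_restrictScalars_finite R _ _
  exact ⟨Module.finrank (R ⧸ m) B, ⟨(LinearEquiv.piCongrRight fun _ => eA.symm).trans
    (((Module.finBasis (R ⧸ m) B).equivFun.restrictScalars R).symm)⟩⟩

variable {X Z : Scheme.{u}} (i : Z ⟶ X) [IsClosedImmersion i]

/-- The stalk of `i_* O_Z` is cyclic. -/
theorem exists_generator_stalk_push_unit (z : Z) :
    ∃ a : ((Scheme.Modules.pushforward i).obj (Coh.structureModule Z)).presheaf.stalk (i z),
      a ≠ 0 ∧ Function.Surjective fun r : X.presheaf.stalk (i z) => r • a := by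
  obtain ⟨a, ha⟩ := (bijective_pushStalk i (Coh.structureModule Z) z).2
    (germM (unitMod Z) ⊤ z trivial (toUnit 1))
  refine ⟨a, fun h0 => ?_, fun e => ?_⟩
  · haveI := nontrivial_stalk_unit z
    obtain ⟨x, y, hxy⟩ := exists_pair_ne ((Coh.structureModule Z).presheaf.stalk z)
    have h1 : germM (unitMod Z) ⊤ z trivial (toUnit 1) = 0 := by rw [← ha, h0, map_zero]
    have : ∀ x : (unitMod Z).presheaf.stalk z, x = 0 := by
      intro x
      obtain ⟨W, hzW, s, rfl⟩ := germM_exist x
      rw [show s = (show Γ(Z, W) from s) • res (unitMod Z) le_top (toUnit (1 : Γ(Z, ⊤))) from by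
        rw [show res (unitMod Z) (le_top : W ≤ ⊤) (toUnit (1 : Γ(Z, ⊤))) = toUnit 1 from
          congrArg toUnit (map_one (Z.presheaf.map (homOfLE (le_top : W ≤ ⊤)).op).hom),
          smul_unit, mul_one], germM_smul, germM_res, h1, smul_zero]
    exact hxy ((this x).trans (this y).symm)
  · obtain ⟨W, hzW, s, hs⟩ := germM_exist (pushStalk i (Coh.structureModule Z) z e)
    obtain ⟨r, hr⟩ := i.stalkMap_surjective z (Z.presheaf.germ W z hzW (show Γ(Z, W) from s))
    refine ⟨r, (bijective_pushStalk i (Coh.structureModule Z) z).1 ?_⟩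
    rw [pushStalk_smul, ha, hr, ← hs, ← germM_res (le_top : W ≤ ⊤) hzW (toUnit (1 : Γ(Z, ⊤))),
      show res (unitMod Z) (le_top : W ≤ ⊤) (toUnit (1 : Γ(Z, ⊤))) = toUnit 1 from
          congrArg toUnit (map_one (Z.presheaf.map (homOfLE (le_top : W ≤ ⊤)).op).hom),
      ← germM_smul, smul_unit, mul_one]

theorem exists_mono_pushforward_ideal_pow [IsNoetherian X] [IsIntegral Z] (F : X.Modules)
    (hF : Coh.IsCoh F)
    (hann : ∀ a ∈ IsLocalRing.maximalIdeal (X.presheaf.stalk (i (genericPoint Z))),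
      ∀ m : F.presheaf.stalk (i (genericPoint Z)), a • m = 0) :
    ∃ (r : ℕ) (I : Z.Modules) (ι : I ⟶ Coh.structureModule Z)
      (φ : (Scheme.Modules.pushforward i).obj (∐ fun _ : Fin r => I) ⟶ F),
      Mono ι ∧ Coh.IsCoh I ∧ Mono φ ∧
      ∃ U : X.Opens, i (genericPoint Z) ∈ U ∧
        IsIso ((Scheme.Modules.restrictFunctor U.ι).map φ) := by
  haveI : IsLocallyNoetherian Z := LocallyOfFiniteType.isLocallyNoetherian i
  obtain ⟨_, _⟩ := hF
  haveI := finite_stalk F (i (genericPoint Z))
  let A := (Scheme.Modules.pushforward i).obj (Coh.structureModule Z)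
  obtain ⟨a, hne, hsur⟩ := exists_generator_stalk_push_unit i (genericPoint Z)
  obtain ⟨r, ⟨e⟩⟩ := exists_pi_equiv (R := X.presheaf.stalk (i (genericPoint Z))) a hsur hne
    (stalk_pushforward_killed i (Coh.structureModule Z)) hann
  have hA : Coh.IsCoh A := isCoh_pushforward i _ isCoh_unit
  obtain ⟨J, ψ, hJ, hψm, hψb⟩ := exists_mono_iso_at (isCoh_biproduct (fun _ : Fin r => A) fun _ => hA)
    (F := F) ⟨‹_›, ‹_›⟩ _ ((biproductStalkEquiv (fun _ : Fin r => A) _).trans e)
  let I := (Dual3.idealMul (J.comap i)).obj (Coh.structureModule Z)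
  have hI : Coh.IsCoh I := isCoh_idealMul _ isCoh_unit
  haveI : (Coh.structureModule Z).IsQuasicoherent := isCoh_unit.1
  obtain ⟨e₁, he₁⟩ := exists_iso_pushforward_idealMul i (Coh.structureModule Z) J
  let c : (Scheme.Modules.pushforward i).obj (∐ fun _ : Fin r => I) ≅
      (Dual3.idealMul J).obj (⨁ fun _ : Fin r => A) :=
    (Scheme.Modules.pushforward i).mapIso (biproduct.isoCoproduct fun _ : Fin r => I).symm ≪≫
      (Scheme.Modules.pushforward i).mapBiproduct _ ≪≫ biproduct.mapIso (fun _ => e₁) ≪≫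
        ((Dual3.idealMul J).mapBiproduct fun _ : Fin r => A).symm
  haveI := hψm
  let φ := c.hom ≫ ψ
  have hφm : Mono φ := inferInstance
  refine ⟨r, I, Dual3.idealMulι _ _, φ, inferInstance, hI, hφm, ?_⟩
  have hsrj : Function.Surjective (stalkMapM φ (i (genericPoint Z))) := fun y => by
    obtain ⟨t, rfl⟩ := hψb.2 y
    obtain ⟨s, rfl⟩ := surjective_stalkMapM_of_epi c.hom (i (genericPoint Z)) t
    exact ⟨s, stalkMapM_comp _ _ _ s⟩
  have hsrc : Coh.IsCoh ((Scheme.Modules.pushforward i).obj (∐ fun _ : Fin r => I)) :=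
    isCoh_pushforward i _ (isCoh_of_iso (biproduct.isoCoproduct fun _ : Fin r => I)
      (isCoh_biproduct _ fun _ => hI))
  haveI := (isCoh_cokernel φ hsrc.1 ⟨‹_›, ‹_›⟩).2
  obtain ⟨U, hU, hU'⟩ := exists_nhd_sections_subsingleton (M := cokernel φ) _
    (subsingleton_stalk_cokernel φ _ hsrj)
  refine ⟨U, hU, ?_⟩
  have h1 := epi_restrict_of_cokernel_subsingleton φ hU'
  have h2 : Mono ((Scheme.Modules.restrictFunctor U.ι).map φ) :=
    mono_restrict_of_kernel_subsingleton φ fun W _ => subsingleton_of_forall_eq 0 fun s => by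
      have e := congr((Scheme.Modules.Hom.app $(kernel.ι_of_mono φ) W) s)
      exact app_injective_of_mono (kernel.ι φ) W (e.trans (map_zero _).symm)
  exact isIso_of_mono_of_epi _

end Groth.Agent.QC70
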