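import Groth.Agent.QC70.UnitSub
import Mathlib.Topology.Sober

set_option autoImplicit false
set_option backward.isDefEq.respectTransparency.types false

/-! Finiteness for submodules of the structure sheaf of a Noetherian scheme. -/

noncomputable section

universe u

open CategoryTheory Limits AlgebraicGeometry TopologicalSpace Opposite

namespace Groth.Agent.QC70

variable {X : Scheme.{u}} [IsNoetherian X]

/-- Induction on closed subsets along generic points. -/
theorem closeds_induction (P : Set X → Prop) (hempty : P ∅)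
    (hunion : ∀ s t, P s → P t → P (s ∪ t))
    (hmono : ∀ s t, s ⊆ t → P t → P s)
    (hgen : ∀ y : X, ∃ D : X.Opens, y ∈ D ∧ P (closure {y} ∩ D)) : P Set.univ := by
  suffices ∀ Y : Closeds X, P (Y : Set X) from this ⟨Set.univ, isClosed_univ⟩
  intro Y
  induction Y using WellFoundedLT.induction with
  | ind Y ih =>
  by_cases hirr : IsIrreducible (Y : Set X)
  · obtain ⟨y, hy⟩ := QuasiSober.sober hirr Y.isClosed
    obtain ⟨D, hyD, hD⟩ := hgen y
    let Y' : Closeds X := ⟨(Y : Set X) \ D, Y.isClosed.sdiff D.2⟩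
    have hlt : Y' < Y := lt_of_le_not_ge (fun z hz => hz.1) fun hle => (hle hy.mem).2 hyD
    refine hmono _ _ ?_ (hunion _ _ hD (ih Y' hlt))
    intro z hz
    by_cases hzD : z ∈ D
    · exact Or.inl ⟨hy.def.ge hz, hzD⟩
    · exact Or.inr ⟨hz, hzD⟩
  · by_cases he : (Y : Set X) = ∅
    · rwa [he]
    have hnp : ¬ IsPreirreducible (Y : Set X) :=
      fun h => hirr ⟨Set.nonempty_iff_ne_empty.mpr he, h⟩
    rw [isPreirreducible_iff_isClosed_union_isClosed] at hnp
    push Not at hnp
    obtain ⟨z₁, z₂, hz₁, hz₂, hsub, hn₁, hn₂⟩ := hnp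
    let Y₁ : Closeds X := ⟨(Y : Set X) ∩ z₁, Y.isClosed.inter hz₁⟩
    let Y₂ : Closeds X := ⟨(Y : Set X) ∩ z₂, Y.isClosed.inter hz₂⟩
    refine hmono _ _ ?_ (hunion _ _
      (ih Y₁ (lt_of_le_not_ge (fun z hz => hz.1) fun h => hn₁ fun z hz => (h hz).2))
      (ih Y₂ (lt_of_le_not_ge (fun z hz => hz.1) fun h => hn₂ fun z hz => (h hz).2)))
    intro z hz
    rcases hsub hz with h | h
    · exact Or.inl ⟨hz, h⟩
    · exact Or.inr ⟨hz, h⟩

/-- An increasing sequence of submodules of the structure sheaf is stationary. -/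
theorem exists_stationary (G : ℕ → X.Modules) (ι : ∀ n, G n ⟶ unitMod X)
    (hle : ∀ n x, LinearMap.range (stalkLinear (ι n) x) ≤ LinearMap.range (stalkLinear (ι (n + 1)) x)) :
    ∃ n, ∀ m, n ≤ m → ∀ x,
      LinearMap.range (stalkLinear (ι m) x) ≤ LinearMap.range (stalkLinear (ι n) x) := by
  have hmono : ∀ x, Monotone fun n => LinearMap.range (stalkLinear (ι n) x) :=
    fun x => monotone_nat_of_le_succ fun n => hle n x
  let P : Set X → Prop := fun Z => ∃ n, ∀ m, n ≤ m → ∀ x ∈ Z,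
    LinearMap.range (stalkLinear (ι m) x) ≤ LinearMap.range (stalkLinear (ι n) x)
  obtain ⟨n, hn⟩ : P Set.univ := by
    refine closeds_induction P ⟨0, fun _ _ _ h => h.elim⟩ ?_ ?_ ?_
    · rintro s t ⟨a, ha⟩ ⟨b, hb⟩
      refine ⟨max a b, fun m hm x hx => ?_⟩
      rcases hx with hx | hx
      · exact (ha m (le_of_max_le_left hm) x hx).trans (hmono x (le_max_left a b))
      · exact (hb m (le_of_max_le_right hm) x hx).trans (hmono x (le_max_right a b))
    · rintro s t hst ⟨a, ha⟩
      exact ⟨a, fun m hm x hx => ha m hm x (hst hx)⟩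
    · intro y
      haveI := isNoetherian_stalk_unit y
      obtain ⟨n₀, hn₀⟩ := monotone_stabilizes_iff_noetherian.mpr inferInstance
        (⟨_, hmono y⟩ : ℕ →o Submodule (X.presheaf.stalk y) ((unitMod X).presheaf.stalk y))
      obtain ⟨D, k, s, hyD, hD⟩ := exists_spread (ι n₀) y
      refine ⟨D, hyD, n₀, fun m hm x hx => ?_⟩
      refine (hD (G m) (ι m) (hn₀ m hm).ge x hx.2 (specializes_iff_mem_closure.mpr hx.1)).trans ?_
      rw [Submodule.span_le]
      rintro _ ⟨i, rfl⟩
      exact ⟨germM _ D x hx.2 (s i), stalkMapM_germ (ι n₀) hx.2 (s i)⟩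
  exact ⟨n, fun m hm x => hn m hm x (Set.mem_univ x)⟩

/-- The stalks of an ideal sheaf are generated by finitely many sections on finitely many opens. -/
theorem exists_finite_generators {G : X.Modules} (ι : G ⟶ unitMod X) [Mono ι] :
    ∃ (m : ℕ) (U : Fin m → X.Opens) (k : Fin m → ℕ) (s : (i : Fin m) → Fin (k i) → Γ(G, U i)),
      ∀ x : X, Submodule.span (X.presheaf.stalk x)
        (Set.range fun p : (Σ i : {i : Fin m // x ∈ U i}, Fin (k i.1)) =>
          germM G (U p.1.1) x p.1.2 (s p.1.1 p.2)) = ⊤ := by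
  let P : Set X → Prop := fun Z => ∃ (m : ℕ) (U : Fin m → X.Opens) (k : Fin m → ℕ)
    (s : (i : Fin m) → Fin (k i) → Γ(G, U i)), ∀ x ∈ Z, Submodule.span (X.presheaf.stalk x)
      (Set.range fun p : (Σ i : {i : Fin m // x ∈ U i}, Fin (k i.1)) =>
        germM G (U p.1.1) x p.1.2 (s p.1.1 p.2)) = ⊤
  obtain ⟨m, U, k, s, h⟩ : P Set.univ := by
    refine closeds_induction P ⟨0, Fin.elim0, Fin.elim0, fun i => i.elim0, fun _ h => h.elim⟩ ?_ ?_ ?_
    · rintro a b ⟨m, U, k, s, h⟩ ⟨m', U', k', s', h'⟩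
      let F : Fin m ⊕ Fin m' → Σ (V : X.Opens) (n : ℕ), Fin n → Γ(G, V) :=
        Sum.elim (fun i => ⟨U i, k i, s i⟩) (fun i => ⟨U' i, k' i, s' i⟩)
      let e := (finSumFinEquiv (m := m) (n := m')).symm
      refine ⟨m + m', fun i => (F (e i)).1, fun i => (F (e i)).2.1, fun i => (F (e i)).2.2,
        fun x hx => eq_top_iff.mpr ?_⟩
      have key : ∀ (c : Fin m ⊕ Fin m') (hc : x ∈ (F c).1) (j : Fin (F c).2.1),
          germM G (F c).1 x hc ((F c).2.2 j) ∈ Set.range
            fun p : (Σ i : {i : Fin (m + m') // x ∈ (F (e i)).1}, Fin (F (e i.1)).2.1) =>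
              germM G (F (e p.1.1)).1 x p.1.2 ((F (e p.1.1)).2.2 p.2) := by
        intro c hc j
        obtain ⟨i, rfl⟩ := e.surjective c
        exact ⟨⟨⟨i, hc⟩, j⟩, rfl⟩
      rcases hx with hx | hx
      · rw [← h x hx, Submodule.span_le]
        rintro _ ⟨⟨⟨i, hi⟩, j⟩, rfl⟩
        exact Submodule.subset_span (key (Sum.inl i) hi j)
      · rw [← h' x hx, Submodule.span_le]
        rintro _ ⟨⟨⟨i, hi⟩, j⟩, rfl⟩
        exact Submodule.subset_span (key (Sum.inr i) hi j)
    · rintro a b hab ⟨m, U, k, s, h⟩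
      exact ⟨m, U, k, s, fun x hx => h x (hab hx)⟩
    · intro y
      obtain ⟨D, k, s, hyD, hD⟩ := exists_spread ι y
      refine ⟨D, hyD, 1, fun _ => D, fun _ => k, fun _ => s, fun x hx => eq_top_iff.mpr fun e _ => ?_⟩
      have h := hD G ι le_rfl x hx.2 (specializes_iff_mem_closure.mpr hx.1) ⟨e, rfl⟩
      have himg : Set.range (fun i => germM (unitMod X) D x hx.2 (ι.app D (s i))) =
          stalkLinear ι x '' Set.range (fun i => germM G D x hx.2 (s i)) := by
        rw [← Set.range_comp]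
        exact congrArg Set.range (funext fun i => (stalkMapM_germ ι hx.2 (s i)).symm)
      rw [himg, Submodule.span_image] at h
      obtain ⟨e', he', hee⟩ := h
      rw [← injective_stalkMapM_of_mono ι x hee]
      refine Submodule.span_mono ?_ he'
      rintro _ ⟨i, rfl⟩
      exact ⟨⟨⟨0, hx.2⟩, i⟩, rfl⟩
  exact ⟨m, U, k, s, fun x => h x (Set.mem_univ x)⟩

omit [AlgebraicGeometry.IsNoetherian X] in
/-- Subobjects with the same stalks are equal. -/
theorem subobject_eq_of_stalk {M : X.Modules} {A B : Subobject M} (h : A ≤ B)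
    (hs : ∀ x, LinearMap.range (stalkLinear B.arrow x) ≤ LinearMap.range (stalkLinear A.arrow x)) :
    A = B := by
  haveI : IsIso (Subobject.ofLE A B h) := by
    refine isIso_of_bijective_stalkMapM _ fun x =>
      ⟨injective_stalkMapM_of_mono _ x, fun b => ?_⟩
    obtain ⟨a, ha⟩ := hs x ⟨b, rfl⟩
    refine ⟨a, injective_stalkMapM_of_mono B.arrow x ?_⟩
    rw [← stalkMapM_comp, Subobject.ofLE_arrow]
    exact ha
  exact Subobject.eq_of_comm (asIso (Subobject.ofLE A B h)) (Subobject.ofLE_arrow h)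

end Groth.Agent.QC70
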