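import Groth.Agent.QC70.InjLocal
import Groth.Agent.QC70.CoprodStalk
import Groth.Agent.S11158

set_option autoImplicit false
set_option backward.isDefEq.respectTransparency.types false

/-! Coproducts of injectives on locally Noetherian schemes. -/

noncomputable section

universe u

open CategoryTheory Limits AlgebraicGeometry TopologicalSpace Opposite

namespace Groth.Agent.QC70

variable {X : Scheme.{u}}

theorem injective_coproduct [IsLocallyNoetherian X] {κ : Type u} (I : κ → X.Modules)
    (hI : ∀ j, Injective (I j)) : Injective (∐ I) := by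
  classical
  refine injective_of_lift_extZeroUnit (fun V : X.affineOpens => V.1) (fun W p hp => ?_) _ ?_
  · obtain ⟨_, ⟨U, hU, rfl⟩, hpU, hUW⟩ := X.isBasis_affineOpens.exists_subset_of_mem_open hp W.2
    exact ⟨⟨U, hU⟩, hpU, hUW⟩
  intro V K i _ φ
  haveI : IsAffine V.1.toScheme := V.2
  let e : Finset κ → ((∐ I) ⟶ ∐ I) := fun s => ∑ j ∈ s, coprojection I j ≫ Sigma.ι I j
  have he : ∀ s t, s ⊆ t → e s ≫ e t = e s := fun s t hst => by
    rw [Preadditive.sum_comp]
    refine Finset.sum_congr rfl fun j hj => ?_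
    rw [Preadditive.comp_sum, Finset.sum_eq_single j]
    · rw [Category.assoc, ← Category.assoc (Sigma.ι I j), ι_coprojection_self, Category.id_comp]
    · intro b _ hb
      rw [Category.assoc, ← Category.assoc (Sigma.ι I j), ι_coprojection_ne I hb.symm, zero_comp,
        comp_zero]
    · exact fun h => absurd (hst hj) h
  let Ks : Finset κ → Subobject (CxOX.extZeroUnit V.1.ι) := fun s =>
    Subobject.mk (kernel.ι (φ - φ ≫ e s) ≫ i)
  have hmono : ∀ s t, s ⊆ t → Ks s ≤ Ks t := fun s t hst => by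
    refine Subobject.mk_le_mk_of_comm (kernel.lift _ (kernel.ι (φ - φ ≫ e s)) ?_) ?_
    · have h := kernel.condition (φ - φ ≫ e s)
      rw [Preadditive.comp_sub, sub_eq_zero] at h ⊢
      conv_rhs => rw [← Category.assoc, h, Category.assoc, Category.assoc, he s t hst]
      exact h
    · rw [kernel.lift_ι_assoc]
  obtain ⟨s, hs⟩ : ∃ s, ∀ t, s ⊆ t → Ks t ≤ Ks s := by
    by_contra hne
    push Not at hne
    choose f hf hf' using hne
    let c : ℕ → Finset κ := fun n => f^[n] ∅
    have hsucc : ∀ n, c (n + 1) = f (c n) := fun n => Function.iterate_succ_apply' f n ∅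
    obtain ⟨n, hn⟩ := Groth.Agent.S11158.result V.1.ι
      ⟨fun n => Ks (c n), monotone_nat_of_le_succ fun n => hmono _ _ (hsucc n ▸ hf (c n))⟩
    exact hf' (c n) (hsucc n ▸ (hn (n + 1) (Nat.le_succ n)).ge)
  have key : φ = φ ≫ e s := by
    rw [← sub_eq_zero]
    refine Scheme.Modules.hom_ext _ _ fun W => ?_
    ext z
    refine section_ext _ _ 0 fun p hp => ?_
    obtain ⟨t, ht⟩ := exists_finset_stalk I p (germM (∐ I) W p hp (φ.app W z))
    have h0 : stalkMapM (φ - φ ≫ e (s ∪ t)) p (germM K W p hp z) = 0 := by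
      have hsub : ∀ a b : K ⟶ ∐ I, stalkMapM (a - b) p (germM K W p hp z) =
          stalkMapM a p (germM K W p hp z) - stalkMapM b p (germM K W p hp z) := fun a b => by
        rw [eq_sub_iff_add_eq, ← stalkMapM_add, sub_add_cancel]
      rw [hsub, stalkMapM_comp, stalkMapM_germ, sub_eq_zero, ht, ← stalkMapM_comp,
        he t (s ∪ t) Finset.subset_union_right]
    obtain ⟨d, hd⟩ := stalkMapM_exact (ShortComplex.mk (kernel.ι (φ - φ ≫ e (s ∪ t)))
        (φ - φ ≫ e (s ∪ t)) (kernel.condition _))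
      (ShortComplex.exact_of_f_is_kernel _ (kernelIsKernel _)) p _ h0
    obtain ⟨g, hg⟩ : ∃ g, g ≫ kernel.ι (φ - φ ≫ e s) = kernel.ι (φ - φ ≫ e (s ∪ t)) :=
      ⟨Subobject.ofMkLEMk _ _ (hs (s ∪ t) Finset.subset_union_left), by
        rw [← cancel_mono i, Category.assoc]
        exact Subobject.ofMkLEMk_comp _⟩
    have h1 : stalkMapM (φ - φ ≫ e s) p (germM K W p hp z) = 0 := by
      rw [← hd]
      change stalkMapM (φ - φ ≫ e s) p (stalkMapM (kernel.ι (φ - φ ≫ e (s ∪ t))) p d) = 0
      rw [← hg, ← stalkMapM_comp, Category.assoc, kernel.condition, comp_zero, stalkMapM_zero]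
    rw [stalkMapM_germ] at h1
    obtain ⟨W', hW, hpW', h2⟩ := germM_eq_zero h1
    exact ⟨W', hW, hpW', h2.trans (res_zero _).symm⟩
  haveI := hI
  refine ⟨∑ j ∈ s, Injective.factorThru (φ ≫ coprojection I j) i ≫ Sigma.ι I j, ?_⟩
  rw [Preadditive.comp_sum]
  refine Eq.trans (Finset.sum_congr rfl fun j _ => ?_) ((Preadditive.comp_sum _ _ _).symm.trans key.symm)
  rw [Injective.comp_factorThru_assoc, Category.assoc]

end Groth.Agent.QC70
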