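import Groth.Agent.QC70.PushGeneric

set_option autoImplicit false
set_option backward.isDefEq.respectTransparency.types false

/-! Comparison of coherent modules with direct images at the generic point. -/

noncomputable section

universe u

open CategoryTheory Limits AlgebraicGeometry TopologicalSpace Opposite

namespace Groth.Agent.QC70

/-- The finite coproduct over `ULift (Fin r)` as a biproduct. -/
def uliftCoprodIso {X : Scheme.{u}} (r : ℕ) (N : X.Modules) :
    (∐ fun _ : ULift.{u} (Fin r) => N) ≅ ⨁ fun _ : Fin r => N :=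
  Sigma.whiskerEquiv (f := fun _ : ULift.{u} (Fin r) => N) (g := fun _ : Fin r => N)
    Equiv.ulift (fun _ => Iso.refl N) ≪≫ (biproduct.isoCoproduct fun _ : Fin r => N).symm

lemma isIso_stalk_of_bijective {X : Scheme.{u}} {M N : X.Modules} (φ : M ⟶ N) (x : X)
    (h : Function.Bijective (stalkMapM φ x)) :
    IsIso ((TopCat.Presheaf.stalkFunctor AddCommGrpCat.{u} x).map
      ((SheafOfModules.toSheaf X.ringCatSheaf).map φ).hom) :=
  (ConcreteCategory.isIso_iff_bijective _).mpr h

variable {X Y : Scheme.{u}} [IsIntegral X] [IsNoetherian X] [IsIntegral Y] [IsNoetherian Y]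
  (f : X ⟶ Y) [IsFinite f] [Surjective f]

theorem exists_free_to_pushforward :
    ∃ (r : ℕ) (M : X.Modules) (α : (∐ fun _ : ULift.{u} (Fin r) => unitMod Y) ⟶
        (Scheme.Modules.pushforward f).obj M),
      0 < r ∧ Coh.IsCoh M ∧ Function.Bijective (stalkMapM α (genericPoint Y)) := by
  obtain ⟨r, M, m, hr, hM, hb⟩ := exists_coh_basis f
  rw [apply_genericPoint f] at hb
  refine ⟨r, M, (uliftCoprodIso r (unitMod Y)).hom ≫ biproduct.desc (fun i => unitHom (m i)), hr,
    hM, ?_⟩
  convert hb.comp (bijective_stalkMapM_of_isIso (uliftCoprodIso r (unitMod Y)).hom _) using 1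
  exact funext fun e => stalkMapM_comp _ _ _ e

theorem exists_pushforward_to_pow (F : Y.Modules) (hF : Coh.IsCoh F) :
    ∃ (r : ℕ) (G : X.Modules) (β : (Scheme.Modules.pushforward f).obj G ⟶
        ∐ fun _ : ULift.{u} (Fin r) => F),
      0 < r ∧ Coh.IsCoh G ∧ Function.Bijective (stalkMapM β (genericPoint Y)) := by
  obtain ⟨r, M, m, hr, hM, hb⟩ := exists_coh_basis f
  rw [apply_genericPoint f] at hb
  let η := genericPoint Y
  let P := Scheme.Modules.pushforward f
  have hPM : Coh.IsCoh (P.obj M) := isCoh_pushforward_of_isFinite f M hM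
  haveI := hF.1
  haveI := hF.2
  haveI := finite_stalk F η
  letI : Field (Y.presheaf.stalk η) := (Field.toIsField Y.functionField).toField
  let eM : (Fin r → Y.presheaf.stalk η) ≃ₗ[Y.presheaf.stalk η] (P.obj M).presheaf.stalk η :=
    ((LinearEquiv.piCongrRight fun _ : Fin r => unitStalkEquiv (X := Y) η).trans
      (biproductStalkEquiv (fun _ : Fin r => unitMod Y) η).symm).trans
      (LinearEquiv.ofBijective (stalkLinear _ η) hb)
  let n := Module.finrank (Y.presheaf.stalk η) (F.presheaf.stalk η)
  haveI : Module.Finite (Y.presheaf.stalk η) ((P.obj M).presheaf.stalk η) :=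
    Module.Finite.equiv eM
  let e : (⨁ fun _ : Fin n => P.obj M).presheaf.stalk η ≃ₗ[Y.presheaf.stalk η]
      (⨁ fun _ : Fin r => F).presheaf.stalk η :=
    (biproductStalkEquiv (fun _ : Fin n => P.obj M) η).trans
      ((LinearEquiv.ofFinrankEq (Fin n → (P.obj M).presheaf.stalk η)
        (Fin r → F.presheaf.stalk η) (by
          rw [Module.finrank_pi_fintype, Module.finrank_pi_fintype, Finset.sum_const,
            Finset.sum_const, Finset.card_univ, Fintype.card_fin, Finset.card_univ,
            Fintype.card_fin, smul_eq_mul, smul_eq_mul, ← eM.finrank_eq, Module.finrank_fin_fun]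
          exact mul_comm _ _)).trans (biproductStalkEquiv (fun _ : Fin r => F) η).symm)
  obtain ⟨J, ψ, hJ, -, hψb⟩ := exists_mono_iso_at (isCoh_biproduct (fun _ : Fin n => P.obj M)
    fun _ => hPM) (isCoh_biproduct (fun _ : Fin r => F) fun _ => hF) η e
  haveI := hM.1
  obtain ⟨e₁, -⟩ := exists_iso_pushforward_idealMul_affine f M J
  let G := ⨁ fun _ : Fin n => (Dual3.idealMul (J.comap f)).obj M
  let c : P.obj G ≅ (Dual3.idealMul J).obj (⨁ fun _ : Fin n => P.obj M) :=
    P.mapBiproduct _ ≪≫ biproduct.mapIso (fun _ => e₁) ≪≫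
      ((Dual3.idealMul J).mapBiproduct fun _ : Fin n => P.obj M).symm
  refine ⟨r, G, c.hom ≫ ψ ≫ (uliftCoprodIso r F).inv, hr,
    isCoh_biproduct _ fun _ => isCoh_idealMul _ hM, ?_⟩
  convert (bijective_stalkMapM_of_isIso (uliftCoprodIso r F).inv η).comp
    (hψb.comp (bijective_stalkMapM_of_isIso c.hom η)) using 1
  exact funext fun t => by simp only [Function.comp, stalkMapM_comp]; rfl

end Groth.Agent.QC70
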