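import Groth.Agent.QC70.StalkLoc
import Groth.Agent.QCqs72.Basic
import Groth.Agent.QC70.Ideal
import Mathlib.AlgebraicGeometry.Stalk
import Mathlib.CategoryTheory.Preadditive.Injective.Basic
import Mathlib.Algebra.Module.Injective

set_option autoImplicit false
set_option backward.isDefEq.respectTransparency.types false

/-! Modules concentrated on the closure of a point, constant there (skyscraper-like modules). -/

noncomputable section

universe u

open CategoryTheory Limits AlgebraicGeometry TopologicalSpace Opposite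

namespace Groth.Agent.QC70

variable {X : Scheme.{u}}

/-- `H` is the direct image of a module on the point `x`. -/
structure IsSky (H : X.Modules) (x : X) : Prop where
  subsingleton : ∀ W : X.Opens, x ∉ W → Subsingleton Γ(H, W)
  bijective_res : ∀ {V W : X.Opens} (h : V ≤ W), x ∈ V → Function.Bijective (res H h)

namespace IsSky

variable {H : X.Modules} {x : X} (hH : IsSky H x)
include hH

lemma bijective_germ {W : X.Opens} (hx : x ∈ W) : Function.Bijective (germM H W x hx) := by
  refine ⟨fun s t hst => ?_, fun e => ?_⟩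
  · obtain ⟨W', hxW', i₁, i₂, e⟩ := TopCat.Presheaf.germ_eq H.presheaf x hx hx s t hst
    exact (hH.bijective_res i₁.le hxW').1 e
  · obtain ⟨W', hxW', s, rfl⟩ := germM_exist e
    obtain ⟨t, ht⟩ := (hH.bijective_res (inf_le_left : W ⊓ W' ≤ W)
      (show x ∈ W ⊓ W' from ⟨hx, hxW'⟩)).2 (res H inf_le_right s)
    exact ⟨t, by
      rw [← germM_res (inf_le_left : W ⊓ W' ≤ W) (show x ∈ W ⊓ W' from ⟨hx, hxW'⟩) t, ht, germM_res]⟩

/-- The morphism to a skyscraper given by a linear map at the point. -/
theorem exists_hom {G : X.Modules}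
    (ψ : G.presheaf.stalk x →ₗ[X.presheaf.stalk x] H.presheaf.stalk x) :
    ∃ φ : G ⟶ H, ∀ (W : X.Opens) (hx : x ∈ W) (s : Γ(G, W)),
      germM H W x hx (φ.app W s) = ψ (germM G W x hx s) := by
  classical
  let f : ∀ W : X.Opens, Γ(G, W) → Γ(H, W) := fun W s =>
    if hx : x ∈ W then ((hH.bijective_germ hx).2 (ψ (germM G W x hx s))).choose else 0
  have hf : ∀ (W : X.Opens) (hx : x ∈ W) (s : Γ(G, W)),
      germM H W x hx (f W s) = ψ (germM G W x hx s) := fun W hx s => by
    simp only [f, dif_pos hx]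
    exact ((hH.bijective_germ hx).2 (ψ (germM G W x hx s))).choose_spec
  have hext : ∀ (W : X.Opens) (a b : Γ(H, W)),
      (∀ hx : x ∈ W, germM H W x hx a = germM H W x hx b) → a = b := fun W a b h => by
    by_cases hx : x ∈ W
    · exact (hH.bijective_germ hx).1 (h hx)
    · exact (hH.subsingleton W hx).elim a b
  refine ⟨HomOn.toHom
    { app := fun W _ =>
        { toFun := f W
          map_add' := fun a b => hext W _ _ fun hx => by
            rw [germM_add, hf W hx, hf W hx, hf W hx, germM_add, map_add]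
          map_smul' := fun c a => hext W _ _ fun hx => by
            rw [RingHom.id_apply, germM_smul, hf W hx, hf W hx, germM_smul, map_smul] }
      app_res := fun {W W'} _ h a => hext W' _ _ fun hx => by
        rw [LinearMap.coe_mk, AddHom.coe_mk, hf W' hx, germM_res, germM_res]
        exact (hf W (h hx) a).symm }, fun W hx s => hf W hx s⟩

/-- A skyscraper with injective stalk is injective. -/
theorem injective (hinj : Module.Injective (X.presheaf.stalk x) (H.presheaf.stalk x)) :
    Injective H := by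
  refine ⟨fun {A B} φ i _ => ?_⟩
  obtain ⟨ψ, hψ⟩ := hinj.out (stalkLinear i x) (injective_stalkMapM_of_mono i x) (stalkLinear φ x)
  obtain ⟨l, hl⟩ := hH.exists_hom ψ
  refine ⟨l, Scheme.Modules.hom_ext _ _ fun W => ?_⟩
  ext s
  by_cases hx : x ∈ W
  · refine (hH.bijective_germ hx).1 ?_
    change germM H W x hx (l.app W (i.app W s)) = germM H W x hx (φ.app W s)
    rw [hl, ← stalkMapM_germ, ← stalkMapM_germ]
    exact hψ _
  · exact (hH.subsingleton W hx).elim _ _

/-- Direct images of skyscrapers are skyscrapers. -/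
theorem pushforward {Y : Scheme.{u}} (g : X ⟶ Y) :
    IsSky ((Scheme.Modules.pushforward g).obj H) (g x) where
  subsingleton W hW := hH.subsingleton (g ⁻¹ᵁ W) hW
  bijective_res {V W} h hx := by
    have h' : g ⁻¹ᵁ V ≤ g ⁻¹ᵁ W := fun z hz => h hz
    refine ⟨fun a b e => (hH.bijective_res h' hx).1 ?_, fun b => ?_⟩
    · rw [QCqs72.pushforward_res, QCqs72.pushforward_res] at e
      exact e
    · obtain ⟨a, ha⟩ := (hH.bijective_res h' hx).2 b
      exact ⟨a, (QCqs72.pushforward_res (M := H) g h a).trans ha⟩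

end IsSky

/-- A quasi-coherent module on an affine scheme whose global sections are torsion for the prime of a
point, and on which the functions outside the prime act bijectively, is a skyscraper. -/
theorem isSky_of_isLocAt {H : X.Modules} (hU : IsAffineOpen (⊤ : X.Opens)) (hH : IsLocAt H ⊤)
    (x : X)
    (htors : ∀ a : Γ(X, ⊤), x ∉ X.basicOpen a → ∀ t : Γ(H, ⊤), ∃ n : ℕ, a ^ n • t = 0)
    (hdiv : ∀ a : Γ(X, ⊤), x ∈ X.basicOpen a → Function.Bijective fun t : Γ(H, ⊤) => a • t) :
    IsSky H x := by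
  have hzero : ∀ q : X, ¬ x ⤳ q → Subsingleton (H.presheaf.stalk q) := by
    intro q hq
    rw [specializes_iff_forall_open] at hq
    push Not at hq
    obtain ⟨O, hO, hqO, hxO⟩ := hq
    obtain ⟨a, haO, hqa⟩ := hU.exists_basicOpen_le (V := ⟨O, hO⟩) ⟨q, hqO⟩ trivial
    refine subsingleton_of_forall_eq 0 fun e => ?_
    obtain ⟨f, t, hqf, ht⟩ := stalk_exists_smul hH hU (x := q) trivial e
    obtain ⟨n, hn⟩ := htors a (fun h => hxO (haO h)) t
    refine ((isUnit_germ hqf).smul_eq_zero).mp (((isUnit_germ hqa).pow n).smul_eq_zero.mp ?_)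
    rw [ht, ← map_pow, ← germM_smul, hn, germM_zero]
  have hbij : ∀ q : X, x ⤳ q → Function.Bijective (germM H ⊤ q trivial) := by
    intro q hq
    refine ⟨fun s t hst => ?_, fun e => ?_⟩
    · obtain ⟨f, hqf, h0⟩ := stalk_exists_smul_eq_zero hH hU (x := q) trivial (s - t)
        ((map_sub (H.presheaf.germ ⊤ q trivial).hom s t).trans (sub_eq_zero.mpr hst))
      exact sub_eq_zero.mp ((hdiv f (hq.mem_open (X.basicOpen f).2 hqf)).1 (h0.trans (smul_zero f).symm))
    · obtain ⟨f, t, hqf, ht⟩ := stalk_exists_smul hH hU (x := q) trivial e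
      obtain ⟨t', ht'⟩ := (hdiv f (hq.mem_open (X.basicOpen f).2 hqf)).2 t
      refine ⟨t', (isUnit_germ hqf).smul_left_cancel.mp ?_⟩
      rw [ht, ← germM_smul]
      exact congrArg _ ht'
  have hzero' : ∀ {W : X.Opens} {p : X} (hp : p ∈ W) (s : Γ(H, W)), ¬ x ⤳ p →
      ∃ (W' : X.Opens) (hW : W' ≤ W), p ∈ W' ∧ res H hW s = res H hW 0 := fun {W p} hp s hq => by
    obtain ⟨W', hW, hpW', h0⟩ := germM_eq_zero (hx := hp) (s := s) ((hzero p hq).elim _ _)
    exact ⟨W', hW, hpW', h0.trans (res_zero _).symm⟩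
  have hsub : ∀ W : X.Opens, x ∉ W → Subsingleton Γ(H, W) := fun W hW =>
    subsingleton_of_forall_eq 0 fun s =>
      section_ext H s 0 fun p hp => hzero' hp s fun h => hW (h.mem_open W.2 hp)
  have htop : ∀ W : X.Opens, x ∈ W → Function.Bijective (res H (le_top : W ≤ ⊤)) := by
    intro W hxW
    refine ⟨fun a b e => (hbij x specializes_rfl).1 ?_, fun s => ?_⟩
    · rw [← germM_res (le_top : W ≤ ⊤) hxW a, e, germM_res]
    · obtain ⟨m, hm⟩ := (hbij x specializes_rfl).2 (germM H W x hxW s)
      refine ⟨m, section_ext H _ _ fun p hp => ?_⟩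
      by_cases hxp : x ⤳ p
      · obtain ⟨m', hm'⟩ := (hbij p hxp).2 (germM H W p hp s)
        obtain ⟨W', hpW', i₁, i₂, e⟩ :=
          TopCat.Presheaf.germ_eq H.presheaf p (show p ∈ (⊤ : X.Opens) from trivial) hp m' s hm'
        have hxW' : x ∈ W' := hxp.mem_open W'.2 hpW'
        have hmm : m' = m := (hbij x specializes_rfl).1 (by
          rw [hm, ← germM_res i₁.le hxW' m', ← germM_res i₂.le hxW' s]
          exact congrArg (germM H W' x hxW') e)
        exact ⟨W', i₂.le, hpW', by rw [res_res, ← hmm]; exact e⟩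
      · obtain ⟨W', hW, hpW', h0⟩ := hzero' hp (res H le_top m - s) hxp
        exact ⟨W', hW, hpW', sub_eq_zero.mp (by rw [← res_sub, h0, res_zero])⟩
  refine ⟨hsub, fun {V W} h hxV => ⟨fun a b e => ?_, fun b => ?_⟩⟩
  · obtain ⟨a', rfl⟩ := (htop W (h hxV)).2 a
    obtain ⟨b', rfl⟩ := (htop W (h hxV)).2 b
    rw [res_res, res_res] at e
    exact congrArg _ ((htop V hxV).1 e)
  · obtain ⟨b', rfl⟩ := (htop V hxV).2 b
    exact ⟨res H le_top b', res_res _ _ _⟩

end Groth.Agent.QC70
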